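import Groth.Agent.ProjForm.Theta
import Groth.Agent.KFlat.FlatQuot
import Groth.Agent.KFlat.StalkFlat
import Groth.Agent.KFlat.TensorLocFree
import Groth.Agent.ClUnit.Basic
import Groth.Agent.LimTop.TensorQC
import Groth.Agent.IdealSh.IdealMod
import Groth.Agent.AmpleLib.Ideal
import Groth.Prelude.Def_ClSub2

/-!
# The kernel of `F ⟶ i_* i^* F` for a finite locally free `F` and a square-zero ideal

`kerι` : `I ⊗ F ⟶ F`; a map into `F` killed by the unit factors through it, and for `I ^ 2 = 0` its
source is `i_* (i^* I ⊗ i^* F)`.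
-/

set_option autoImplicit false
set_option linter.style.haveILetI false
set_option backward.isDefEq.respectTransparency false
set_option backward.isDefEq.respectTransparency.types false

universe u

open CategoryTheory CategoryTheory.Limits AlgebraicGeometry TopologicalSpace Opposite

noncomputable section

namespace Groth.Agent.LiftLib

variable {X : Scheme.{u}}

/-- `- ⊗ F`. -/
abbrev tensR (F : X.Modules) : X.Modules ⥤ X.Modules := (DCoh.tensorBi (X := X)).flip.obj F

theorem tensorMono_of_isFinLocFree {F : X.Modules} (hF : FlatMod.IsFinLocFree F) :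
    KFlat.TensorMono (O := X.sheaf) F := by
  refine KFlat.StalkTensor.tensorMono_of_flat fun x => ?_
  obtain ⟨U, n, e, hx, he⟩ := LFFrame.exists_isFrame_of_isFinLocFree hF x
  exact Module.Flat.of_linearEquiv
    (LinearEquiv.ofBijective (LFFrame.stalkComb F e x hx) (he.stalkComb_bijective x hx)).symm

variable (I : X.IdealSheafData) (F : X.Modules)

/-- `I ⊗ F ⟶ F`. -/
def kerι : (tensR F).obj (ClSub.idealMod I) ⟶ F :=
  (tensR F).map (ClSub.idealModι I) ≫ (KFlat.TensorLocFree.unitTensorIso F).hom

/-- `F ⟶ i_* O_Z ⊗ F`. -/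
def quotπ : F ⟶ (tensR F).obj (ClSub.quotMod I) :=
  (KFlat.TensorLocFree.unitTensorIso F).inv ≫ (tensR F).map (ClSub.toSubscheme I)

variable {F}

theorem exists_factor (hF : FlatMod.IsFinLocFree F) {E : X.Modules} (d : E ⟶ F)
    (hd : (Scheme.Modules.pullback I.subschemeι).map d = 0) :
    ∃ d' : E ⟶ (tensR F).obj (ClSub.idealMod I), d' ≫ kerι I F = d := by
  let i := I.subschemeι
  let adj := Scheme.Modules.pullbackPushforwardAdjunction i
  have hη : d ≫ adj.unit.app F = 0 :=
    (adj.unit.naturality d).trans (by rw [Functor.comp_map, hd, Functor.map_zero, comp_zero])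
  haveI := ProjForm.isIso_θ_of_isFinLocFree i (Coh.structureModule I.subscheme) hF
  let θ := (KFlat.ProjFormula.θ i (Coh.structureModule I.subscheme)).app F
  have hq : d ≫ quotπ I F = 0 := by
    have : quotπ I F ≫ θ = adj.unit.app F ≫
        (Scheme.Modules.pushforward i).map ((adj.homEquiv _ _).symm (quotπ I F ≫ θ)) := by
      exact ((adj.homEquiv _ _).apply_symm_apply _).symm.trans (adj.homEquiv_unit _ _ _)
    refine (cancel_mono θ).1 ?_
    rw [Category.assoc, this, ← Category.assoc, hη, zero_comp, zero_comp]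
  haveI := KFlat.preservesFiniteLimits_of_tensorMono (tensorMono_of_isFinLocFree hF)
  haveI : PreservesFiniteLimits (tensR F) :=
    KFlat.preservesFiniteLimits_of_tensorMono (tensorMono_of_isFinLocFree hF)
  have hk := isLimitForkMapOfIsLimit' (tensR F) (kernel.condition (ClSub.toSubscheme I))
    (kernelIsKernel (ClSub.toSubscheme I))
  let e : E ⟶ (tensR F).obj (Coh.structureModule X) := d ≫ (KFlat.TensorLocFree.unitTensorIso F).inv
  obtain ⟨d', hd'⟩ := KernelFork.IsLimit.lift' hk e ((Category.assoc _ _ _).trans hq)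
  refine ⟨d', ?_⟩
  have h := congrArg (· ≫ (KFlat.TensorLocFree.unitTensorIso F).hom) hd'
  simp only [e, Category.assoc, Iso.inv_hom_id, Category.comp_id] at h
  exact (Category.assoc _ _ _).symm.trans h

theorem isIso_unit_idealMod (hI : I ^ 2 = ⊥) :
    IsIso ((Scheme.Modules.pullbackPushforwardAdjunction I.subschemeι).unit.app (ClSub.idealMod I)) := by
  haveI : (ClSub.idealMod I).IsQuasicoherent := AmpleLib.isQCoh_idealMod I
  rw [ClUnit.isIso_unit_iff]
  intro U b hb s
  rw [Scheme.IdealSheafData.ker_subschemeι] at hb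
  refine Omega.Stalks.idealSect_injective I U.1 ?_
  rw [Omega.Stalks.idealSect_smul, map_zero]
  have h := Ideal.mul_mem_mul hb (IdealSh.IdealMod.sect_mem I U s)
  have h2 : I.ideal U * I.ideal U = ⊥ := by
    have := congrArg (fun J : X.IdealSheafData => J.ideal U) hI
    simpa [pow_two] using this
  rw [h2, Ideal.mem_bot] at h
  exact h

/-- `I ⊗ F ≅ i_* (i^* I ⊗ i^* F)`. -/
theorem nonempty_idealTensorIso (hI : I ^ 2 = ⊥) (hF : FlatMod.IsFinLocFree F) :
    Nonempty ((tensR F).obj (ClSub.idealMod I) ≅ (Scheme.Modules.pushforward I.subschemeι).obj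
      (CohB1.tensorMod ((Scheme.Modules.pullback I.subschemeι).obj (ClSub.idealMod I))
        ((Scheme.Modules.pullback I.subschemeι).obj F))) := by
  haveI := isIso_unit_idealMod I hI
  haveI := ProjForm.isIso_θ_of_isFinLocFree I.subschemeι
    ((Scheme.Modules.pullback I.subschemeι).obj (ClSub.idealMod I)) hF
  exact ⟨(tensR F).mapIso
      (asIso ((Scheme.Modules.pullbackPushforwardAdjunction I.subschemeι).unit.app (ClSub.idealMod I))) ≪≫
    asIso ((KFlat.ProjFormula.θ I.subschemeι
      ((Scheme.Modules.pullback I.subschemeι).obj (ClSub.idealMod I))).app F)⟩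

end Groth.Agent.LiftLib

end
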