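import Groth.Agent.FormalFun.TowerVan
import Groth.Agent.CBC.VAFib
import Groth.Agent.PicThickTriv.Main
import Groth.Agent.ProjMorph.Ample
import Groth.Agent.PicLaw.Calc
import Groth.Agent.S1313

/-!
# Compatible projective embeddings of a tower with an ample invertible system

`exists_embeddings`: for `d` large, the modules `L_k^d` define compatible closed immersions of the levels of a
tower into one projective space over the base.
-/

set_option autoImplicit false
set_option linter.style.haveILetI false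
set_option backward.isDefEq.respectTransparency false
set_option backward.isDefEq.respectTransparency.types false

universe u

open CategoryTheory CategoryTheory.Limits AlgebraicGeometry Opposite TopologicalSpace
open Groth.Agent
open Groth.Agent.QCoh Groth.Agent.Props.GenLocus Groth.Agent.Props.GenPull
open scoped Groth.Agent.PicLaw

noncomputable section

namespace Groth.Agent.LiftLib.TowerEmbed

theorem isIso_of_epi_invertible {Y : Scheme.{u}} {L M : Y.Modules} (hL : PicF.IsInvertible L)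
    (hM : PicF.IsInvertible M) (s : L ⟶ M) [Epi s] : IsIso s := by
  refine Omega.Stalks.isIso_of_stalk fun x => ⟨?_, PullStalk.Exact.stalk_surjective s x⟩
  have gen : ∀ {N : Y.Modules}, PicF.IsInvertible N →
      Nonempty ((Y.presheaf.stalk x) ≃ₗ[Y.presheaf.stalk x] N.presheaf.stalk x) := fun {N} hN => by
    obtain ⟨U, e, hx, he⟩ := exists_isGen hN x
    exact ⟨LinearEquiv.ofBijective _ (PicLaw.bijective_toSpanSingleton_germ he x hx)⟩
  obtain ⟨E₀⟩ := gen hL
  obtain ⟨E⟩ := gen hM
  let g : Y.presheaf.stalk x →ₗ[Y.presheaf.stalk x] Y.presheaf.stalk x :=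
    E.symm.toLinearMap ∘ₗ PullStalk.Exact.stalkLin s x ∘ₗ E₀.toLinearMap
  have hs : Function.Surjective g :=
    E.symm.surjective.comp ((PullStalk.Exact.stalk_surjective s x).comp E₀.surjective)
  have hg : Function.Injective g := OrzechProperty.injective_of_surjective_endomorphism g hs
  intro a b h
  obtain ⟨a', rfl⟩ := E₀.surjective a
  obtain ⟨b', rfl⟩ := E₀.surjective b
  exact congrArg E₀ (hg (congrArg E.symm h))

theorem nonempty_pullback_structureModule {X Y : Scheme.{u}} (f : X ⟶ Y) :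
    Nonempty ((Scheme.Modules.pullback f).obj (Coh.structureModule Y) ≅ Coh.structureModule X) := by
  refine (PicLaw.iso_iff (PicLoc.isInvertible_pullback f (PicLoc.isInvertible_structureModule Y))
    (PicLoc.isInvertible_structureModule X)).mpr ?_
  rw [PicLaw.cls_pullback f (PicLoc.isInvertible_structureModule Y), PicLaw.cls_one, PicLaw.cls_one, map_one]

theorem lift_aux {C : Type*} [Category C] {O P Q R T : C} (a : P ≅ Q) (z : O ⟶ Q) (m : Q ⟶ R) (r : R ⟶ T)
    [IsIso r] (f : O ⟶ T) (h : z ≫ m = f ≫ inv r) : (z ≫ a.inv) ≫ a.hom ≫ m ≫ r = f := by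
  rw [Category.assoc, a.inv_hom_id_assoc, ← Category.assoc, h, Category.assoc, IsIso.inv_hom_id, Category.comp_id]

variable {A : Type u} [CommRing A] {J : Ideal A} (W : FormalFun.Tower A J)
  (L : (k : ℕ) → (W.X k).Modules)

theorem nonempty_toX (φ : ∀ k, Nonempty ((Scheme.Modules.pullback (W.i k)).obj (L (k + 1)) ≅ L k)) :
    ∀ k, Nonempty ((Scheme.Modules.pullback (W.toX k)).obj (L k) ≅ L 0) := by
  intro k
  induction k with
  | zero => exact ⟨(Scheme.Modules.pullbackId _).app _⟩
  | succ k ih =>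
    obtain ⟨e⟩ := ih
    obtain ⟨l⟩ := φ k
    exact ⟨((LimTop.compIso (W.toX k) (W.i k) rfl).app (L (k + 1))).symm ≪≫
      (Scheme.Modules.pullback (W.toX k)).mapIso l ≪≫ e⟩

set_option maxHeartbeats 800000 in
/-- Sections of large powers lift along the tower. -/
theorem exists_lift [IsNoetherianRing A] (hp : IsProper (W.p 0)) (hL : ∀ k, PicF.IsInvertible (L k))
    (φ : ∀ k, Nonempty ((Scheme.Modules.pullback (W.i k)).obj (L (k + 1)) ≅ L k))
    (ha : CohB1.IsAmple (L 0)) :
    ∃ d₀ : ℕ, ∀ d, d₀ ≤ d → ∀ k, ∃ ψ : (Scheme.Modules.pullback (W.i k)).obj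
        (CohB1.tensorPow (L (k + 1)) d) ≅ CohB1.tensorPow (L k) d,
      ∀ s : Γ(CohB1.tensorPow (L k) d, ⊤), ∃ s' : Γ(CohB1.tensorPow (L (k + 1)) d, ⊤),
        ψ.hom.app ⊤ (pb (W.i k) s') = s := by
  haveI := W.isNoetherian_X hp
  let S : FormalFun.TowerMod W :=
    { F := fun k => Coh.structureModule (W.X k)
      coh := fun k => ProperFin.isCoh_structureModule _
      ψ := fun k => (nonempty_pullback_structureModule (W.i k)).some }
  obtain ⟨d₀, hd₀⟩ := S.exists_bound L hp hL φ ha
  refine ⟨d₀, fun d hd k => ?_⟩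
  let i := W.i k
  let X := W.X (k + 1)
  let t := FormalFun.twist (L (k + 1)) d
  have h1 := (hd₀ d hd k 1 one_pos).2
  haveI := FormalFun.twist_isLeftAdjoint (L (k + 1)) d
  have hS := ProjTwist.shortExact_tensor (AmpleLib.isInvertible_tensorPow (hL (k + 1)) d) (S.shortExact_seq k)
  obtain ⟨e⟩ := S.nonempty_iso_push L hL φ k d
  have hI := fun m => AmpleLib.isInvertible_tensorPow (hL m) d
  obtain ⟨a⟩ : Nonempty (CohB1.tensorPow (L (k + 1)) d ≅ t.obj (S.F (k + 1))) := by
    obtain ⟨c⟩ := PicLaw.tensor_comm (PicLoc.isInvertible_structureModule X) (hI (k + 1))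
    obtain ⟨u⟩ := PicLaw.tensor_structureModule (hI (k + 1))
    exact ⟨u.symm ≪≫ c.symm⟩
  obtain ⟨b⟩ : Nonempty ((FormalFun.twist (L k) d).obj (S.F k) ≅ CohB1.tensorPow (L k) d) := by
    obtain ⟨c⟩ := PicLaw.tensor_comm (PicLoc.isInvertible_structureModule (W.X k)) (hI k)
    obtain ⟨u⟩ := PicLaw.tensor_structureModule (hI k)
    exact ⟨c ≪≫ u⟩
  let θ : CohB1.tensorPow (L (k + 1)) d ⟶
      (Scheme.Modules.pushforward i).obj (CohB1.tensorPow (L k) d) :=
    a.hom ≫ t.map (S.π k) ≫ e.hom ≫ (Scheme.Modules.pushforward i).map b.hom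
  haveI : Epi (t.map (S.π k)) := hS.epi_g
  haveI : Epi θ := inferInstance
  let adj := Scheme.Modules.pullbackPushforwardAdjunction i
  haveI := Props.KilledSub.isIso_counit i
  let θ' := (adj.homEquiv _ _).symm θ
  haveI : (Scheme.Modules.pullback i).IsLeftAdjoint := adj.isLeftAdjoint
  haveI : Epi θ' := by
    change Epi ((adj.homEquiv _ _).symm θ)
    rw [adj.homEquiv_counit]
    infer_instance
  haveI := isIso_of_epi_invertible (PicCl.isInvertible_pullback i (hI (k + 1))) (hI k) θ'
  refine ⟨asIso θ', fun s => ?_⟩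
  have hθ : θ = adj.unit.app _ ≫ (Scheme.Modules.pushforward i).map θ' :=
    ((adj.homEquiv _ _).apply_symm_apply θ).symm.trans (adj.homEquiv_unit _ _ _)
  obtain ⟨θ₀, hθ₀⟩ := ExtHom.exists_constUnit (Opens.grothendieckTopology X) X.ringCatSheaf
  let E : ∀ N : X.Modules, (Coh.structureModule X ⟶ N) ≃ Coh.HH X N 0 := fun N =>
    (Equiv.ofBijective _ (hθ₀ N)).trans Abelian.Ext.homEquiv₀.symm
  have hE : ∀ {N N' : X.Modules} (ψ : N ⟶ N') (f : Coh.structureModule X ⟶ N),
      E N' (f ≫ ψ) = CohLin.hMap ψ 0 (E N f) := by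
    intro N N' ψ f
    show Abelian.Ext.mk₀ (θ₀ ≫ (SheafOfModules.toSheaf X.ringCatSheaf).map (f ≫ ψ)) =
      (Abelian.Ext.mk₀ (θ₀ ≫ (SheafOfModules.toSheaf X.ringCatSheaf).map f)).comp
        (Abelian.Ext.mk₀ (CohLin.abMap ψ)) (add_zero 0)
    refine Eq.trans ?_ (Abelian.Ext.mk₀_comp_mk₀ _ _).symm
    refine congrArg Abelian.Ext.mk₀ (Eq.trans (congrArg (θ₀ ≫ ·) ?_) (Category.assoc _ _ _).symm)
    exact Functor.map_comp _ _ _
  let r := e.hom ≫ (Scheme.Modules.pushforward i).map b.hom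
  haveI : IsIso r := IsIso.comp_isIso' inferInstance (Functor.map_isIso _ _)
  let f : Coh.structureModule X ⟶ (Scheme.Modules.pushforward i).obj (CohB1.tensorPow (L k) d) :=
    homOfSec s
  obtain ⟨z, hz⟩ := CohLin.exists_hMap_g_eq hS (E _ (f ≫ inv r)) (h1.elim _ _)
  let z' : Coh.structureModule X ⟶ t.obj (S.F (k + 1)) := (E (t.obj (S.F (k + 1)))).symm z
  have hg : z' ≫ t.map (S.π k) = f ≫ inv r :=
    (E _).injective ((hE (t.map (S.π k)) z').trans
      ((congrArg _ ((E (t.obj (S.F (k + 1)))).apply_symm_apply z)).trans hz))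
  let g : Coh.structureModule X ⟶ CohB1.tensorPow (L (k + 1)) d := z' ≫ a.inv
  have hgθ : g ≫ θ = f := lift_aux a z' (t.map (S.π k)) r f hg
  refine ⟨sec g ⊤, ?_⟩
  have h := congrArg (fun m => sec m (⊤ : X.Opens)) hgθ
  rw [hθ] at h
  have h' : sec f (⊤ : X.Opens) = s := (sec_homOfSec (L := (Scheme.Modules.pushforward i).obj _) s ⊤).trans
    (QCoh.res_self _ _ _)
  rw [h'] at h
  exact h

theorem isPullback_thick (I : Ideal A) {X : Scheme.{u}}
    (f : X ⟶ Spec (CommRingCat.of A)) (n : ℕ) :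
    IsPullback (CohB1.thickTrans f I n) (CohB1.thickToBase f I n) (CohB1.thickToBase f I (n + 1))
      (CohB1.specQuotTrans I n) := by
  have h := IsPullback.of_hasPullback f (CohB1.specQuot I n)
  have h' := IsPullback.of_hasPullback f (CohB1.specQuot I (n + 1))
  refine IsPullback.of_right (h₁₂ := CohB1.thickι f I (n + 1)) (v₁₃ := f)
    (h₂₂ := CohB1.specQuot I (n + 1)) ?_ ?_ h'
  · have e1 : CohB1.thickTrans f I n ≫ CohB1.thickι f I (n + 1) = pullback.fst f (CohB1.specQuot I n) := by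
      unfold CohB1.thickTrans CohB1.thickι
      simp
    exact IsPullback.of_iso h (Iso.refl _) (Iso.refl _) (Iso.refl _) (Iso.refl _)
      (by simpa using e1.symm) (by simp [CohB1.thickToBase]) (by simp)
      (by simpa using (CohB1.specQuotTrans_specQuot I n).symm)
  · exact pullback.lift_snd _ _ _

/-- Compatible maps of the levels lift to the thickenings of the target, cartesianly. -/
theorem exists_toThick {P : Scheme.{u}} (f : P ⟶ Spec (CommRingCat.of A))
    (e : (k : ℕ) → (W.X k ⟶ P)) (hc : ∀ k, W.i k ≫ e (k + 1) = e k) (hq : ∀ k, e k ≫ f = W.q k) :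
    ∃ z : (k : ℕ) → (W.X k ⟶ CohB1.thick f J k),
      (∀ k, z k ≫ CohB1.thickι f J k = e k) ∧ (∀ k, z k ≫ CohB1.thickToBase f J k = W.p k) ∧
      ∀ k, IsPullback (W.i k) (z k) (z (k + 1)) (CohB1.thickTrans f J k) := by
  refine ⟨fun k => pullback.lift (e k) (W.p k) (hq k), fun k => pullback.lift_fst _ _ _,
    fun k => pullback.lift_snd _ _ _, fun k => ?_⟩
  have h2 := isPullback_thick J f k
  refine IsPullback.of_bot ?_ ?_ h2
  · dsimp only
    rw [show pullback.lift (e k) (W.p k) (hq k) ≫ CohB1.thickToBase f J k = W.p k from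
      pullback.lift_snd _ _ _, show pullback.lift (e (k + 1)) (W.p (k + 1)) (hq (k + 1)) ≫
      CohB1.thickToBase f J (k + 1) = W.p (k + 1) from pullback.lift_snd _ _ _]
    exact W.cart k
  · refine pullback.hom_ext ?_ ?_
    · simp [CohB1.thickTrans, hc]
    · simp [CohB1.thickTrans, (W.cart k).w]

theorem isClosedImmersion_of_zero [IsNoetherianRing A] (hp : IsProper (W.p 0)) {P : Scheme.{u}}
    (f : P ⟶ Spec (CommRingCat.of A)) [IsProper f]
    (e : (k : ℕ) → (W.X k ⟶ P)) (hc : ∀ k, W.i k ≫ e (k + 1) = e k) (hq : ∀ k, e k ≫ f = W.q k)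
    (h0 : IsClosedImmersion (e 0)) : ∀ k, IsClosedImmersion (e k) := by
  haveI : ∀ k, IsClosedImmersion (CohB1.specQuot J k) := fun k => FormalFun.isClosedImmersion_specQuot J k
  haveI : ∀ k, IsClosedImmersion (CohB1.thickι f J k) := fun k =>
    MorphismProperty.pullback_fst f (CohB1.specQuot J k) inferInstance
  obtain ⟨z, hzι, hzb, hzc⟩ := exists_toThick W f e hc hq
  haveI hbase : ∀ k, IsProper (CohB1.thickToBase f J k) := fun k =>
    MorphismProperty.pullback_snd f (CohB1.specQuot J k) inferInstance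
  haveI hpk : ∀ k, IsProper (W.p k) := W.isProper_p hp
  haveI hzp : ∀ k, IsProper (z k) := fun k => by
    haveI : IsProper (z k ≫ CohB1.thickToBase f J k) := by rw [hzb]; infer_instance
    exact IsProper.of_comp (z k) (CohB1.thickToBase f J k)
  suffices h : ∀ k, IsClosedImmersion (z k) by
    intro k
    haveI := h k
    rw [← hzι k]
    infer_instance
  intro k
  induction k with
  | zero =>
    haveI : IsClosedImmersion (z 0 ≫ CohB1.thickι f J 0) := by rw [hzι]; exact h0
    exact IsClosedImmersion.of_comp_isClosedImmersion (z 0) (CohB1.thickι f J 0)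
  | succ k ih =>
    refine (S1313.result (W.i k) (CohB1.thickTrans f J k) (z k) (z (k + 1)) ⟨?_, ?_⟩ (hzc k)).mp ih
    · exact MorphismProperty.of_isPullback (P := @IsClosedImmersion) (isPullback_thick J f k).flip
        inferInstance
    · haveI := FormalFun.surjective_specQuotTrans J k
      exact MorphismProperty.of_isPullback (P := @Surjective) (isPullback_thick J f k).flip inferInstance

/-- Compatible closed immersions into projective space. -/
theorem exists_embeddings [IsNoetherianRing A] (hp : IsProper (W.p 0))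
    (hL : ∀ k, PicF.IsInvertible (L k))
    (φ : ∀ k, Nonempty ((Scheme.Modules.pullback (W.i k)).obj (L (k + 1)) ≅ L k))
    (ha : CohB1.IsAmple (L 0)) :
    ∃ d₀ : ℕ, ∀ d, d₀ ≤ d → ∃ (N : ℕ) (e : (k : ℕ) → (W.X k ⟶ CohB1.ProjSpaceOver N (Spec (CommRingCat.of A)))),
      (∀ k, IsClosedImmersion (e k)) ∧ (∀ k, W.i k ≫ e (k + 1) = e k) ∧
      (∀ k, e k ≫ CohB1.ProjSpaceOver.toBase N _ = W.q k) ∧
      ∀ k, Nonempty (CohB1.tensorPow (L k) d ≅
        (Scheme.Modules.pullback (e k)).obj (Twist.twistOver N (Spec (CommRingCat.of A)) 1)) := by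
  haveI : ∀ k, IsClosedImmersion (CohB1.specQuot J k) := fun k => FormalFun.isClosedImmersion_specQuot J k
  haveI hpk : ∀ k, IsProper (W.p k) := W.isProper_p hp
  haveI := W.isNoetherian_X hp
  obtain ⟨d₁, hd₁⟩ := exists_lift W L hp hL φ ha
  obtain ⟨d₂, hd₂⟩ := ProjMorph.eventually_veryAmplePn_pow (W.q 0) ha
  refine ⟨max d₁ d₂, fun d hd => ?_⟩
  choose ψ hψ using hd₁ d (by omega)
  obtain ⟨N, e₀, he₀, he₀q, s₀, hs₀⟩ := CBC.VA.exists_coord_of_pn (W.q 0) (hd₂ d (by omega))
  have hI := fun k => AmpleLib.isInvertible_tensorPow (hL k) d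
  choose lift hlift using hψ
  let s : (k : ℕ) → Fin (N + 1) → Γ(CohB1.tensorPow (L k) d, ⊤) :=
    fun k => k.rec s₀ fun m sm l => lift m (sm l)
  have hss : ∀ k l, (ψ k).hom.app ⊤ (pb (W.i k) (s (k + 1) l)) = s k l := fun k l => hlift k (s k l)
  have hsurj : ∀ k, Function.Surjective (W.i k) := fun k => by
    haveI := FormalFun.surjective_specQuotTrans J k
    haveI : Surjective (W.i k) := MorphismProperty.of_isPullback (P := @Surjective) (W.cart k).flip inferInstance
    exact (W.i k).surjective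
  have hcov : ∀ k, ⊤ ≤ ⨆ l, AmpleLib.locus (O := ⊤) (s k l) := by
    intro k
    induction k with
    | zero =>
      show ⊤ ≤ ⨆ l, AmpleLib.locus (O := ⊤) (s₀ l)
      simp only [← hs₀.pre]
      rw [← Scheme.Hom.preimage_iSup, CBC.VA.iSup_DP, Scheme.Hom.preimage_top]
    | succ k ih =>
      intro x _
      obtain ⟨y, rfl⟩ := hsurj k x
      obtain ⟨l, hl⟩ := Opens.mem_iSup.mp (ih (trivial : y ∈ (⊤ : (W.X k).Opens)))
      rw [← hss k l] at hl
      refine Opens.mem_iSup.mpr ⟨l, ?_⟩
      have h' := (AmpleLib.locus_app_iso (ψ k) (O := ⊤) (pb (W.i k) (s (k + 1) l))).le hl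
      exact (AmpleLib.locus_pb (W.i k) (hI (k + 1)) (s (k + 1) l)).le h'
  choose e hq hc hiso using fun k => CBC.VA.exists_coord (W.q k) (hI k) (s k) (hcov k)
  have hcomp : ∀ k, W.i k ≫ e (k + 1) = e k := by
    intro k
    refine pullback.hom_ext ?_ ?_
    · have h := ((hc (k + 1)).pull (hI (k + 1)) (W.i k)).mapIso (ψ k)
      rw [show (fun l => (ψ k).hom.app ⊤ (pb (W.i k) (s (k + 1) l))) = s k from funext (hss k)] at h
      exact (Category.assoc _ _ _).trans (h.ext (hc k))
    · refine (Category.assoc _ _ _).trans (Eq.trans ?_ (hq k).symm)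
      rw [show e (k + 1) ≫ pullback.snd _ _ = W.q (k + 1) from hq (k + 1)]
      exact W.i_over k
  refine ⟨N, e, ?_, hcomp, hq, hiso⟩
  haveI := ProjProper.Basic.isProper_toBase N (Spec (CommRingCat.of A))
  refine isClosedImmersion_of_zero W hp (CohB1.ProjSpaceOver.toBase N _) e hcomp hq ?_
  have h00 : e 0 = e₀ := pullback.hom_ext ((hc 0).ext hs₀) ((hq 0).trans he₀q.symm)
  rw [h00]
  haveI := he₀
  haveI hpq : IsProper (W.q 0) := inferInstance
  haveI : IsProper (e₀ ≫ CohB1.ProjSpaceOver.toBase N _) := by rw [he₀q]; exact hpq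
  haveI : IsProper e₀ := IsProper.of_comp e₀ (CohB1.ProjSpaceOver.toBase N _)
  exact IsClosedImmersion.iff_isProper_and_mono _ |>.mpr ⟨inferInstance, inferInstance⟩

end Groth.Agent.LiftLib.TowerEmbed
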