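import Groth.Prelude.Def_LogNCD
import Groth.Agent.IdealSh.Comap
import Mathlib.AlgebraicGeometry.Morphisms.Etale
import Mathlib.AlgebraicGeometry.Morphisms.Smooth
import Mathlib.RingTheory.RingHom.StandardSmooth

/-!
Affine étale charts of relative normal crossing divisors.
-/

set_option autoImplicit false
set_option linter.style.haveILetI false

universe u

open CategoryTheory CategoryTheory.Limits AlgebraicGeometry

namespace Groth.Agent.LiftLib.NCDChart

variable {X S : Scheme.{u}}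

theorem ideal_eq_top_of_disjoint (I : X.IdealSheafData) (V : X.affineOpens)
    (h : Disjoint (V.1 : Set X) (I.support : Set X)) : I.ideal V = ⊤ := by
  haveI : IsAffine (V.1 : Scheme.{u}) := V.2
  have hc : I.comap V.1.ι = ⊤ := IdealSh.Comap.comap_eq_top_of_disjoint I V.1.ι (by
    rw [Scheme.Opens.range_ι]; exact h)
  have h1 := IdealSh.Comap.ideal_comap I V.1.ι V ⟨⊤, isAffineOpen_top _⟩ V.1.ι_preimage_self.ge
  rw [hc] at h1
  have hb : Function.Bijective (V.1.ι.appLE V.1 ⊤ V.1.ι_preimage_self.ge).hom :=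
    ConcreteCategory.bijective_of_isIso _
  let e := RingEquiv.ofBijective _ hb
  rw [← Ideal.comap_map_of_bijective _ hb (I := I.ideal V), ← h1]
  rfl

/-- Around each point a family in normal crossing position has an affine étale chart. -/
theorem exists_chart (f : X ⟶ S) [Smooth f] {r : ℕ} (D : Fin r → X.IdealSheafData)
    (hD : LogNCD.IsNCD D f) (x : X) (W₀ : X.Opens) (hx₀ : x ∈ W₀) (O : S.affineOpens)
    (hO : f x ∈ O.1) :
    ∃ (V : X.affineOpens) (hle : V.1 ≤ f ⁻¹ᵁ O.1) (n : ℕ)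
      (ψ : MvPolynomial (Fin n) Γ(S, O.1) →+* Γ(X, V.1)) (e : LogNCD.Through D x → Fin n),
      x ∈ V.1 ∧ V.1 ≤ W₀ ∧ ψ.comp MvPolynomial.C = (f.appLE O V hle).hom ∧ ψ.Etale ∧
      Function.Injective e ∧
      (∀ i : LogNCD.Through D x, (D i.1).ideal V = Ideal.span {ψ (MvPolynomial.X (e i))}) ∧
      (∀ m, x ∉ (D m).support → (D m).ideal V = ⊤) := by
  classical
  by_cases hne : Nonempty (LogNCD.Through D x)
  · obtain ⟨W, hxW, d, v, e, he, het, hv, hv'⟩ := hD x hne
    obtain ⟨V, hV⟩ := O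
    have hxV : f x ∈ V := hO
    obtain ⟨U, hU, hxU, hUle⟩ := exists_isAffineOpen_mem_and_subset (U := (W ⊓ W₀) ⊓ f ⁻¹ᵁ V)
      (x := x) ⟨⟨hxW, hx₀⟩, hxV⟩
    have hUW : U ≤ W := fun a ha => (hUle ha).1.1
    have hUV : U ≤ f ⁻¹ᵁ V := fun a ha => (hUle ha).2
    haveI : IsAffine U.toScheme := hU
    haveI : IsAffine V.toScheme := hV
    let w : ULift.{u} (Fin d) → Γ(U.toScheme, ⊤) := (X.homOfLE hUW).appTop ∘ v
    haveI het1 : Etale (AffineSpace.homOfVector (U.ι ≫ f) w) := by
      have h0 : Etale (X.homOfLE hUW ≫ AffineSpace.homOfVector (W.ι ≫ f) v) :=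
        MorphismProperty.comp_mem _ _ _ inferInstance het
      rw [AffineSpace.comp_homOfVector] at h0
      simpa only [X.homOfLE_ι_assoc] using h0
    let h' := AffineSpace.homOfVector (f.resLE V U hUV) w
    have hcomp : h' ≫ AffineSpace.map (ULift.{u} (Fin d)) V.ι =
        AffineSpace.homOfVector (U.ι ≫ f) w := by
      apply AffineSpace.hom_ext
      · rw [Category.assoc, AffineSpace.map_over, AffineSpace.homOfVector_over_assoc,
          AffineSpace.homOfVector_over, Scheme.Hom.resLE_comp_ι]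
      · intro i
        rw [Scheme.Hom.comp_appTop, ConcreteCategory.comp_apply, AffineSpace.map_appTop_coord,
          AffineSpace.homOfVector_appTop_coord, AffineSpace.homOfVector_appTop_coord]
    haveI : IsOpenImmersion (AffineSpace.map (ULift.{u} (Fin d)) V.ι) :=
      MorphismProperty.of_isPullback (AffineSpace.isPullback_map V.ι).flip inferInstance
    haveI : Etale (h' ≫ AffineSpace.map (ULift.{u} (Fin d)) V.ι) := hcomp ▸ het1
    haveI : Etale h' := Etale.of_comp _ (AffineSpace.map (ULift.{u} (Fin d)) V.ι)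
    let q : U.toScheme ⟶ Spec (CommRingCat.of (MvPolynomial (ULift.{u} (Fin d)) Γ(V.toScheme, ⊤))) :=
      h' ≫ (AffineSpace.isoOfIsAffine (ULift.{u} (Fin d)) V.toScheme).hom
    have hq : q.appTop.hom.Etale :=
      (HasRingHomProperty.iff_of_isAffine (P := @Etale)).mp (inferInstanceAs (Etale q))
    let ψ₀ := ((Scheme.ΓSpecIso (CommRingCat.of
      (MvPolynomial (ULift.{u} (Fin d)) Γ(V.toScheme, ⊤)))).inv ≫ q.appTop).hom
    have h1 : ψ₀.Etale := RingHom.Etale.respectsIso.2 q.appTop.hom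
      (Scheme.ΓSpecIso (CommRingCat.of
        (MvPolynomial (ULift.{u} (Fin d)) Γ(V.toScheme, ⊤)))).symm.commRingCatIsoToRingEquiv hq
    have hψ₀ : ψ₀ = MvPolynomial.eval₂Hom (V.topIso.hom ≫ f.appLE V U hUV ≫ U.topIso.inv).hom w := by
      have e1 : ψ₀ = (CommRingCat.ofHom (MvPolynomial.eval₂Hom ((AffineSpace (ULift.{u} (Fin d)) V.toScheme ↘ V.toScheme).appTop).hom
          (AffineSpace.coord V.toScheme)) ≫ h'.appTop).hom := by
        simp only [ψ₀, q, Scheme.Hom.comp_appTop, AffineSpace.isoOfIsAffine_hom_appTop, Category.assoc,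
          Iso.inv_hom_id_assoc]
      rw [e1]
      refine MvPolynomial.ringHom_ext (fun a => ?_) (fun i => ?_)
      · simp only [CommRingCat.hom_comp, CommRingCat.hom_ofHom, RingHom.comp_apply, MvPolynomial.eval₂Hom_C]
        have := congr($(Scheme.Hom.comp_appTop h' (AffineSpace (ULift.{u} (Fin d)) V.toScheme ↘ V.toScheme)) a)
        rw [AffineSpace.homOfVector_over] at this
        refine this.symm.trans ?_
        exact congr($(Scheme.Hom.resLE_app_top f hUV) a)
      · simp only [CommRingCat.hom_comp, CommRingCat.hom_ofHom, RingHom.comp_apply, MvPolynomial.eval₂Hom_X']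
        exact AffineSpace.homOfVector_appTop_coord _ _ _
    let eP := (MvPolynomial.renameEquiv Γ(S, V) (Equiv.ulift.symm : Fin d ≃ ULift.{u} (Fin d))).toRingEquiv.trans
      (MvPolynomial.mapEquiv (ULift.{u} (Fin d)) V.topIso.symm.commRingCatIsoToRingEquiv)
    let ψ : MvPolynomial (Fin d) Γ(S, V) →+* Γ(X, U) :=
      U.topIso.hom.hom.comp (ψ₀.comp eP.toRingHom)
    refine ⟨⟨U, hU⟩, hUV, d, ψ, e, hxU, fun a ha => (hUle ha).1.2, ?_,
      RingHom.Etale.respectsIso.1 (ψ₀.comp eP.toRingHom) U.topIso.commRingCatIsoToRingEquiv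
        (RingHom.Etale.respectsIso.2 ψ₀ eP h1), he, fun i => ?_,
      fun m hm => hv' m hm ⟨U, hU⟩ hUW⟩
    · refine RingHom.ext fun a => ?_
      show U.topIso.hom (ψ₀ (eP (MvPolynomial.C a))) = _
      rw [hψ₀]
      simp only [eP, RingEquiv.trans_apply, AlgEquiv.coe_ringEquiv, MvPolynomial.renameEquiv_apply,
        MvPolynomial.rename_C, MvPolynomial.mapEquiv_apply, MvPolynomial.map_C,
        MvPolynomial.eval₂Hom_C]
      show (V.topIso.inv ≫ V.topIso.hom ≫ f.appLE V U hUV ≫ U.topIso.inv ≫ U.topIso.hom) a = _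
      rw [Iso.inv_hom_id_assoc, Iso.inv_hom_id, Category.comp_id]
    · rw [hv i ⟨U, hU⟩ hUW]
      congr 2
      show _ = U.topIso.hom (ψ₀ (eP (MvPolynomial.X (e i))))
      rw [hψ₀]
      simp only [eP, RingEquiv.trans_apply, AlgEquiv.coe_ringEquiv, MvPolynomial.renameEquiv_apply,
        MvPolynomial.rename_X, MvPolynomial.mapEquiv_apply, MvPolynomial.map_X,
        MvPolynomial.eval₂Hom_X', w, Function.comp_apply]
      rw [LogNCD.sectOn_apply, Scheme.homOfLE_appTop]
      show (W.topIso.hom ≫ X.presheaf.map (homOfLE hUW).op) (v _) =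
        (X.presheaf.map (homOfLE (X.ι_image_homOfLE_le_ι_image hUW ⊤)).op ≫ U.topIso.hom) (v _)
      refine congrArg (fun φ : Γ(W.toScheme, ⊤) ⟶ Γ(X, U) => φ (v (ULift.up (e i)))) ?_
      simp only [Scheme.Opens.topIso_hom, ← Functor.map_comp]
      exact (X.presheaf.map_comp _ _).symm.trans ((congrArg X.presheaf.map (Subsingleton.elim _ _)).trans (X.presheaf.map_comp _ _))
  · have hsupp : ∀ m, x ∉ (D m).support := fun m h => hne ⟨⟨m, h⟩⟩
    obtain ⟨O, hOa⟩ := O
    obtain ⟨V₀, hV₀, hxV₀, e₀⟩ := exists_isAffineOpen_mem_and_subset (U := f ⁻¹ᵁ O) (x := x) hO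
    have e₀' : V₀ ≤ f ⁻¹ᵁ O := fun y hy => e₀ hy
    have hloc : RingHom.Locally RingHom.IsStandardSmooth (f.appLE O V₀ e₀').hom :=
      RingHom.smooth_iff_locally_isStandardSmooth.mp
        (HasRingHomProperty.appLE (P := @Smooth) f inferInstance ⟨O, hOa⟩ ⟨V₀, hV₀⟩ e₀')
    obtain ⟨s, hs, hstd⟩ := hloc
    obtain ⟨t, hts, hxt⟩ : ∃ t ∈ s, x ∈ X.basicOpen t := by
      have h := (IsAffineOpen.iSup_basicOpen_eq_self_iff hV₀ (s := s)).2 hs
      have hx : x ∈ ⨆ t : s, X.basicOpen t.1 := h.symm ▸ hxV₀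
      obtain ⟨⟨t, ht⟩, hxt⟩ := TopologicalSpace.Opens.mem_iSup.1 hx
      exact ⟨t, ht, hxt⟩
    let ρ₁ : Γ(X, V₀) →+* Γ(X, X.basicOpen t) :=
      (X.presheaf.map (homOfLE (X.basicOpen_le t)).op).hom
    have hstd' : (ρ₁.comp (f.appLE O V₀ e₀').hom).IsStandardSmooth := by
      letI := ρ₁.toAlgebra
      haveI : IsLocalization.Away t Γ(X, X.basicOpen t) := hV₀.isLocalization_basicOpen t
      let ε := (IsLocalization.algEquiv (Submonoid.powers t) (Localization.Away t)
        Γ(X, X.basicOpen t)).toRingEquiv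
      have h2 := RingHom.isStandardSmooth_respectsIso.1 _ ε (hstd t hts)
      have e2 : ε.toRingHom.comp ((algebraMap Γ(X, V₀) (Localization.Away t)).comp
          (f.appLE O V₀ e₀').hom) = ρ₁.comp (f.appLE O V₀ e₀').hom := by
        rw [← RingHom.comp_assoc]
        congr 1
        exact RingHom.ext fun z => (IsLocalization.algEquiv (Submonoid.powers t) (Localization.Away t)
          Γ(X, X.basicOpen t)).commutes z
      rwa [e2] at h2
    let T : X.Opens := ⟨⋂ m, (((D m).support : Set X))ᶜ,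
      isOpen_iInter_of_finite fun m => (D m).support.isClosed.isOpen_compl⟩
    have hxT : x ∈ T := Set.mem_iInter.2 hsupp
    have hVt := hV₀.basicOpen t
    obtain ⟨a, ha, hxa⟩ := hVt.exists_basicOpen_le (V := W₀ ⊓ T) ⟨x, hx₀, hxT⟩ hxt
    have hle₁ : X.basicOpen a ≤ f ⁻¹ᵁ O :=
      ((X.basicOpen_le a).trans (X.basicOpen_le t)).trans e₀'
    obtain ⟨n, g, hg, hge⟩ := RingHom.IsStandardSmooth.exists_etale_mvPolynomial hstd'
    let ρ : Γ(X, X.basicOpen t) →+* Γ(X, X.basicOpen a) :=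
      (X.presheaf.map (homOfLE (X.basicOpen_le a)).op).hom
    have hρ : ρ.Etale := by
      letI := ρ.toAlgebra
      haveI : IsLocalization.Away a Γ(X, X.basicOpen a) := hVt.isLocalization_basicOpen a
      show (algebraMap Γ(X, X.basicOpen t) Γ(X, X.basicOpen a)).Etale
      rw [RingHom.etale_algebraMap]
      exact Algebra.Etale.of_isLocalizationAway a
    refine ⟨⟨X.basicOpen a, hVt.basicOpen a⟩, hle₁, n, ρ.comp g,
      fun i => absurd ⟨i⟩ hne, hxa, fun y hy => (ha hy).1, ?_,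
      RingHom.Etale.stableUnderComposition _ _ hge hρ, fun i => absurd ⟨i⟩ hne,
      fun i => absurd ⟨i⟩ hne, fun m _ => ideal_eq_top_of_disjoint _ _ ?_⟩
    · rw [RingHom.comp_assoc, hg]
      simp only [ρ, ρ₁, ← CommRingCat.hom_comp]
      rw [Scheme.Hom.appLE_map, Scheme.Hom.appLE_map]
    · rw [Set.disjoint_left]
      intro y hy hym
      exact Set.mem_iInter.1 (ha hy).2 m hym

end Groth.Agent.LiftLib.NCDChart
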