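import Groth.Agent.LiftLib.AlgebraizeSub
import Groth.Agent.AffAlgLib.Basic
import Groth.Agent.SymLib.Affine
import Groth.Agent.S8255
import Groth.Agent.S8267
import Groth.Agent.S8270

/-!
# Algebraizing systems of finite schemes, from the existence theorem
-/

set_option autoImplicit false
set_option linter.style.haveILetI false
set_option backward.isDefEq.respectTransparency false
set_option backward.isDefEq.respectTransparency.types false

universe u

open CategoryTheory CategoryTheory.Limits AlgebraicGeometry Opposite TopologicalSpace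
open Groth.Agent RelSpec

noncomputable section

namespace Groth.Agent.LiftLib.AlgebraizeFin

variable {X Y : Scheme.{u}}

/-- Direct image of the structure module as the module of the direct-image algebra. -/
def toDir (f : Y ⟶ X) [QuasiCompact f] [QuasiSeparated f] :
    (Scheme.Modules.pushforward f).obj (Coh.structureModule Y) ⟶ (QCAlg.directImage f).toModule :=
  ⟨letI := (QCAlg.directImage f).moduleSect
   PresheafOfModules.homMk
    { app := fun U => AddCommGrpCat.ofHom (AddMonoidHom.id Γ(Y, f ⁻¹ᵁ U.unop))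
      naturality := fun U V i => rfl }
    (fun U r s => rfl)⟩

variable {M : X.Modules} {A : QCAlg X} {jM : M ⟶ A.toModule}

/-- The map of sections along a morphism to a relative spectrum over `X`. -/
def secMap (f : Y ⟶ X) (κ : Y ⟶ A.spec) (w : κ ≫ A.π = f) (U : X.Opens) :
    Γ(A.spec, A.π ⁻¹ᵁ U) ⟶ Γ(Y, f ⁻¹ᵁ U) :=
  κ.appLE (A.π ⁻¹ᵁ U) (f ⁻¹ᵁ U) (AffAlgLib.le_preimage A.π f w U)

theorem gammaMap_bijective (U : X.Opens) : Function.Bijective (A.gammaMap.app (op U)).hom := by
  haveI := Groth.Agent.S8255.result A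
  exact ConcreteCategory.bijective_of_isIso (A.gammaMap.app (op U))

theorem gammaMap_str (U : X.Opens) (r : Γ(X, U)) :
    (A.gammaMap.app (op U)).hom (A.π.app U r) = (A.str.app (op U)).hom r :=
  congr($(NatTrans.congr_app A.π_c_gammaMap (op U)).hom r)

omit M in
theorem le_of_comp {P P' : Scheme.{u}} (t : P ⟶ P') (j' : P' ⟶ X) {j : P ⟶ X} (h : t ≫ j' = j) (U : X.Opens) :
    j ⁻¹ᵁ U ≤ t ⁻¹ᵁ (j' ⁻¹ᵁ U) :=
  AffAlgLib.le_preimage j' j h U

omit M in
/-- The restriction between levels on sections. -/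
theorem β_app {P P' : Scheme.{u}} (t : P ⟶ P') (j' : P' ⟶ X) {j : P ⟶ X} (h : t ≫ j' = j) (U : X.Opens)
    (x : Γ(P', j' ⁻¹ᵁ U)) :
    (AlgebraizeSub.β t j' h).app U x = t.appLE (j' ⁻¹ᵁ U) (j ⁻¹ᵁ U) (le_of_comp t j' h U) x := by
  subst h
  simp [AlgebraizeSub.β, Scheme.Hom.appLE]
  rfl

omit M in
theorem secMap_comp {P P' : Scheme.{u}} (t : P ⟶ P') (j' : P' ⟶ X) (κ : P' ⟶ A.spec) (w : κ ≫ A.π = j')
    {j : P ⟶ X} (h : t ≫ j' = j) (w' : (t ≫ κ) ≫ A.π = j) (U : X.Opens) (s : Γ(A.spec, A.π ⁻¹ᵁ U)) :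
    secMap j (t ≫ κ) w' U s = t.appLE (j' ⁻¹ᵁ U) (j ⁻¹ᵁ U) (le_of_comp t j' h U) (secMap j' κ w U s) :=
  (congr($(Scheme.Hom.appLE_comp_appLE t κ (A.π ⁻¹ᵁ U) (j' ⁻¹ᵁ U) (j ⁻¹ᵁ U)
    (AffAlgLib.le_preimage A.π j' w U) (le_of_comp t j' h U)) s)).symm

variable [M.IsQuasicoherent]

omit [M.IsQuasicoherent] in
/-- A module map into a direct image gives a morphism to the vector bundle. -/
theorem exists_toSpec (hA : IsSymAlg M A jM) (f : Y ⟶ X) [IsAffineHom f]
    (φ : M ⟶ (Scheme.Modules.pushforward f).obj (Coh.structureModule Y)) :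
    ∃ (κ : Y ⟶ A.spec) (w : κ ≫ A.π = f), ∀ (U : X.Opens) (m : Γ(M, U)) (t : Γ(A.spec, A.π ⁻¹ᵁ U)),
      (A.gammaMap.app (op U)).hom t = jM.app U m → secMap f κ w U t = φ.app U m := by
  obtain ⟨ψ, hψ, -⟩ := hA (QCAlg.directImage f) (φ ≫ toDir f)
  obtain ⟨κ, w, hκ⟩ := AffAlgLib.exists_eq_algHom A.π f (A.gammaMap ≫ ψ.hom) (by
    rw [← Category.assoc, A.π_c_gammaMap]
    exact ψ.comm)
  refine ⟨κ, w, fun U m t ht => ?_⟩
  have h1 := congr($(NatTrans.congr_app hκ (op U)).hom t)
  rw [AffAlgLib.algHom_app] at h1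
  refine h1.trans ?_
  show (ψ.hom.app (op U)).hom ((A.gammaMap.app (op U)).hom t) = _
  rw [ht]
  exact congr(($(hψ).app U) m)

/-- Morphisms to the vector bundle are determined on the module. -/
theorem toSpec_ext (hA : IsSymAlg M A jM) (f : Y ⟶ X) [IsAffineHom f] (κ κ' : Y ⟶ A.spec)
    (w : κ ≫ A.π = f) (w' : κ' ≫ A.π = f)
    (h : ∀ (U : X.Opens), IsAffineOpen U → ∀ (m : Γ(M, U)) (t : Γ(A.spec, A.π ⁻¹ᵁ U)),
      (A.gammaMap.app (op U)).hom t = jM.app U m → secMap f κ w U t = secMap f κ' w' U t) : κ = κ' := by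
  have key : ∀ (U : X.Opens), IsAffineOpen U → secMap f κ w U = secMap f κ' w' U := by
    intro U hU
    ext t
    obtain ⟨a, ha⟩ : ∃ a, (A.gammaMap.app (op U)).hom t = a := ⟨_, rfl⟩
    induction a using SymLib.affInduction hA hU generalizing t with
    | hstr r =>
      obtain rfl : t = A.π.app U r := (gammaMap_bijective U).1 (ha.trans (gammaMap_str U r).symm)
      have hl : ∀ (k : Y ⟶ A.spec) (e : k ≫ A.π = f), secMap f k e U (A.π.app U r) = f.app U r := by
        rintro k rfl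
        simp [secMap, Scheme.Hom.appLE]
      rw [hl κ w, hl κ' w']
    | hj m => exact h U hU m t ha
    | hmul a b iha ihb =>
      obtain ⟨ta, hta⟩ := (gammaMap_bijective (A := A) U).2 a
      obtain ⟨tb, htb⟩ := (gammaMap_bijective (A := A) U).2 b
      obtain rfl : t = ta * tb := (gammaMap_bijective U).1 (ha.trans (by rw [map_mul, hta, htb]))
      rw [map_mul, map_mul, iha ta hta, ihb tb htb]
    | hadd a b iha ihb =>
      obtain ⟨ta, hta⟩ := (gammaMap_bijective (A := A) U).2 a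
      obtain ⟨tb, htb⟩ := (gammaMap_bijective (A := A) U).2 b
      obtain rfl : t = ta + tb := (gammaMap_bijective U).1 (ha.trans (by rw [map_add, hta, htb]))
      rw [map_add, map_add, iha ta hta, ihb tb htb]
  refine Scheme.hom_ext_of_forall _ _ fun y => ?_
  obtain ⟨U, hU, hyU, -⟩ := exists_isAffineOpen_mem_and_subset (Opens.mem_top (f y))
  refine ⟨f ⁻¹ᵁ U, hyU, ?_⟩
  rw [← AffAlgLib.toSpecΓ_map_appLE_fromSpec (f ⁻¹ᵁ U) κ (hU.preimage A.π) (AffAlgLib.le_preimage A.π f w U),
    ← AffAlgLib.toSpecΓ_map_appLE_fromSpec (f ⁻¹ᵁ U) κ' (hU.preimage A.π) (AffAlgLib.le_preimage A.π f w' U)]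
  exact congrArg (fun k => (f ⁻¹ᵁ U).toSpecΓ ≫ Spec.map k ≫ (hU.preimage A.π).fromSpec) (key U hU)

omit [M.IsQuasicoherent] in
/-- A morphism hitting generators is a closed immersion. -/
theorem isClosedImmersion_toSpec (f : Y ⟶ X) [IsAffineHom f] (κ : Y ⟶ A.spec) (w : κ ≫ A.π = f)
    (φ : M ⟶ (Scheme.Modules.pushforward f).obj (Coh.structureModule Y))
    (hφ : ∀ U : X.Opens, IsAffineOpen U → Function.Surjective (φ.app U))
    (h : ∀ (U : X.Opens) (m : Γ(M, U)) (t : Γ(A.spec, A.π ⁻¹ᵁ U)),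
      (A.gammaMap.app (op U)).hom t = jM.app U m → secMap f κ w U t = φ.app U m) :
    IsClosedImmersion κ := by
  refine AffAlgLib.isClosedImmersion_of_surjective A.π f κ w fun U y => ?_
  rw [AffAlgLib.algHom_app]
  obtain ⟨m, hm⟩ := hφ U.1 U.2 y
  obtain ⟨t, ht⟩ := (gammaMap_bijective (A := A) U.1).2 (jM.app U.1 m)
  exact ⟨t, (h U.1 m t ht).trans hm⟩


/-- Algebraization of formal finite schemes, given the existence theorem. -/
theorem algebraize_formal_finite {A : Type u} [CommRing A] [IsNoetherianRing A] (I : Ideal A) [IsAdicComplete I A]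
    {X : Scheme.{u}} (f : X ⟶ Spec (CommRingCat.of A)) [IsSeparated f] [LocallyOfFiniteType f] [QuasiCompact f]
    (hex : ∀ (V : Scheme.{u}) (g : V ⟶ Spec (CommRingCat.of A)), IsSeparated g → LocallyOfFiniteType g →
      QuasiCompact g → letI : V.Over (Spec (CommRingCat.of A)) := ⟨g⟩; AlgebraizeSub.Existence A I V)
    (Y : ℕ → Scheme.{u}) (y : (n : ℕ) → (Y n ⟶ CohB1.thick f I n)) (t : (n : ℕ) → (Y n ⟶ Y (n + 1)))
    (hy : ∀ n, IsFinite (y n))
    (ht : ∀ n, IsPullback (t n) (y n) (y (n + 1)) (CohB1.thickTrans f I n))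
    (hp : IsProper (y 0 ≫ CohB1.thickToBase f I 0)) :
    ∃ (W : Scheme.{u}) (i : W ⟶ X) (w : (n : ℕ) → (Y n ⟶ W)), IsFinite i ∧
      IsProper (i ≫ f) ∧ (∀ n, w n = t n ≫ w (n + 1)) ∧
      ∀ n, IsPullback (w n) (y n) i (CohB1.thickι f I n) := by
  letI : X.Over (Spec (CommRingCat.of A)) := ⟨f⟩
  haveI : ∀ n, IsClosedImmersion (CohB1.specQuot I n) := fun n =>
    IsClosedImmersion.spec_of_surjective _ Ideal.Quotient.mk_surjective
  haveI : ∀ n, IsClosedImmersion (CohB1.thickι f I n) := fun n =>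
    MorphismProperty.pullback_fst f (CohB1.specQuot I n) inferInstance
  haveI := hy
  haveI : IsSeparated (X ↘ Spec (CommRingCat.of A)) := ‹IsSeparated f›
  haveI : LocallyOfFiniteType (X ↘ Spec (CommRingCat.of A)) := ‹LocallyOfFiniteType f›
  haveI : QuasiCompact (X ↘ Spec (CommRingCat.of A)) := ‹QuasiCompact f›
  haveI : IsLocallyNoetherian X := LocallyOfFiniteType.isLocallyNoetherian f
  let j : ∀ n, Y n ⟶ X := fun n => y n ≫ CohB1.thickι f I n
  have hpb : ∀ n, IsPullback (t n) (y n) (y (n + 1) ≫ CohB1.thickι f I (n + 1)) (CohB1.thickι f I n) := fun n => by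
    simpa using (ht n).paste_vert (AlgebraizeSub.isPullback_thickTrans f I n)
  obtain ⟨G, hG, -, e, -, hGt⟩ := AlgebraizeSub.exists_formal' (I := I) y (fun n => CohB1.thickι f I n)
    (fun n => FormalFun.isCut_of_isPullback (CohB1.thickι f I n) I n
      (IsPullback.of_hasPullback f (CohB1.specQuot I n))) t hpb
  -- the support of the first level is proper
  haveI hp0 : IsProper (j 0 ≫ f) := by
    show IsProper ((y 0 ≫ pullback.fst f (CohB1.specQuot I 0)) ≫ f)
    rw [Category.assoc, pullback.condition, ← Category.assoc]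
    infer_instance
  have hrange : ClSub.IsProperOver f (Set.range (j 0)) := by
    haveI : IsProper (𝟙 (Y 0) ≫ j 0 ≫ f) := by rw [Category.id_comp]; infer_instance
    rw [← Set.image_univ]
    exact EtShriekLib.ipo_image (j 0 ≫ f) (j 0) f rfl
      (EtShriekLib.ipo_of_immersion (j 0 ≫ f) (𝟙 (Y 0)) isClosed_univ fun x _ => ⟨x, rfl⟩)
  have hG0 : CohB1.support (G.obj (op 0)) ⊆ Set.range (j 0) := fun x hx => by
    by_contra hn
    refine hx ?_
    haveI : Subsingleton (((Scheme.Modules.pushforward (j 0)).obj (Coh.structureModule (Y 0))).presheaf.stalk x) :=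
      ClUnit.subsingleton_stalk_pushforward (j 0) _ x ⟨(Set.range (j 0))ᶜ, hrange.1.isOpen_compl⟩ hn
        (le_bot_iff.mp fun z hz => hz ⟨z, rfl⟩)
    exact Function.Surjective.subsingleton (PullStalk.Exact.stalk_surjective (e 0).inv x)
  obtain ⟨M, hM, -, ⟨φ⟩⟩ := hex X f inferInstance inferInstance inferInstance G hG
    (EtShriekLib.ipo_mono f hrange (S0020.result X _ (hG.1 0).2) hG0)
  haveI : M.IsQuasicoherent := hM.1
  let μ : ∀ n, M ⟶ (Scheme.Modules.pushforward (j n)).obj (Coh.structureModule (Y n)) := fun n =>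
    Formal.modPowπ I (n + 1) M ≫ φ.hom.app (op n) ≫ (e n).hom
  have hμsurj : ∀ n (U : X.Opens), IsAffineOpen U → Function.Surjective ((μ n).app U) := fun n U hU => by
    haveI : Epi (Formal.modPowπ I (n + 1) M) := inferInstanceAs (Epi (cokernel.π _))
    haveI : ((Scheme.Modules.pushforward (j n)).obj (Coh.structureModule (Y n))).IsQuasicoherent :=
      haveI := (hG.1 n).1
      QCoh.isQuasicoherent_of_iso (e n)
    exact QCoh.app_surjective_of_epi (μ n) hU
  have hμ : ∀ n, μ n = μ (n + 1) ≫ AlgebraizeSub.β (t n) (j (n + 1)) (hpb n).w := fun n => by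
    have h1 := φ.hom.naturality (homOfLE (Nat.le_succ n)).op
    have hc : (Formal.completion I M).map (homOfLE (Nat.le_succ n)).op = Formal.modPowTrans I (n + 1) M :=
      Functor.ofOpSequence_map_homOfLE_succ _ n
    rw [hc] at h1
    simp only [μ, Category.assoc]
    rw [← hGt n, ← reassoc_of% h1, ← Category.assoc _ (Formal.modPowTrans I (n + 1) M), Formal.modPowπ_trans]
  obtain ⟨B, jM, hB⟩ := S8270.result M hM.1
  haveI : LocallyOfFiniteType B.π := S8267.result M hM B jM hB
  choose κ hκw hκ using fun n => exists_toSpec hB (j n) (μ n)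
  haveI hκc : ∀ n, IsClosedImmersion (κ n) := fun n =>
    isClosedImmersion_toSpec (j n) (κ n) (hκw n) (μ n) (hμsurj n) (hκ n)
  have hκt : ∀ n, t n ≫ κ (n + 1) = κ n := fun n => by
    have w' : (t n ≫ κ (n + 1)) ≫ B.π = j n := by rw [Category.assoc, hκw]; exact (hpb n).w
    refine toSpec_ext hB (j n) _ _ w' (hκw n) fun U _ m s hs => ?_
    rw [hκ n U m s hs, hμ n]
    refine (secMap_comp (t n) (j (n + 1)) (κ (n + 1)) (hκw (n + 1)) (hpb n).w w' U s).trans ?_
    refine Eq.trans ?_ (congrArg ((AlgebraizeSub.β (t n) (j (n + 1)) (hpb n).w).app U) (hκ (n + 1) U m s hs))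
    exact (β_app (t n) (j (n + 1)) (hpb n).w U _).symm
  -- the closed subschemes of the vector bundle
  let fV := B.π ≫ f
  haveI : ∀ n, IsClosedImmersion (CohB1.thickι fV I n) := fun n =>
    MorphismProperty.pullback_fst fV (CohB1.specQuot I n) inferInstance
  have hκb : ∀ n, κ n ≫ fV = (y n ≫ CohB1.thickToBase f I n) ≫ CohB1.specQuot I n := fun n => by
    simp only [fV, reassoc_of% (hκw n), j, Category.assoc]
    exact congrArg (y n ≫ ·) pullback.condition
  let z : ∀ n, Y n ⟶ CohB1.thick fV I n := fun n => pullback.lift (κ n) (y n ≫ CohB1.thickToBase f I n) (hκb n)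
  have hzι : ∀ n, z n ≫ CohB1.thickι fV I n = κ n := fun n => pullback.lift_fst _ _ _
  have hz : ∀ n, IsClosedImmersion (z n) := fun n => by
    haveI : IsClosedImmersion (z n ≫ CohB1.thickι fV I n) := by rw [hzι]; infer_instance
    exact IsClosedImmersion.of_comp (z n) (CohB1.thickι fV I n)
  let q : ∀ n, CohB1.thick fV I n ⟶ CohB1.thick f I n := fun n =>
    pullback.lift (CohB1.thickι fV I n ≫ B.π) (CohB1.thickToBase fV I n)
      (by rw [Category.assoc]; exact pullback.condition)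
  have hqι : ∀ n, q n ≫ CohB1.thickι f I n = CohB1.thickι fV I n ≫ B.π := fun n => pullback.lift_fst _ _ _
  have hzq : ∀ n, z n ≫ q n = y n := fun n => by
    rw [← cancel_mono (CohB1.thickι f I n), Category.assoc, hqι, reassoc_of% (hzι n), hκw]
  have tι : ∀ {V : Scheme.{u}} (k : V ⟶ Spec (CommRingCat.of A)) (n : ℕ),
      CohB1.thickTrans k I n ≫ CohB1.thickι k I (n + 1) = CohB1.thickι k I n := fun k n =>
    (AlgebraizeSub.isPullback_thickTrans k I n).w.trans (Category.id_comp _)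
  have hq : ∀ n, CohB1.thickTrans fV I n ≫ q (n + 1) = q n ≫ CohB1.thickTrans f I n := fun n => by
    rw [← cancel_mono (CohB1.thickι f I (n + 1)), Category.assoc, Category.assoc, hqι, tι, hqι,
      reassoc_of% (tι fV n)]
  have hzt : ∀ n, t n ≫ z (n + 1) = z n ≫ CohB1.thickTrans fV I n := fun n => by
    rw [← cancel_mono (CohB1.thickι fV I (n + 1)), Category.assoc, Category.assoc, hzι, tι, hzι, hκt]
  have htV : ∀ n, IsPullback (t n) (z n) (z (n + 1)) (CohB1.thickTrans fV I n) := fun n => by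
    haveI : Mono (CohB1.thickTrans fV I n) := mono_of_mono_fac (tι fV n)
    haveI := hz n
    have hc : ∀ c : PullbackCone (z (n + 1)) (CohB1.thickTrans fV I n),
        c.fst ≫ y (n + 1) = (c.snd ≫ q n) ≫ CohB1.thickTrans f I n := fun c => by
      rw [Category.assoc, ← hq, ← reassoc_of% c.condition, hzq]
    refine ⟨⟨hzt n⟩, ⟨PullbackCone.IsLimit.mk _ (fun c => (ht n).lift c.fst (c.snd ≫ q n) (hc c)) (fun c => ?_)
      (fun c => ?_) (fun c m h1 h2 => ?_)⟩⟩
    · exact (ht n).lift_fst _ _ _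
    · rw [← cancel_mono (CohB1.thickTrans fV I n), Category.assoc, ← hzt, ← Category.assoc, (ht n).lift_fst,
        c.condition]
    · refine (ht n).hom_ext ?_ ?_
      · rw [(ht n).lift_fst, h1]
      · rw [(ht n).lift_snd, ← h2, Category.assoc, hzq]
  haveI : IsSeparated fV := inferInstance
  haveI : LocallyOfFiniteType fV := inferInstance
  haveI : QuasiCompact fV := inferInstance
  haveI : IsProper (z 0 ≫ CohB1.thickToBase fV I 0) := by
    rw [show z 0 ≫ CohB1.thickToBase fV I 0 = y 0 ≫ CohB1.thickToBase f I 0 from pullback.lift_snd _ _ _]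
    exact hp
  obtain ⟨W, i, w, hi, hip, hwc, hwp⟩ := AlgebraizeSub.algebraize_formal_closed I fV
    (hex B.spec fV inferInstance inferInstance inferInstance) Y z t hz htV inferInstance
  haveI : IsProper ((i ≫ B.π) ≫ f) := by rw [Category.assoc]; exact hip
  haveI : IsProper (i ≫ B.π) := IsProper.of_comp (i ≫ B.π) f
  refine ⟨W, i ≫ B.π, w, ?_, inferInstance, hwc, fun n => ?_⟩
  · exact (IsFinite.iff_isProper_and_isAffineHom ..).2 ⟨inferInstance, inferInstance⟩
  · have h2 : IsPullback (CohB1.thickι fV I n) (q n) B.π (CohB1.thickι f I n) := by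
      refine IsPullback.of_bot ?_ (hqι n).symm (IsPullback.of_hasPullback f (CohB1.specQuot I n))
      have h3 := IsPullback.of_hasPullback fV (CohB1.specQuot I n)
      rw [show q n ≫ pullback.snd f (CohB1.specQuot I n) = pullback.snd fV (CohB1.specQuot I n) from
        pullback.lift_snd _ _ _]
      exact h3
    have h4 := (hwp n).paste_vert h2
    rwa [hzq] at h4

end Groth.Agent.LiftLib.AlgebraizeFin
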