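import Groth.Agent.Props.GenLocus
import Groth.Agent.LFFrame.Basic
import Mathlib.AlgebraicGeometry.Morphisms.Proper

/-!
# Sections of invertible modules generating along the closed fibre
-/

set_option autoImplicit false
set_option linter.style.haveILetI false
set_option backward.isDefEq.respectTransparency false
set_option backward.isDefEq.respectTransparency.types false

universe u

open CategoryTheory CategoryTheory.Limits AlgebraicGeometry TopologicalSpace Opposite

noncomputable section

namespace Groth.Agent.LiftLib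

open Groth.Agent.QCoh Groth.Agent.Props.GenLocus

variable {X Z : Scheme.{u}}

theorem isGen_sec_of_isIso {L : X.Modules} (s : Coh.structureModule X ⟶ L) [IsIso s] (W : X.Opens) :
    IsGen L W (sec s W) :=
  (isIso_restrict_iff s W).1 inferInstance

theorem isIso_of_genLocus_eq_top {L : X.Modules} (s : Coh.structureModule X ⟶ L)
    (h : CohB1.genLocus L s = ⊤) : IsIso s := by
  have hg := isGen_genLocus s
  rw [h] at hg
  rw [Scheme.Modules.Hom.isIso_iff_isIso_app]
  intro V
  refine (ConcreteCategory.isIso_iff_bijective _).mpr ?_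
  rw [show ⇑(ConcreteCategory.hom (s.app V)) = fun a : Γ(X, V) => a • res L (le_top : V ≤ ⊤) (sec s ⊤) from
    funext fun a => by rw [sec_res]; exact app_eq s V a]
  exact hg V le_top

theorem mem_genLocus_of_isIso_pullback (g : Z ⟶ X) {L : X.Modules} (hL : PicF.IsInvertible L)
    (s : Coh.structureModule X ⟶ L) [IsIso ((Scheme.Modules.pullback g).map s)] (z : Z) :
    g z ∈ CohB1.genLocus L s := by
  obtain ⟨U, e, hzU, he⟩ := exists_isGen hL (g z)
  obtain ⟨c, hc, -⟩ := he.exists_eq le_rfl (sec s U)
  rw [res_self] at hc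
  have h1 : z ∈ g ⁻¹ᵁ U := hzU
  let η := (Scheme.Modules.pullbackPushforwardAdjunction g).unit
  have hnat : ((Scheme.Modules.pullback g).map s).app (g ⁻¹ᵁ U)
      (LFFrame.unitSec g (Coh.structureModule X) U (one' U)) = LFFrame.unitSec g L U (sec s U) :=
    (congr($(η.naturality s).app U (one' U))).symm
  let he' := (isGen_iff_isFrame _).mpr (LFFrame.IsFrame.pullback g ((isGen_iff_isFrame e).mp he))
  have h0 : IsGen (Coh.structureModule X) U (one' U) := by
    have h2 := isGen_sec_of_isIso (𝟙 (Coh.structureModule X)) U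
    exact h2
  have h0' : IsGen ((Scheme.Modules.pullback g).obj (Coh.structureModule X)) (g ⁻¹ᵁ U)
      (LFFrame.unitSec g (Coh.structureModule X) U (one' U)) :=
    (isGen_iff_isFrame _).mpr (LFFrame.IsFrame.pullback g ((isGen_iff_isFrame _).mp h0))
  let φ := (Scheme.Modules.pullback g).map s
  obtain ⟨d, hd, -⟩ := h0'.exists_eq le_rfl ((inv φ).app (g ⁻¹ᵁ U) (LFFrame.unitSec g L U e))
  rw [res_self] at hd
  have hone : (1 : Γ(Z, g ⁻¹ᵁ U)) = d * g.app U c := by
    refine he'.injective le_rfl ?_
    rw [res_self, one_smul]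
    have h3 := congrArg (φ.app (g ⁻¹ᵁ U)) hd
    rw [Scheme.Modules.Hom.app_smul, hnat, hc, LFFrame.unitSec_smul, smul_smul,
      ← ConcreteCategory.comp_apply, ← Scheme.Modules.Hom.comp_app, IsIso.inv_hom_id] at h3
    exact h3
  have hu : IsUnit (g.app U c) := IsUnit.of_mul_eq_one_right d hone.symm
  have hb : z ∈ Z.basicOpen (g.app U c) := (Z.mem_basicOpen _ z h1).2 (hu.map (Z.presheaf.germ _ z h1).hom)
  rw [← Scheme.preimage_basicOpen g] at hb
  have hb' : g z ∈ CohB1.genLocus L s ⊓ U := by
    rw [genLocus_inf he s hc]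
    exact hb
  exact hb'.1

theorem eq_top_of_closedFibre {A : Type u} [CommRing A] [IsLocalRing A] (f : X ⟶ Spec (CommRingCat.of A))
    [UniversallyClosed f] (W : X.Opens) (h : ∀ x, f x = IsLocalRing.closedPoint A → x ∈ W) : W = ⊤ := by
  by_contra hne
  obtain ⟨y, hy⟩ : ∃ y, y ∉ W := by
    by_contra hall
    push Not at hall
    exact hne (top_le_iff.mp fun y _ => hall y)
  have hcl : IsClosed (f '' (W : Set X)ᶜ) := f.isClosedMap _ W.2.isClosed_compl
  have hmem : IsLocalRing.closedPoint A ∈ f '' (W : Set X)ᶜ :=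
    (IsLocalRing.specializes_closedPoint (f y)).mem_closed hcl ⟨y, hy, rfl⟩
  obtain ⟨x, hx, hfx⟩ := hmem
  exact hx (h x hfx)

end Groth.Agent.LiftLib

end
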