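import Groth.Agent.LiftLib.PicPrim
import Groth.Agent.Omega.GrBC
import Mathlib.RingTheory.Flat.EquationalCriterion

/-!
# The ideal of a step of a flat adic system is free over the closed fibre

For a flat adic system over the `A/m^(n+1)` the ideal of `X_n` in `X_(n+1)` is spanned by lifts of a
basis of `m^(n+1)/m^(n+2)`, with coefficients read on `X_0`.
-/

set_option autoImplicit false
set_option linter.style.haveILetI false
set_option backward.isDefEq.respectTransparency false
set_option backward.isDefEq.respectTransparency.types false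

universe u

open CategoryTheory CategoryTheory.Limits AlgebraicGeometry Opposite TopologicalSpace

noncomputable section

namespace Groth.Agent.LiftLib

open Groth.Agent.QCoh

/-- A minimal spanning family of an ideal `N` killed by the maximal `M` is a basis over `R ⧸ M`. -/
theorem exists_basis_of_mul_eq_bot {R : Type u} [CommRing R] [IsNoetherianRing R] (M N : Ideal R)
    (hM : ∀ a, a ∉ M → IsUnit a) (hMN : ∀ a ∈ M, ∀ z ∈ N, a * z = 0) :
    ∃ (r : ℕ) (z : Fin r → R), Ideal.span (Set.range z) = N ∧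
      ∀ a : Fin r → R, ∑ i, a i * z i = 0 ↔ ∀ i, a i ∈ M := by
  classical
  have hex : ∃ r, ∃ z : Fin r → R, Ideal.span (Set.range z) = N :=
    Submodule.fg_iff_exists_fin_generating_family.1 (IsNoetherian.noetherian N)
  obtain ⟨z, hz⟩ := Nat.find_spec hex
  refine ⟨Nat.find hex, z, hz, fun a => ⟨fun h0 i => ?_, fun h => Finset.sum_eq_zero fun i _ =>
    hMN _ (h i) _ (hz ▸ Ideal.subset_span ⟨i, rfl⟩)⟩⟩
  by_contra hi
  obtain ⟨w, hw⟩ := hM _ hi
  have hlt : Nat.find hex - 1 < Nat.find hex := Nat.sub_lt i.pos Nat.one_pos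
  refine Nat.find_min hex hlt ?_
  obtain ⟨r', hr'⟩ : ∃ r', Nat.find hex = r' + 1 := ⟨_, (Nat.succ_pred_eq_of_pos i.pos).symm⟩
  have hmem : z i ∈ Ideal.span (z '' {i}ᶜ) := by
    rw [← Finset.add_sum_erase _ _ (Finset.mem_univ i), add_eq_zero_iff_eq_neg, ← hw] at h0
    have : z i = ↑w⁻¹ * (-∑ j ∈ Finset.univ.erase i, a j * z j) := by
      rw [← h0, ← mul_assoc, w.inv_mul, one_mul]
    rw [this]
    refine Ideal.mul_mem_left _ _ (neg_mem (sum_mem fun j hj => Ideal.mul_mem_left _ _ ?_))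
    exact Ideal.subset_span ⟨j, Finset.ne_of_mem_erase hj, rfl⟩
  rw [hr', Nat.add_sub_cancel]
  refine ⟨fun j => z (Fin.cast hr'.symm ((Fin.cast hr' i).succAbove j)), le_antisymm ?_ ?_⟩
  · exact (Ideal.span_mono (by rintro _ ⟨j, rfl⟩; exact ⟨_, rfl⟩)).trans_eq hz
  · refine hz.symm.le.trans (Ideal.span_le.2 ?_)
    rintro _ ⟨j, rfl⟩
    have hsub : z '' {i}ᶜ ⊆
        Set.range fun j => z (Fin.cast hr'.symm ((Fin.cast hr' i).succAbove j)) := by
      rintro _ ⟨j, hj, rfl⟩
      obtain ⟨j', hj'⟩ := Fin.exists_succAbove_eq (x := Fin.cast hr' j) (y := Fin.cast hr' i)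
        fun e => hj (Fin.cast_injective _ e)
      exact ⟨j', by simp [hj']⟩
    by_cases hj : j = i
    · exact hj ▸ Ideal.span_mono hsub hmem
    · exact Ideal.subset_span (hsub ⟨j, hj, rfl⟩)

variable {X Z P : Scheme.{u}} {R R' : Type u} [CommRing R] [CommRing R']

/-- the ring map to sections of a scheme over an affine base -/
def secMap (f : X ⟶ Spec (CommRingCat.of R)) (V : X.Opens) : R →+* Γ(X, V) :=
  ((Scheme.ΓSpecIso (CommRingCat.of R)).inv ≫ f.appLE ⊤ V (by simp)).hom

lemma rres_secMap (f : X ⟶ Spec (CommRingCat.of R)) {U V : X.Opens} (h : V ≤ U) (a : R) :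
    rres h (secMap f U a) = secMap f V a := by
  show (f.appLE ⊤ U _ ≫ X.presheaf.map (homOfLE h).op) _ = _
  rw [Scheme.Hom.appLE_map]
  rfl

lemma flat_secMap (f : X ⟶ Spec (CommRingCat.of R)) [Flat f] {V : X.Opens} (hV : IsAffineOpen V) :
    (secMap f V).Flat := by
  refine RingHom.Flat.comp ?_ (f.flat_appLE (isAffineOpen_top _) hV (by simp))
  exact RingHom.Flat.of_bijective (ConcreteCategory.bijective_of_isIso (Scheme.ΓSpecIso (CommRingCat.of R)).inv)

lemma app_eq_zero_iff {p : P ⟶ X} [QuasiCompact p] {V : X.Opens} (hV : IsAffineOpen V) (s : Γ(X, V)) :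
    p.app V s = 0 ↔ s ∈ p.ker.ideal ⟨V, hV⟩ := by
  rw [Scheme.Hom.ker_apply, RingHom.mem_ker]

theorem app_eq_zero_iff_mem_map (φ : R →+* R') (hφ : Function.Surjective φ) {p : P ⟶ X}
    {q : P ⟶ Spec (CommRingCat.of R')} {f : X ⟶ Spec (CommRingCat.of R)}
    (hsq : IsPullback p q f (Spec.map (CommRingCat.ofHom φ)))
    {V : X.Opens} (hV : IsAffineOpen V) (s : Γ(X, V)) :
    p.app V s = 0 ↔ s ∈ (RingHom.ker φ).map (secMap f V) := by
  haveI : IsClosedImmersion (Spec.map (CommRingCat.ofHom φ)) := IsClosedImmersion.spec_of_surjective _ hφ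
  haveI : IsClosedImmersion p := Omega.GrBC.isClosedImmersion_of_sq hsq.flip
  rw [app_eq_zero_iff hV, Omega.GrBC.ker_eq_comap hsq.flip,
    IdealSh.Comap.ideal_comap _ f ⟨⊤, isAffineOpen_top _⟩ ⟨V, hV⟩ (by simp),
    Scheme.Hom.ker_apply, secMap, CommRingCat.hom_comp, ← Ideal.map_map]
  refine iff_of_eq (congrArg (fun J => s ∈ Ideal.map _ J) ?_)
  have hnat := Scheme.ΓSpecIso_naturality (CommRingCat.ofHom φ)
  ext a
  obtain ⟨b, rfl⟩ : ∃ b, (Scheme.ΓSpecIso (CommRingCat.of R)).inv.hom b = a :=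
    (ConcreteCategory.bijective_of_isIso (Scheme.ΓSpecIso (CommRingCat.of R)).inv).2 a
  have hnat' := congrArg (fun g => g.hom ((Scheme.ΓSpecIso (CommRingCat.of R)).inv.hom b)) hnat
  have e1 : (Scheme.ΓSpecIso (CommRingCat.of R)).hom.hom
      ((Scheme.ΓSpecIso (CommRingCat.of R)).inv.hom b) = b :=
    Iso.inv_hom_id_apply (Scheme.ΓSpecIso (CommRingCat.of R)) b
  simp only [CommRingCat.hom_comp, RingHom.comp_apply, e1] at hnat'
  change (Scheme.ΓSpecIso (CommRingCat.of R')).hom.hom
    ((Spec.map (CommRingCat.ofHom φ)).appTop.hom _) = φ b at hnat'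
  rw [Ideal.mem_map_iff_of_surjective _
    (ConcreteCategory.bijective_of_isIso (Scheme.ΓSpecIso (CommRingCat.of R)).inv).2]
  constructor
  · intro h
    refine ⟨b, ?_, rfl⟩
    rw [RingHom.mem_ker, ← hnat']
    exact (congrArg _ (RingHom.mem_ker.1 h)).trans (map_zero _)
  · rintro ⟨b', hb', he⟩
    obtain rfl := (ConcreteCategory.bijective_of_isIso (Scheme.ΓSpecIso (CommRingCat.of R)).inv).1 he
    rw [RingHom.mem_ker]
    refine (ConcreteCategory.bijective_of_isIso (Scheme.ΓSpecIso (CommRingCat.of R')).hom).1 ?_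
    rw [map_zero]
    exact hnat'.trans (RingHom.mem_ker.1 hb')

/-- The square zero step: `I` is spanned freely over `Z` by a basis of the kernel. -/
theorem exists_spans [IsNoetherianRing R] {R₀ : Type u} [CommRing R₀] (f : X ⟶ Spec (CommRingCat.of R)) [Flat f]
    (φ : R →+* R') (hφ : Function.Surjective φ) (φ₀ : R →+* R₀) (hφ₀ : Function.Surjective φ₀)
    (hunit : ∀ a, φ₀ a ≠ 0 → IsUnit a) (hker : RingHom.ker φ ≤ RingHom.ker φ₀)
    (hmul : ∀ a ∈ RingHom.ker φ₀, ∀ z ∈ RingHom.ker φ, a * z = 0)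
    {p : P ⟶ X} {q : P ⟶ Spec (CommRingCat.of R')} (hp : IsPullback p q f (Spec.map (CommRingCat.ofHom φ)))
    {k : Z ⟶ X} {q₀ : Z ⟶ Spec (CommRingCat.of R₀)} (hk : IsPullback k q₀ f (Spec.map (CommRingCat.ofHom φ₀)))
    [IsClosedImmersion k] [IsClosedImmersion p] :
    ∃ (r : ℕ) (z : Fin r → Γ(X, ⊤)), Spans k z p.ker ∧ p.ker ^ 2 = ⊥ := by
  obtain ⟨r, a, hspan, hrel⟩ := exists_basis_of_mul_eq_bot (RingHom.ker φ₀) (RingHom.ker φ)
    (fun a ha => hunit a ha) hmul
  have hI : ∀ {V : X.Opens}, IsAffineOpen V → ∀ s : Γ(X, V),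
      p.ker.subschemeι.app V s = 0 ↔ p.app V s = 0 := fun hV s => by
    rw [app_eq_zero_iff hV, app_eq_zero_iff hV, Scheme.IdealSheafData.ker_subschemeι]
  refine ⟨r, fun i => secMap f ⊤ (a i), ⟨?_, ?_, ?_⟩, ?_⟩
  · intro V hV s hs
    rw [hI hV, app_eq_zero_iff_mem_map φ hφ hp hV, ← hspan, Ideal.map_span, ← Set.range_comp,
      Ideal.mem_span_range_iff_exists_fun] at hs
    obtain ⟨c, hc⟩ := hs
    refine ⟨c, ?_⟩
    rw [← hc, comb]
    exact Finset.sum_congr rfl fun i _ => by rw [rres_secMap, mul_comm]; rfl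
  · intro V hV b
    rw [hI hV, app_eq_zero_iff_mem_map φ hφ hp hV, comb]
    refine sum_mem fun i _ => Ideal.mul_mem_right _ _ ?_
    rw [rres_secMap]
    exact Ideal.mem_map_of_mem _ (hspan ▸ Ideal.subset_span ⟨i, rfl⟩)
  · intro V hV b
    simp only [app_eq_zero_iff_mem_map φ₀ hφ₀ hk hV]
    letI := (secMap f V).toAlgebra
    haveI : Module.Flat R Γ(X, V) := flat_secMap f hV
    constructor
    · intro h i
      have h' : ∑ i, a i • b i = 0 := by
        rw [← h, comb]
        exact Finset.sum_congr rfl fun i _ => by rw [rres_secMap, Algebra.smul_def]; rfl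
      obtain ⟨t, c, y, hb, hc⟩ := Module.Flat.isTrivialRelation_of_sum_smul_eq_zero h'
      rw [hb i]
      refine sum_mem fun j _ => ?_
      rw [Algebra.smul_def]
      refine Ideal.mul_mem_right _ _ (Ideal.mem_map_of_mem _ ?_)
      exact (hrel fun i => c i j).1
        (by rw [← hc j]; exact Finset.sum_congr rfl fun i _ => mul_comm _ _) i
    · intro h
      refine Finset.sum_eq_zero fun i _ => ?_
      rw [rres_secMap]
      refine Submodule.span_induction (p := fun x _ => secMap f V (a i) * x = 0) ?_ ?_ ?_ ?_ (h i)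
      · rintro _ ⟨m, hm, rfl⟩
        rw [← map_mul, mul_comm, hmul m hm _ (hspan ▸ Ideal.subset_span ⟨i, rfl⟩), map_zero]
      · simp
      · intro x y _ _ hx hy; rw [mul_add, hx, hy, add_zero]
      · intro c x _ hx; rw [smul_eq_mul, mul_left_comm, hx, mul_zero]
  · refine Scheme.IdealSheafData.ext (funext fun V => ?_)
    rw [Scheme.IdealSheafData.ideal_pow, Scheme.IdealSheafData.ideal_bot, Pi.pow_apply,
      Pi.bot_apply, eq_bot_iff, pow_two, Ideal.mul_le]
    intro x hx y hy
    rw [← app_eq_zero_iff V.2, app_eq_zero_iff_mem_map φ hφ hp V.2] at hx hy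
    have h := Ideal.mul_mem_mul hx hy
    rw [← Ideal.map_mul] at h
    have h0 : RingHom.ker φ * RingHom.ker φ = ⊥ :=
      le_bot_iff.1 (Ideal.mul_le.2 fun u hu v hv => by rw [hmul u (hker hu) v hv]; exact zero_mem _)
    rwa [h0, Ideal.map_bot] at h

set_option backward.isDefEq.respectTransparency false in
/-- Separatedness descends along surjective closed immersions. -/
theorem isSeparated_of_comp_surjective {Y₀ Y W : Scheme.{u}} (i : Y₀ ⟶ Y) [IsClosedImmersion i]
    [Surjective i] (F : Y ⟶ W) [IsSeparated (i ≫ F)] : IsSeparated F := by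
  refine ⟨?_⟩
  have hm : IsClosedImmersion (pullback.map (i ≫ F) (i ≫ F) F F i i (𝟙 W) (by simp) (by simp)) :=
    MorphismProperty.pullbackMap (P := @IsClosedImmersion) ‹_› ‹_› rfl rfl
  have e : i ≫ pullback.diagonal F =
      pullback.diagonal (i ≫ F) ≫ pullback.map (i ≫ F) (i ≫ F) F F i i (𝟙 W) (by simp) (by simp) := by
    apply pullback.hom_ext <;> simp [pullback.diagonal, pullback.map] <;> exact (Category.id_comp i).symm
  have hc : IsClosedImmersion (i ≫ pullback.diagonal F) := e ▸ inferInstance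
  refine IsClosedImmersion.of_isPreimmersion _ ?_
  have hr : Set.range (pullback.diagonal F) = Set.range (i ≫ pullback.diagonal F) := by
    rw [Scheme.Hom.comp_base, TopCat.coe_comp, i.surjective.range_comp]
  rw [hr]
  exact (i ≫ pullback.diagonal F).isClosedEmbedding.isClosed_range

open CohAff in
/-- In degree one only coboundaries die, on any cover. -/
theorem exists_cd_eq_one {T : TopCat.{u}} {ι : Type u} {U : ι → Opens T} (hU : ⨆ i, U i = ⊤)
    (F : AbSh T) (h : Subsingleton (Sheaf.H F 1)) {c : Cochain F.obj U 1}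
    (hc : cd F.obj U 1 c = 0) : ∃ t, cd F.obj U 0 t = c := by
  have h0 : toH hU 1 F c hc = 0 := @Subsingleton.elim _ h _ _
  obtain ⟨b, hb⟩ := exists_bound F hc
  rw [toH_succ_eq hU F hc hb] at h0
  obtain ⟨w, hw⟩ := exists_map_eq_of_gdδ_eq_zero F h0
  obtain ⟨s, hs⟩ := exists_aug_eq (qt F) hU (cd_quot_eq_zero F hb)
  rw [toH_zero_eq hU (qt F) _ hs] at hw
  have hw' : (gπ F).hom.app (op ⊤) (Sheaf.H.equiv₀ (gd F) isTerminalTop w) = s := by
    rw [Sheaf.H.equiv₀_naturality]
    exact (congrArg _ hw).trans (AddEquiv.apply_symm_apply _ _)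
  have hd : cmap (gπ F).hom U 0
      (b - aug (gd F).obj U (Sheaf.H.equiv₀ (gd F) isTerminalTop w)) = 0 := by
    refine (map_sub _ _ _).trans (sub_eq_zero.2 ?_)
    refine hs.symm.trans ((congrArg (aug (qt F).obj U) hw'.symm).trans ?_)
    exact (cmap_aug (gπ F).hom _).symm
  obtain ⟨a, ha⟩ := exists_cmap_f (gdSeq_shortExact F) hd
  refine ⟨a, cmap_f_injective (gdSeq_shortExact F) U 1 ?_⟩
  refine (cd_cmap (η F).hom U 0 a).symm.trans ?_
  refine (congrArg (cd (gd F).obj U 0) ha).trans ?_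
  exact (map_sub _ _ _).trans ((congrArg (_ - ·) (cd_aug _ _)).trans ((sub_zero _).trans hb))

variable {X Z : Scheme.{u}}

theorem iSup_preimage_eq_top (k : Z ⟶ X) {U : X → X.Opens} (hU : ∀ x, x ∈ U x) :
    ⨆ x, k ⁻¹ᵁ U x = ⊤ :=
  top_le_iff.mp fun p _ => Opens.mem_iSup.2 ⟨k p, hU (k p)⟩

theorem hasPrim_one (k : Z ⟶ X) [IsClosedImmersion k] [X.IsSeparated] {r : ℕ} {z : Fin r → Γ(X, ⊤)}
    {I : X.IdealSheafData} (hI : Spans k z I)
    (h : Subsingleton (Coh.HH Z (Coh.structureModule Z) 2)) : PicPrim.HasPrim I 1 := by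
  intro U hU hx s hs
  haveI : Z.IsSeparated := ⟨by rw [← terminal.comp_from k]; infer_instance⟩
  exact exists_primitive hI (fun c hc => CohAff.exists_cd_eq_of_toH_eq_zero (C := CohAff.affCov Z)
    (iSup_preimage_eq_top k hx) (fun x => PicThick.isAffineOpen_inter _ (fun a => (hU a).preimage k) x)
    (CohAff.good_affCov (Coh.structureModule Z)) hc (@Subsingleton.elim _ h _ _))
    (fun y => PicThick.isAffineOpen_inter U hU y) s hs

theorem hasPrim_zero (k : Z ⟶ X) [IsClosedImmersion k] {r : ℕ} {z : Fin r → Γ(X, ⊤)}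
    {I : X.IdealSheafData} (hI : Spans k z I)
    (h : Subsingleton (Coh.HH Z (Coh.structureModule Z) 1)) : PicPrim.HasPrim I 0 := by
  intro U hU hx s hs
  refine exists_primitive hI (fun c hc => exists_cd_eq_one (iSup_preimage_eq_top k hx) _ h hc)
    (fun y => ?_) s hs
  have : CohAff.inter (X := X.toPresheafedSpace.carrier) U y = U (y 0) :=
    le_antisymm (CohAff.inter_le U y 0) (CohAff.le_inter fun a => by rw [Fin.eq_zero a])
  rw [this]
  exact hU _

section system

variable (A : Type u) [CommRing A] [IsLocalRing A] [IsNoetherianRing A]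

/-- the transition of bases -/
abbrev fac {a b : ℕ} (h : a ≤ b) : A ⧸ IsLocalRing.maximalIdeal A ^ b →+* A ⧸ IsLocalRing.maximalIdeal A ^ a :=
  Ideal.Quotient.factor (Ideal.pow_le_pow_right h)

/-- the transition down to the residue level -/
abbrev fac0 (n : ℕ) : A ⧸ IsLocalRing.maximalIdeal A ^ (n + 1) →+* A ⧸ IsLocalRing.maximalIdeal A ^ (0 + 1) :=
  fac A (a := 0 + 1) (b := n + 1) (Nat.add_le_add_right (Nat.zero_le n) 1)

omit [IsNoetherianRing A] in
lemma fac0_zero : fac0 A 0 = RingHom.id _ := Ideal.Quotient.ringHom_ext rfl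

omit [IsLocalRing A] [IsNoetherianRing A] in
lemma spec_factor_comp {I J K : Ideal A} (h : I ≤ J) (h' : J ≤ K) :
    Spec.map (CommRingCat.ofHom (Ideal.Quotient.factor h')) ≫ Spec.map (CommRingCat.ofHom (Ideal.Quotient.factor h)) =
      Spec.map (CommRingCat.ofHom (Ideal.Quotient.factor (h.trans h'))) := by
  rw [← Spec.map_comp, ← CommRingCat.ofHom_comp, Ideal.Quotient.factor_comp]

omit [IsNoetherianRing A] in
lemma spec_fac0_succ (n : ℕ) :
    Spec.map (CommRingCat.ofHom (fac0 A n)) ≫ Spec.map (CommRingCat.ofHom (fac A (Nat.le_succ (n + 1)))) =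
      Spec.map (CommRingCat.ofHom (fac0 A (n + 1))) :=
  spec_factor_comp A _ _

variable {A} {Xs : ℕ → Scheme.{u}}
  {fs : ∀ n : ℕ, Xs n ⟶ Spec (CommRingCat.of (A ⧸ IsLocalRing.maximalIdeal A ^ (n + 1)))}
  {ts : ∀ n : ℕ, Xs n ⟶ Xs (n + 1)}
  (hcart : ∀ n : ℕ, IsPullback (ts n) (fs n) (fs (n + 1))
    (Spec.map (CommRingCat.ofHom (fac A (Nat.le_succ (n + 1))))))

/-- the closed fibre in the `n`-th level -/
def fromZero (ts : ∀ n : ℕ, Xs n ⟶ Xs (n + 1)) : ∀ n, Xs 0 ⟶ Xs n
  | 0 => 𝟙 _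
  | n + 1 => fromZero ts n ≫ ts n

include hcart

theorem isPullback_fromZero : ∀ n, IsPullback (fromZero ts n) (fs 0) (fs n)
    (Spec.map (CommRingCat.ofHom (fac0 A n))) := by
  intro n
  induction n with
  | zero =>
    haveI : IsIso (fromZero ts 0) := inferInstanceAs (IsIso (𝟙 (Xs 0)))
    haveI : IsIso (Spec.map (CommRingCat.ofHom (fac0 A 0))) := by
      rw [fac0_zero, CommRingCat.ofHom_id, Spec.map_id]; infer_instance
    refine IsPullback.of_horiz_isIso ⟨?_⟩
    rw [fac0_zero, CommRingCat.ofHom_id, Spec.map_id]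
    exact (Category.id_comp _).trans (Category.comp_id _).symm
  | succ n ih =>
    rw [← spec_fac0_succ A n]
    exact ih.paste_horiz (hcart n)

theorem isClosedImmersion_step (n : ℕ) : IsClosedImmersion (ts n) := by
  haveI := IsClosedImmersion.spec_of_surjective (CommRingCat.ofHom (fac A (Nat.le_succ (n + 1))))
    (Ideal.Quotient.factor_surjective (Ideal.pow_le_pow_right (Nat.le_succ (n + 1))))
  exact Omega.GrBC.isClosedImmersion_of_sq (hcart n).flip

theorem isClosedImmersion_fromZero (n : ℕ) : IsClosedImmersion (fromZero ts n) := by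
  haveI := IsClosedImmersion.spec_of_surjective
    (CommRingCat.ofHom (fac0 A n))
    (Ideal.Quotient.factor_surjective (Ideal.pow_le_pow_right (Nat.add_le_add_right (Nat.zero_le n) 1)))
  exact Omega.GrBC.isClosedImmersion_of_sq (isPullback_fromZero hcart n).flip

theorem exists_step (hflat : ∀ n, Flat (fs n)) (n : ℕ) :
    ∃ (r : ℕ) (z : Fin r → Γ(Xs (n + 1), ⊤)),
      (haveI := isClosedImmersion_fromZero hcart (n + 1); Spans (fromZero ts (n + 1)) z (ts n).ker) ∧
        (ts n).ker ^ 2 = ⊥ := by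
  haveI := hflat (n + 1)
  haveI := isClosedImmersion_fromZero hcart (n + 1)
  haveI := isClosedImmersion_step hcart n
  refine exists_spans (fs (n + 1)) (fac A (Nat.le_succ (n + 1))) (Ideal.Quotient.factor_surjective _)
    (fac0 A (n + 1)) (Ideal.Quotient.factor_surjective _) ?_ ?_ ?_
    (hcart n) (isPullback_fromZero hcart (n + 1))
  · intro a ha
    obtain ⟨b, rfl⟩ := Ideal.Quotient.mk_surjective a
    refine (?_ : IsUnit b).map (Ideal.Quotient.mk _)
    by_contra hb
    refine ha (Ideal.Quotient.eq_zero_iff_mem.2 ?_)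
    rw [pow_one]
    exact hb
  · simp only [fac, fac0, Ideal.Quotient.factor_ker]
    exact Ideal.map_mono (Ideal.pow_le_pow_right (by omega))
  · simp only [fac, fac0, Ideal.Quotient.factor_ker]
    intro a ha z hz
    have h := Ideal.mul_mem_mul ha hz
    rw [← Ideal.map_mul, ← pow_add, show 0 + 1 + (n + 1) = n + 1 + 1 by omega,
      Ideal.map_quotient_self, Ideal.mem_bot] at h
    exact h

theorem isSeparated_level (hflat : ∀ n, Flat (fs n)) [(Xs 0).IsSeparated] :
    ∀ n, (Xs n).IsSeparated := by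
  intro n
  induction n with
  | zero => infer_instance
  | succ n ih =>
    haveI := isClosedImmersion_step hcart n
    obtain ⟨_, _, -, hI⟩ := exists_step hcart hflat n
    haveI : Surjective (ts n) := by
      haveI := PicThick.surjective_subschemeι (ts n).ker hI
      exact (Scheme.Hom.toImage_imageι (ts n)) ▸
        (inferInstance : Surjective ((ts n).toImage ≫ (ts n).ker.subschemeι))
    refine ⟨?_⟩
    haveI : IsSeparated (ts n ≫ terminal.from (Xs (n + 1))) := by
      rw [terminal.comp_from]; exact ih.1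
    exact isSeparated_of_comp_surjective (ts n) _

omit hcart in
/-- pullback along a closed immersion, read on the subscheme of its ideal -/
theorem nonempty_pullback_iso {P X : Scheme.{u}} (p : P ⟶ X) [IsClosedImmersion p] (L : X.Modules)
    (M : P.Modules) :
    Nonempty ((Scheme.Modules.pullback p.ker.subschemeι).obj L ≅
        (Scheme.Modules.pullback (inv p.toImage)).obj M) ↔
      Nonempty ((Scheme.Modules.pullback p).obj L ≅ M) := by
  let e := p.toImage
  have h1 : (Scheme.Modules.pullback p).obj L ≅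
      (Scheme.Modules.pullback e).obj ((Scheme.Modules.pullback p.ker.subschemeι).obj L) :=
    (Scheme.Modules.pullbackCongr (Scheme.Hom.toImage_imageι p).symm).app L ≪≫
      ((Scheme.Modules.pullbackComp e p.ker.subschemeι).app L).symm
  have h2 : ∀ N : P.Modules, (Scheme.Modules.pullback e).obj ((Scheme.Modules.pullback (inv e)).obj N) ≅ N :=
    fun N => (Scheme.Modules.pullbackComp e (inv e)).app N ≪≫
      (Scheme.Modules.pullbackCongr (IsIso.hom_inv_id e)).app N ≪≫ (Scheme.Modules.pullbackId P).app N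
  have h3 : ∀ N : p.ker.subscheme.Modules,
      (Scheme.Modules.pullback (inv e)).obj ((Scheme.Modules.pullback e).obj N) ≅ N :=
    fun N => (Scheme.Modules.pullbackComp (inv e) e).app N ≪≫
      (Scheme.Modules.pullbackCongr (IsIso.inv_hom_id e)).app N ≪≫
        (Scheme.Modules.pullbackId p.ker.subscheme).app N
  refine ⟨fun ⟨φ⟩ => ⟨h1 ≪≫ (Scheme.Modules.pullback e).mapIso φ ≪≫ h2 M⟩, fun ⟨φ⟩ =>
    ⟨(h3 _).symm ≪≫ (Scheme.Modules.pullback (inv e)).mapIso (h1.symm ≪≫ φ)⟩⟩

end system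

end Groth.Agent.LiftLib

end
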