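import Groth.Agent.FormalFun.ClosedCut
import Groth.Agent.LFDesc.Invertible
import Groth.Agent.LiftLib.ClosedFibre
import Groth.Agent.CycLib.ModStalk
import Groth.Agent.IdealSh.Stalk
import Groth.Agent.Omega.ConormalZero
import Groth.Agent.Props.KilledSub
import Groth.Prelude.Def_Formal
import Groth.Prelude.Def_CohB1
import Mathlib.CategoryTheory.Functor.OfSequence
import Mathlib.RingTheory.Filtration

/-!
# Algebraizing compatible systems of line bundles on thickenings
-/

set_option autoImplicit false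
set_option linter.style.haveILetI false
set_option backward.isDefEq.respectTransparency false
set_option backward.isDefEq.respectTransparency.types false

universe u

open CategoryTheory CategoryTheory.Limits AlgebraicGeometry Opposite TopologicalSpace

noncomputable section

namespace Groth.Agent.LiftLib.Algebraize

open Groth.Agent.PullStalk.Sky

variable {A : Type u} [CommRing A] {X : Scheme.{u}} [X.Over (Spec (CommRingCat.of A))]
  {I : Ideal A}

/-- The formal module of a system of coherent modules on the cuts. -/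
theorem exists_formal {P : ℕ → Scheme.{u}} (ι : ∀ n, P n ⟶ X) [∀ n, IsClosedImmersion (ι n)]
    (hcut : ∀ n, FormalFun.IsCut (ι n) (I ^ (n + 1))) (L : ∀ n, (P n).Modules)
    (hcoh : ∀ n, Coh.IsCoh (L n))
    (e : ∀ n, (Scheme.Modules.pullback (ι n)).obj
      ((Scheme.Modules.pushforward (ι (n + 1))).obj (L (n + 1))) ≅ L n) :
    ∃ G : ℕᵒᵖ ⥤ X.Modules, Formal.IsCohFormal I G ∧
      ∀ n, Nonempty (G.obj (op n) ≅ (Scheme.Modules.pushforward (ι n)).obj (L n)) := by
  let T : ℕ → X.Modules := fun n => (Scheme.Modules.pushforward (ι n)).obj (L n)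
  choose θ hθ using fun n => (hcut n).exists_iso_unit (T (n + 1))
  let ε : ∀ n, Formal.modPow I (n + 1) (T (n + 1)) ≅ T n := fun n =>
    θ n ≪≫ (Scheme.Modules.pushforward (ι n)).mapIso (e n)
  let α : ∀ n, T (n + 1) ⟶ T n := fun n => Formal.modPowπ I (n + 1) (T (n + 1)) ≫ (ε n).hom
  refine ⟨Functor.ofOpSequence α, ⟨fun n => (haveI := (hcoh n).1; CycLib.isCoh_push (L n) (ι n) (hcoh n)), fun n a ha =>
    (hcut n).push_smulMod ha (L n), fun n => ?_⟩, fun n => ⟨Iso.refl _⟩⟩
  have hmap : (Functor.ofOpSequence α).map (homOfLE (Nat.le_succ n)).op = α n :=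
    Functor.ofOpSequence_map_homOfLE_succ α n
  have hz : Formal.smulFamily (I ^ (n + 1)) (T (n + 1)) ≫ α n = 0 :=
    (Category.assoc _ _ _).symm.trans
      ((congrArg (· ≫ (ε n).hom) (cokernel.condition _)).trans zero_comp)
  refine ⟨hmap.symm ▸ hz, ?_⟩
  have hd : ∀ (β : T (n + 1) ⟶ T n) (hβ : β = α n)
      (h : Formal.smulFamily (I ^ (n + 1)) (T (n + 1)) ≫ β = 0),
      IsIso (cokernel.desc _ β h) := by
    rintro _ rfl h
    have hd : cokernel.desc _ (α n) h = (ε n).hom :=
      (cancel_epi (cokernel.π _)).1 (cokernel.π_desc _ _ _)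
    exact (congrArg IsIso hd).mpr inferInstance
  exact hd _ hmap _

/-- Stalks at the closed fibre: the kernels of the cuts lie in powers of the maximal ideal. -/
theorem ker_stalkMap_le_pow {P P₀ : Scheme.{u}} (ι : P ⟶ X) (ι₀ : P₀ ⟶ X) [IsClosedImmersion ι]
    [IsClosedImmersion ι₀] {n : ℕ} (hcut : FormalFun.IsCut ι (I ^ n)) (hcut₀ : FormalFun.IsCut ι₀ I)
    (z : P) (z₀ : P₀) (hz : ι₀ z₀ = ι z) :
    RingHom.ker (ι.stalkMap z).hom ≤ IsLocalRing.maximalIdeal (X.presheaf.stalk (ι z)) ^ n := by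
  obtain ⟨W, hW, hzW, -⟩ := exists_isAffineOpen_mem_and_subset (X := X) (Opens.mem_top (ι z))
  rw [Omega.ConormalZero.ker_stalkMap_eq ι hW (hW.preimage ι) hzW (ι.app_surjective _ hW)]
  have h1 : RingHom.ker (ι.app W).hom ≤ (ι₀.ker.ideal ⟨W, hW⟩) ^ n := by
    rw [← Scheme.Hom.ker_apply ι ⟨W, hW⟩]
    refine (hcut.le ⟨W, hW⟩).trans ?_
    rw [Ideal.map_pow]
    refine Ideal.pow_right_mono (Ideal.map_le_iff_le_comap.2 fun a ha => ?_) n
    rw [Ideal.mem_comap, Scheme.Hom.ker_apply, RingHom.mem_ker]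
    have e := congr($(ι₀.naturality (homOfLE (le_top : W ≤ ⊤)).op)
      (Coh.toGlobal (X ↘ Spec (CommRingCat.of A)) a))
    refine e.trans ?_
    show (P₀.presheaf.map _) (ι₀.appTop (Coh.toGlobal (X ↘ Spec (CommRingCat.of A)) a)) = 0
    rw [hcut₀.zero a ha, map_zero]
  refine (Ideal.map_mono h1).trans ?_
  rw [Ideal.map_pow]
  refine Ideal.pow_right_mono (IsLocalRing.le_maximalIdeal fun htop => ?_) n
  have hW₀ : ι₀ z₀ ∈ W := hz.symm ▸ hzW
  have h2 := Omega.ConormalZero.ker_stalkMap_eq ι₀ hW (hW.preimage ι₀) hW₀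
    (ι₀.app_surjective _ hW)
  refine RingHom.ker_ne_top (ι₀.stalkMap z₀).hom ?_
  rw [h2, ← Scheme.Hom.ker_apply ι₀ ⟨W, hW⟩]
  revert htop hzW
  rw [← hz]
  exact fun _ h => h

omit [X.Over (Spec (CommRingCat.of A))] in
/-- A coherent module invertible on a system of closed subschemes separated at a point is free of
rank one there. -/
theorem exists_basis_stalk_of_levels [IsLocallyNoetherian X] {M : X.Modules} (hM : Coh.IsCoh M)
    {P : ℕ → Scheme.{u}} (ι : ∀ n, P n ⟶ X) [∀ n, IsClosedImmersion (ι n)]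
    (hinv : ∀ n, PicF.IsInvertible ((Scheme.Modules.pullback (ι n)).obj M)) (x : X)
    (z : ∀ n, P n) (hz : ∀ n, ι n (z n) = x)
    (hker : ∀ n, RingHom.ker ((ι n).stalkMap (z n)).hom ≤
      IsLocalRing.maximalIdeal (X.presheaf.stalk (ι n (z n))) ^ (n + 1)) :
    Nonempty (Module.Basis (Fin 1) (X.presheaf.stalk x) (M.presheaf.stalk x)) := by
  classical
  haveI : M.IsQuasicoherent := hM.1
  haveI : SheafOfModules.IsFiniteType.{u} M := hM.2
  obtain ⟨U, hU, hxU, -⟩ := exists_isAffineOpen_mem_and_subset (X := X) (Opens.mem_top x)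
  haveI := QCoh.finite_sections_of_isFiniteType M hU
  haveI : Module.Finite (X.presheaf.stalk x) (M.presheaf.stalk x) :=
    Props.QProj.finite_stalk M hU hxU
  set R := X.presheaf.stalk x
  set N := M.presheaf.stalk x
  -- transport to the levels
  have key : ∀ n, ∃ (S : Type u) (_ : CommRing S) (φ : R →+* S) (b : N → S),
      Function.Surjective φ ∧ RingHom.ker φ ≤ IsLocalRing.maximalIdeal R ^ (n + 1) ∧
      (∀ (a : R) m, b (a • m) = φ a * b m) ∧ (∀ m m', b (m + m') = b m + b m') ∧
      Function.Surjective b ∧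
      ∀ m, b m = 0 → m ∈ RingHom.ker φ • (⊤ : Submodule R N) := by
    intro n
    obtain rfl := (hz n).symm
    let p := ι n
    let y := z n
    letI := (p.stalkMap y).hom.toAlgebra
    letI := PullStalk.Basic.moduleOver p M y
    haveI : IsScalarTower (X.presheaf.stalk (p y)) ((P n).presheaf.stalk y)
        (((Scheme.Modules.pullback p).obj M).presheaf.stalk y) :=
      IsScalarTower.of_algebraMap_smul fun _ _ => rfl
    have hbc := PullStalk.Basic.isBaseChange_unitStalk p M y
    obtain ⟨bs⟩ := LFDesc.exists_basis_stalk (hinv n) y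
    have hs : Function.Surjective (algebraMap (X.presheaf.stalk (p y)) ((P n).presheaf.stalk y)) :=
      p.stalkMap_surjective y
    refine ⟨(P n).presheaf.stalk y, inferInstance, (p.stalkMap y).hom,
      fun m => bs.repr (PullStalk.Basic.unitStalk p M y m) 0, hs, hker n, fun a m => ?_,
      fun m m' => by simp, fun s => ?_, fun m hm => ?_⟩
    · show bs.repr (PullStalk.Basic.unitStalk p M y (a • m)) 0 = _
      rw [map_smul, ← IsScalarTower.algebraMap_smul ((P n).presheaf.stalk y), map_smul,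
        Finsupp.smul_apply, smul_eq_mul]
      rfl
    · have hsurj : Function.Surjective (PullStalk.Basic.unitStalk p M y) := by
        intro t
        induction t using hbc.inductionOn with
        | zero => exact ⟨0, map_zero _⟩
        | tmul m => exact ⟨m, rfl⟩
        | smul r t ht =>
          obtain ⟨m, rfl⟩ := ht
          obtain ⟨a, rfl⟩ := hs r
          exact ⟨a • m, by rw [map_smul, IsScalarTower.algebraMap_smul]⟩
        | add t t' ht ht' =>
          obtain ⟨m, rfl⟩ := ht
          obtain ⟨m', rfl⟩ := ht'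
          exact ⟨m + m', map_add _ _ _⟩
      obtain ⟨m, hm⟩ := hsurj (s • bs 0)
      exact ⟨m, by simp [hm]⟩
    · have h0 : PullStalk.Basic.unitStalk p M y m = 0 := by
        refine bs.repr.injective (Finsupp.ext fun i => ?_)
        rw [map_zero, Finsupp.zero_apply, Subsingleton.elim i 0]
        exact hm
      have h1 : ((1 : (P n).presheaf.stalk y) ⊗ₜ[X.presheaf.stalk (p y)] m) = 0 := by
        refine hbc.equiv.injective ?_
        rw [map_zero, hbc.equiv_tmul, one_smul, h0]
      let f : (P n).presheaf.stalk y →ₐ[X.presheaf.stalk (p y)] _ :=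
        (Ideal.quotientKerAlgEquivOfSurjective (f := Algebra.ofId _ _) hs).symm.toAlgHom
      have h2 := congrArg (TensorProduct.quotTensorEquivQuotSMul (M.presheaf.stalk (p y)) _)
        (congrArg (f.toLinearMap.rTensor _) h1)
      rw [map_zero, map_zero, LinearMap.rTensor_tmul,
        show f.toLinearMap 1 = Ideal.Quotient.mk _ 1 from map_one f,
        TensorProduct.quotTensorEquivQuotSMul_mk_tmul, one_smul,
        Submodule.Quotient.mk_eq_zero] at h2
      exact h2
  obtain ⟨S₀, _, φ₀, b₀, hφ₀, hk₀, hb₀, hb₀a, hb₀s, hb₀k⟩ := key 0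
  obtain ⟨e, he⟩ := hb₀s 1
  have hgen : Submodule.span R {e} = ⊤ := by
    refine eq_top_iff.2 (Submodule.le_of_le_smul_of_le_jacobson_bot Module.Finite.fg_top
      (hk₀.trans ?_) fun m _ => ?_)
    · rw [zero_add, pow_one]
      exact (IsLocalRing.jacobson_eq_maximalIdeal _ bot_ne_top).ge
    · obtain ⟨a, ha⟩ := hφ₀ (b₀ m)
      have h1 : b₀ (m + -a • e) = 0 := by
        rw [hb₀a, hb₀, map_neg, he, mul_one, ha, add_neg_cancel]
      rw [show m = (-(-a • e)) + (m + -a • e) by abel]
      exact Submodule.add_mem_sup (by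
        rw [neg_smul, neg_neg]
        exact Submodule.smul_mem _ _ (Submodule.mem_span_singleton_self e)) (hb₀k _ h1)
  have hann : ∀ a : R, a • e = 0 → a = 0 := by
    intro a ha
    have hmem : ∀ n, a ∈ IsLocalRing.maximalIdeal R ^ (n + 1) := fun n => by
      obtain ⟨S, _, φ, b, hφ, hk, hb, -, hbs, -⟩ := key n
      refine hk ?_
      obtain ⟨m, hm⟩ := hbs 1
      obtain ⟨c, rfl⟩ := Submodule.mem_span_singleton.1 (show m ∈ Submodule.span R {e} from hgen ▸ trivial)
      rw [RingHom.mem_ker, ← mul_one (φ a), ← hm, ← hb, smul_comm, ha, smul_zero]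
      have h0 := hb 0 0
      rwa [zero_smul, map_zero, zero_mul] at h0
    have : a ∈ (⨅ n : ℕ, IsLocalRing.maximalIdeal R ^ n) := Ideal.mem_iInf.2 fun n => by
      rcases n with _ | n
      · simp
      · exact hmem n
    rwa [Ideal.iInf_pow_eq_bot_of_isLocalRing _ (IsLocalRing.maximalIdeal.isMaximal R).ne_top,
      Ideal.mem_bot] at this
  let l : R →ₗ[R] N := LinearMap.toSpanSingleton R N e
  have hl : Function.Bijective l := by
    refine ⟨(injective_iff_map_eq_zero l).2 fun a ha => hann a ha, fun m => ?_⟩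
    exact Submodule.mem_span_singleton.1 (hgen ▸ trivial : m ∈ Submodule.span R {e})
  exact ⟨(Module.Basis.singleton (Fin 1) R).map (LinearEquiv.ofBijective l hl)⟩

omit [X.Over (Spec (CommRingCat.of A))] in
/-- Points where the stalk is free of rank one form an open set. -/
theorem exists_open_basis_stalk [IsLocallyNoetherian X] {M : X.Modules} (hM : Coh.IsCoh M) (x : X)
    (h : Nonempty (Module.Basis (Fin 1) (X.presheaf.stalk x) (M.presheaf.stalk x))) :
    ∃ V : X.Opens, x ∈ V ∧
      ∀ y ∈ V, Nonempty (Module.Basis (Fin 1) (X.presheaf.stalk y) (M.presheaf.stalk y)) := by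
  classical
  haveI : M.IsQuasicoherent := hM.1
  haveI : SheafOfModules.IsFiniteType.{u} M := hM.2
  obtain ⟨U, hU, hxU, -⟩ := exists_isAffineOpen_mem_and_subset (X := X) (Opens.mem_top x)
  haveI := QCoh.finite_sections_of_isFiniteType M hU
  obtain ⟨b⟩ := h
  haveI := Module.Free.of_basis b
  have hrank : Props.QRank.fibreRank M x = 1 := by
    rw [Props.QRank.fibreRank_eq_of_free, Module.finrank_eq_card_basis b, Fintype.card_fin]
  obtain ⟨g, hxg, -, m, hm⟩ := Props.QRank.exists_generators M hU hxU (O := ⊤) trivial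
  obtain ⟨m, hm⟩ : ∃ m₁ : Fin 1 → Γ(M, X.basicOpen g),
      Submodule.span Γ(X, X.basicOpen g) (Set.range m₁) = ⊤ := by
    revert m
    rw [hrank]
    exact fun m hm => ⟨m, hm⟩
  let W := X.basicOpen g
  have hW : IsAffineOpen W := hU.basicOpen g
  haveI : IsNoetherianRing Γ(X, W) := IsLocallyNoetherian.component_noetherian (X := X) ⟨W, hW⟩
  have hsurj : ∀ y (hy : y ∈ W), Function.Surjective (LFFrame.stalkComb M m y hy) := fun y hy => by
    rw [← LinearMap.range_eq_top, LFFrame.stalkComb, Fintype.range_linearCombination]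
    exact Props.QRank.span_germ_eq_top M hW hm hy
  have hinj : Function.Injective (LFFrame.stalkComb M m x hxg) := by
    have h' := OrzechProperty.injective_of_surjective_endomorphism
      (b.equivFun.toLinearMap ∘ₗ LFFrame.stalkComb M m x hxg)
      (b.equivFun.surjective.comp (hsurj x hxg))
    exact fun a c hac => h' (congrArg b.equivFun hac)
  let J : Ideal Γ(X, W) := LinearMap.ker (LinearMap.toSpanSingleton Γ(X, W) Γ(M, W) (m 0))
  obtain ⟨T, hT⟩ : J.FG := IsNoetherian.noetherian J
  have hgerm : ∀ y (hy : y ∈ W) (a : Γ(X, W)),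
      LFFrame.stalkComb M m y hy (fun _ => X.presheaf.germ W y hy a) =
        germM M W y hy (a • m 0) := fun y hy a => by
    rw [LFFrame.stalkComb, Fintype.linearCombination_apply, Fin.sum_univ_one]
    exact (germM_smul M W y hy a (m 0)).symm
  have hzero : ∀ a ∈ T, X.presheaf.germ W x hxg a = 0 := by
    intro a ha
    have haJ : a ∈ J := hT ▸ Submodule.subset_span ha
    have haJ' : a • m 0 = 0 := haJ
    have h1 : LFFrame.stalkComb M m x hxg (fun _ => X.presheaf.germ W x hxg a) = 0 := by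
      rw [hgerm, haJ']
      exact map_zero _
    exact congrFun (hinj (h1.trans (map_zero _).symm)) 0
  choose C hxC iC iC' hC using fun a : T => X.presheaf.germ_eq x hxg hxg a.1 0
    ((hzero a.1 a.2).trans (map_zero _).symm)
  let V : X.Opens := W ⊓ ⟨⋂ a : T, (C a : Set X), isOpen_iInter_of_finite fun a => (C a).2⟩
  refine ⟨V, ⟨hxg, Set.mem_iInter.2 hxC⟩, fun y hy => ?_⟩
  have hJy : ∀ a ∈ J, X.presheaf.germ W y hy.1 a = 0 := by
    have : J ≤ RingHom.ker (X.presheaf.germ W y hy.1).hom := by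
      rw [← hT]
      refine Submodule.span_le.2 fun a ha => ?_
      show X.presheaf.germ W y hy.1 a = 0
      have hyC : y ∈ C ⟨a, ha⟩ := Set.mem_iInter.1 hy.2 ⟨a, ha⟩
      rw [← X.presheaf.germ_res_apply (iC ⟨a, ha⟩) y hyC a]
      refine (congrArg _ (hC ⟨a, ha⟩)).trans ?_
      rw [map_zero, map_zero]
    exact fun a ha => this ha
  refine ⟨Module.Basis.ofEquivFun (LinearEquiv.ofBijective (LFFrame.stalkComb M m y hy.1)
    ⟨(injective_iff_map_eq_zero _).2 fun v hv => ?_, hsurj y hy.1⟩).symm⟩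
  let _ := X.presheaf.algebra_section_stalk (⟨y, hy.1⟩ : W)
  haveI := hW.isLocalization_stalk ⟨y, hy.1⟩
  obtain ⟨⟨a, s⟩, has⟩ := IsLocalization.surj (hW.primeIdealOf ⟨y, hy.1⟩).asIdeal.primeCompl (v 0)
  have hv' : germM M W y hy.1 (a • m 0) = 0 := by
    rw [← hgerm]
    have e1 : (fun _ : Fin 1 => X.presheaf.germ W y hy.1 a) =
        X.presheaf.germ W y hy.1 s.1 • v := funext fun i => by
      rw [Subsingleton.elim i 0, Pi.smul_apply, smul_eq_mul, mul_comm]
      exact has.symm
    rw [e1, map_smul, hv, smul_zero]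
  obtain ⟨c, hu, hc⟩ := CycLib.exists_smul_eq_zero_of_germ_eq_zero M hW hy.1 _ hv'
  have h3 : X.presheaf.germ W y hy.1 (c * a) = 0 := hJy _ (by
    show (c * a) • m 0 = 0
    rw [mul_smul]; exact hc)
  rw [map_mul] at h3
  have h4 : X.presheaf.germ W y hy.1 a = 0 := hu.mul_right_eq_zero.1 h3
  funext i
  rw [Subsingleton.elim i 0, Pi.zero_apply]
  exact (IsLocalization.map_units (X.presheaf.stalk y) s).mul_left_eq_zero.1 (has.trans h4)

end Groth.Agent.LiftLib.Algebraize

end
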