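import Groth.Agent.LiftLib.AlgebraizeSub
import Mathlib.AlgebraicGeometry.ZariskisMainTheorem

/-!
# Algebraizing compatible systems of morphisms, from the existence theorem
-/

set_option autoImplicit false
set_option linter.style.haveILetI false
set_option backward.isDefEq.respectTransparency false
set_option backward.isDefEq.respectTransparency.types false

universe u

open CategoryTheory CategoryTheory.Limits AlgebraicGeometry Opposite TopologicalSpace
open Groth.Agent

noncomputable section

namespace Groth.Agent.LiftLib.AlgebraizeHom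

variable {A : Type u} [CommRing A] [IsNoetherianRing A] {I : Ideal A} [IsAdicComplete I A]

omit [IsNoetherianRing A] [IsAdicComplete I A] in
theorem isClosedImmersion_thickι {X : Scheme.{u}} (f : X ⟶ Spec (CommRingCat.of A)) (n : ℕ) :
    IsClosedImmersion (CohB1.thickι f I n) := by
  haveI : IsClosedImmersion (CohB1.specQuot I n) :=
    IsClosedImmersion.spec_of_surjective _ Ideal.Quotient.mk_surjective
  exact MorphismProperty.pullback_fst f (CohB1.specQuot I n) inferInstance

/-- A closed subscheme of a proper scheme containing all thickenings is everything. -/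
theorem isIso_of_formal {W X : Scheme.{u}} (f : X ⟶ Spec (CommRingCat.of A)) [IsProper f] (i : W ⟶ X)
    [IsClosedImmersion i] (h : ∀ n, i.ker ≤ (CohB1.thickι f I n).ker) : IsIso i := by
  letI : X.Over (Spec (CommRingCat.of A)) := ⟨f⟩
  haveI : IsProper (X ↘ Spec (CommRingCat.of A)) := ‹IsProper f›
  haveI : IsLocallyNoetherian X := LocallyOfFiniteType.isLocallyNoetherian f
  haveI : IsLocallyNoetherian W := LocallyOfFiniteType.isLocallyNoetherian (i ≫ f)
  rw [IsClosedImmersion.isIso_iff_ker_eq_bot]
  have hO : Coh.IsCoh (Coh.structureModule X) := HomShQC.isCoh_structureModule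
  haveI : (Coh.structureModule X).IsQuasicoherent := hO.1
  have hOW : Coh.IsCoh (Coh.structureModule W) := HomShQC.isCoh_structureModule
  haveI := hOW.1
  let K := kernel (ClSub.unitToPush i)
  have hK : Coh.IsCoh K := CohDev.isCoh_kernel _ hO (CycLib.isCoh_push (Coh.structureModule W) i hOW).1
  haveI : K.IsQuasicoherent := hK.1
  have huniv : ClSub.IsProperOver (X ↘ Spec (CommRingCat.of A)) (Set.univ : Set X) := by
    haveI : IsProper (𝟙 X ≫ X ↘ Spec (CommRingCat.of A)) := by rw [Category.id_comp]; infer_instance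
    exact EtShriekLib.ipo_of_immersion _ (𝟙 X) isClosed_univ fun x _ => ⟨x, rfl⟩
  have hinj : ∀ U : X.Opens, Function.Injective ((kernel.ι (ClSub.unitToPush i)).app U) :=
    fun U => QCoh.app_injective_of_mono (kernel.ι (ClSub.unitToPush i)) U
  have hz := AlgebraizeSub.subsingleton_stalk_of_eq_smul (I := I) hK huniv (Set.subset_univ _)
    fun U hU c _ => by
      haveI : IsNoetherianRing Γ(X, U) := IsLocallyNoetherian.component_noetherian ⟨U, hU⟩
      let v : Γ(X, U) := (kernel.ι (ClSub.unitToPush i)).app U c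
      have hv : v ∈ i.ker.ideal ⟨U, hU⟩ := by
        rw [Scheme.Hom.ker_apply, RingHom.mem_ker]
        exact congr($(kernel.condition (ClSub.unitToPush i)).app U c)
      have hvJ : v ∈ (⨅ n : ℕ, (I.map (FormalFun.gA (A := A) U)) ^ n • (⊤ : Submodule Γ(X, U) Γ(X, U))) := by
        refine Submodule.mem_iInf _ |>.2 fun n => ?_
        rcases n with _ | n
        · rw [pow_zero, Ideal.one_eq_top, Submodule.top_smul]; trivial
        · rw [← Ideal.map_pow, smul_eq_mul, Ideal.mul_top]
          exact (FormalFun.isCut_of_isPullback (CohB1.thickι f I n) I n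
            (IsPullback.of_hasPullback f (CohB1.specQuot I n))).le ⟨U, hU⟩ (h n ⟨U, hU⟩ hv)
      obtain ⟨r, hr⟩ := (Ideal.mem_iInf_smul_pow_eq_bot_iff _ v).1 hvJ
      have hc : r.1 • c = c := hinj U ((Scheme.Modules.Hom.app_smul _ r.1 c).trans hr)
      exact hc ▸ Submodule.smul_mem_smul r.2 Submodule.mem_top
  have hι : kernel.ι (ClSub.unitToPush i) = 0 := Omega.Stalks.hom_ext_stalk fun x => LinearMap.ext fun t => by
    haveI := hz x
    rw [Subsingleton.elim t 0, map_zero, map_zero]
  haveI : Mono (ClSub.unitToPush i) := Preadditive.mono_of_cancel_zero _ fun g hg => by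
    rw [← kernel.lift_ι _ g hg, hι, comp_zero]
  refine eq_bot_iff.2 fun U r hr => ?_
  rw [Scheme.Hom.ker_apply, RingHom.mem_ker] at hr
  rw [Scheme.IdealSheafData.ideal_bot, Pi.bot_apply, Submodule.mem_bot]
  exact QCoh.app_injective_of_mono (ClSub.unitToPush i) U.1
    (hr.trans (map_zero ((ClSub.unitToPush i).app U.1).hom).symm)

/-- A morphism of proper schemes which is an isomorphism on all thickenings is an isomorphism. -/
theorem isIso_of_isIso_thick {W X : Scheme.{u}} (f : X ⟶ Spec (CommRingCat.of A)) [IsProper f] (p : W ⟶ X)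
    [IsProper (p ≫ f)] {P : ℕ → Scheme.{u}} (w : ∀ n, P n ⟶ W) (a : ∀ n, P n ⟶ CohB1.thick f I n)
    [∀ n, IsIso (a n)] (hw : ∀ n, w n ≫ p = a n ≫ CohB1.thickι f I n)
    (hlift : ∀ n {T : Scheme.{u}} (b : T ⟶ W) (c : T ⟶ Spec (CommRingCat.of (A ⧸ I ^ (n + 1)))),
      b ≫ p ≫ f = c ≫ CohB1.specQuot I n → ∃ d : T ⟶ P n, d ≫ w n = b) : IsIso p := by
  haveI : IsProper p := IsProper.of_comp p f
  haveI := fun n => isClosedImmersion_thickι (I := I) f n
  haveI : Mono p := by
    rw [← pullback.isIso_diagonal_iff p]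
    haveI : IsProper (pullback.fst p p ≫ p ≫ f) := inferInstance
    refine isIso_of_formal (I := I) (pullback.fst p p ≫ p ≫ f) (pullback.diagonal p) fun n => ?_
    let ιT := CohB1.thickι (pullback.fst p p ≫ p ≫ f) I n
    let cT := CohB1.thickToBase (pullback.fst p p ≫ p ≫ f) I n
    have hc : ιT ≫ pullback.fst p p ≫ p ≫ f = cT ≫ CohB1.specQuot I n := pullback.condition
    obtain ⟨d₁, hd₁⟩ := hlift n (ιT ≫ pullback.fst p p) cT (by rw [Category.assoc]; exact hc)
    obtain ⟨d₂, hd₂⟩ := hlift n (ιT ≫ pullback.snd p p) cT (by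
      rw [Category.assoc, ← reassoc_of% (pullback.condition (f := p) (g := p))]; exact hc)
    have e : d₁ = d₂ := by
      rw [← cancel_mono (a n), ← cancel_mono (CohB1.thickι f I n), Category.assoc, Category.assoc, ← hw,
        reassoc_of% hd₁, reassoc_of% hd₂, pullback.condition]
    have : ιT = (ιT ≫ pullback.fst p p) ≫ pullback.diagonal p := by
      apply pullback.hom_ext
      · simp
      · rw [Category.assoc, pullback.diagonal_snd, Category.comp_id, ← hd₁, ← hd₂, e]
    rw [show CohB1.thickι (pullback.fst p p ≫ p ≫ f) I n = ιT from rfl, this]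
    exact Scheme.Hom.le_ker_comp _ _
  haveI : IsClosedImmersion p := (IsClosedImmersion.iff_isProper_and_mono ..).2 ⟨inferInstance, inferInstance⟩
  refine isIso_of_formal (I := I) f p fun n => ?_
  have e : CohB1.thickι f I n = (inv (a n) ≫ w n) ≫ p := by
    rw [Category.assoc, hw, IsIso.inv_hom_id_assoc]
  rw [e]
  exact Scheme.Hom.le_ker_comp _ _

/-- Algebraization of compatible systems of morphisms, given the existence theorem. -/
theorem algebraize_morphisms {X Y : Scheme.{u}} (f : X ⟶ Spec (CommRingCat.of A))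
    (h : Y ⟶ Spec (CommRingCat.of A)) [IsProper f] [IsSeparated h] [LocallyOfFiniteType h]
    [QuasiCompact h] (g : (n : ℕ) → (CohB1.thick f I n ⟶ CohB1.thick h I n))
    (hex : letI : (pullback f h).Over (Spec (CommRingCat.of A)) := ⟨pullback.fst f h ≫ f⟩;
      AlgebraizeSub.Existence A I (pullback f h))
    (hg₁ : ∀ n, g n ≫ CohB1.thickToBase h I n = CohB1.thickToBase f I n)
    (hg₂ : ∀ n, CohB1.thickTrans f I n ≫ g (n + 1) = g n ≫ CohB1.thickTrans h I n) :
    ∃ φ : X ⟶ Y, φ ≫ h = f ∧ ∀ n, CohB1.thickι f I n ≫ φ = g n ≫ CohB1.thickι h I n := by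
  let fP := pullback.fst f h ≫ f
  haveI := fun n => isClosedImmersion_thickι (I := I) f n
  haveI := fun n => isClosedImmersion_thickι (I := I) fP n
  have tι : ∀ {V : Scheme.{u}} (k : V ⟶ Spec (CommRingCat.of A)) (n : ℕ),
      CohB1.thickTrans k I n ≫ CohB1.thickι k I (n + 1) = CohB1.thickι k I n := fun k n =>
    (AlgebraizeSub.isPullback_thickTrans k I n).w.trans (Category.id_comp _)
  have hgι : ∀ n, CohB1.thickι f I n ≫ f = (g n ≫ CohB1.thickι h I n) ≫ h := fun n => by
    rw [Category.assoc]
    refine pullback.condition.trans ?_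
    rw [show pullback.snd f (CohB1.specQuot I n) = g n ≫ CohB1.thickToBase h I n from (hg₁ n).symm,
      Category.assoc]
    exact congrArg (g n ≫ ·) pullback.condition.symm
  let γ : ∀ n, CohB1.thick f I n ⟶ pullback f h := fun n =>
    pullback.lift (CohB1.thickι f I n) (g n ≫ CohB1.thickι h I n) (hgι n)
  have hγf : ∀ n, γ n ≫ fP = CohB1.thickToBase f I n ≫ CohB1.specQuot I n := fun n => by
    simp only [γ, fP, pullback.lift_fst_assoc]
    exact pullback.condition
  let z : ∀ n, CohB1.thick f I n ⟶ CohB1.thick fP I n := fun n =>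
    pullback.lift (γ n) (CohB1.thickToBase f I n) (hγf n)
  have hzι : ∀ n, z n ≫ CohB1.thickι fP I n = γ n := fun n => pullback.lift_fst _ _ _
  let q : ∀ n, CohB1.thick fP I n ⟶ CohB1.thick f I n := fun n =>
    pullback.lift (CohB1.thickι fP I n ≫ pullback.fst f h) (CohB1.thickToBase fP I n)
      (by rw [Category.assoc]; exact pullback.condition)
  have hqι : ∀ n, q n ≫ CohB1.thickι f I n = CohB1.thickι fP I n ≫ pullback.fst f h :=
    fun n => pullback.lift_fst _ _ _
  have hzq : ∀ n, z n ≫ q n = 𝟙 _ := fun n => by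
    rw [← cancel_mono (CohB1.thickι f I n), Category.assoc, hqι, reassoc_of% (hzι n), Category.id_comp]
    exact pullback.lift_fst _ _ _
  have hzc : ∀ n, IsClosedImmersion (z n) := fun n => by
    haveI : IsSeparated (q n ≫ CohB1.thickι f I n) := by rw [hqι]; infer_instance
    haveI : IsSeparated (q n) := IsSeparated.of_comp (q n) (CohB1.thickι f I n)
    haveI : IsClosedImmersion (z n ≫ q n) := by rw [hzq]; infer_instance
    exact IsClosedImmersion.of_comp (z n) (q n)
  have hγ₂ : ∀ n, CohB1.thickTrans f I n ≫ γ (n + 1) = γ n := fun n => by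
    apply pullback.hom_ext
    · simp only [γ, Category.assoc, pullback.lift_fst, tι]
    · simp only [γ, Category.assoc, pullback.lift_snd, reassoc_of% (hg₂ n), tι]
  have hw : ∀ n, CohB1.thickTrans f I n ≫ z (n + 1) = z n ≫ CohB1.thickTrans fP I n := fun n => by
    rw [← cancel_mono (CohB1.thickι fP I (n + 1)), Category.assoc, Category.assoc, hzι, tι, hzι, hγ₂]
  have ht : ∀ n, IsPullback (CohB1.thickTrans f I n) (z n) (z (n + 1)) (CohB1.thickTrans fP I n) := by
    intro n
    haveI : Mono (CohB1.thickTrans fP I n) :=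
      mono_of_mono_fac (tι fP n)
    haveI : Mono (z n) := (SplitMono.mk (q n) (hzq n)).mono
    have hq : CohB1.thickTrans fP I n ≫ q (n + 1) = q n ≫ CohB1.thickTrans f I n := by
      rw [← cancel_mono (CohB1.thickι f I (n + 1)), Category.assoc, Category.assoc, hqι, tι, hqι,
        reassoc_of% (tι fP n)]
    refine ⟨⟨hw n⟩, ⟨PullbackCone.IsLimit.mk _ (fun c => c.snd ≫ q n) (fun c => ?_) (fun c => ?_)
      (fun c m h1 h2 => ?_)⟩⟩
    · rw [Category.assoc, ← hq, ← reassoc_of% c.condition, hzq, Category.comp_id]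
    · rw [← cancel_mono (CohB1.thickTrans fP I n), Category.assoc, Category.assoc, ← hw,
        ← reassoc_of% hq, ← reassoc_of% c.condition, reassoc_of% (hzq (n + 1)), c.condition]
    · rw [← h2, Category.assoc, hzq, Category.comp_id]
  haveI : IsProper (z 0 ≫ CohB1.thickToBase fP I 0) := by
    rw [show z 0 ≫ CohB1.thickToBase fP I 0 = CohB1.thickToBase f I 0 from pullback.lift_snd _ _ _]
    exact MorphismProperty.pullback_snd f _ inferInstance
  obtain ⟨W, i, w, hi, hip, -, hpb⟩ := AlgebraizeSub.algebraize_formal_closed I fP hex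
    (fun n => CohB1.thick f I n) z (fun n => CohB1.thickTrans f I n) hzc ht inferInstance
  let p := i ≫ pullback.fst f h
  haveI : IsProper (p ≫ f) := by simp only [p, Category.assoc]; exact hip
  have hwp : ∀ n, w n ≫ p = 𝟙 _ ≫ CohB1.thickι f I n := fun n => by
    rw [Category.id_comp, reassoc_of% (hpb n).w, reassoc_of% (hzι n)]
    exact pullback.lift_fst _ _ _
  haveI : IsIso p := isIso_of_isIso_thick (I := I) f p w (fun n => 𝟙 _) hwp fun n T b c hbc => by
    let c' : T ⟶ CohB1.thick fP I n := pullback.lift (b ≫ i) c (by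
      simp only [fP, p, Category.assoc] at hbc ⊢; exact hbc)
    obtain ⟨d, hd, -⟩ := (hpb n).exists_lift b c' (pullback.lift_fst _ _ _).symm
    exact ⟨d, hd⟩
  refine ⟨inv p ≫ i ≫ pullback.snd f h, ?_, fun n => ?_⟩
  · rw [Category.assoc, Category.assoc, ← pullback.condition, IsIso.inv_comp_eq, Category.assoc]
  · have e : CohB1.thickι f I n = w n ≫ p := by rw [hwp n, Category.id_comp]
    rw [e, Category.assoc, IsIso.hom_inv_id_assoc, reassoc_of% (hpb n).w, reassoc_of% (hzι n)]
    exact pullback.lift_snd _ _ _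

end Groth.Agent.LiftLib.AlgebraizeHom
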