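import Groth.Agent.LiftLib.Algebraize
import Groth.Agent.FormalFun.HomComplSupp
import Groth.Agent.FormalFun.HomMonoEpi
import Groth.Agent.FEtCat.Lef.Completion
import Groth.Agent.S12131
import Groth.Agent.ScSupp.Basic
import Groth.Agent.S0787
import Groth.Agent.HomShQC.Stalk
import Groth.Agent.QCoh.Exact
import Groth.Agent.InjMod.Dual

/-!
# Algebraizing compatible systems of closed subschemes, from the existence theorem
-/

set_option autoImplicit false
set_option linter.style.haveILetI false
set_option backward.isDefEq.respectTransparency false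
set_option backward.isDefEq.respectTransparency.types false

universe u

open CategoryTheory CategoryTheory.Limits AlgebraicGeometry Opposite TopologicalSpace
open Groth.Agent

noncomputable section

namespace Groth.Agent.LiftLib.AlgebraizeSub

variable {A : Type u} [CommRing A] {X : Scheme.{u}} [X.Over (Spec (CommRingCat.of A))]
  {I : Ideal A}

omit [X.Over (Spec (CommRingCat.of A))] in
theorem homEquiv_unit_unitMap {P : Scheme.{u}} (t : P ⟶ X) :
    (Scheme.Modules.pullbackPushforwardAdjunction t).unit.app (Coh.structureModule X) ≫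
      (Scheme.Modules.pushforward t).map (FEtCat.Lef.Completion.unitMap t) = ClSub.unitToPush t := by
  rw [← FEtCat.Lef.Completion.homEquiv_unitMap t, Adjunction.homEquiv_unit]

/-- The restriction between two levels of structure modules. -/
def β {P P' : Scheme.{u}} (t : P ⟶ P') (j' : P' ⟶ X) {j : P ⟶ X} (h : t ≫ j' = j) :
    (Scheme.Modules.pushforward j').obj (Coh.structureModule P') ⟶
      (Scheme.Modules.pushforward j).obj (Coh.structureModule P) :=
  (Scheme.Modules.pushforward j').map (ClSub.unitToPush t) ≫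
    (Scheme.Modules.pushforwardComp t j').hom.app _ ≫ (Scheme.Modules.pushforwardCongr h).hom.app _

/-- A level is the reduction of the next one. -/
theorem exists_iso_β {P P' Q : Scheme.{u}} (t : P ⟶ P') (j' : P' ⟶ X) [IsAffineHom j']
    (a : P ⟶ Q) (ι : Q ⟶ X) [IsClosedImmersion ι] (hpb : IsPullback t a j' ι) {k : ℕ}
    (hcut : FormalFun.IsCut ι (I ^ k)) :
    ∃ ε : Formal.modPow I k ((Scheme.Modules.pushforward j').obj (Coh.structureModule P')) ≅
      (Scheme.Modules.pushforward (a ≫ ι)).obj (Coh.structureModule P),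
      Formal.modPowπ I k _ ≫ ε.hom = β t j' hpb.w := by
  let O' := Coh.structureModule P'
  haveI : Coh.IsQCoh O' := ProjTwist.isQuasicoherent_structureModule P'
  let v := (Scheme.Modules.pushforward j').map
      ((Scheme.Modules.pullbackPushforwardAdjunction t).unit.app O') ≫
    (Scheme.Modules.pushforwardComp t j').hom.app ((Scheme.Modules.pullback t).obj O') ≫
    (Scheme.Modules.pushforwardCongr hpb.w).hom.app ((Scheme.Modules.pullback t).obj O') ≫
    (Scheme.Modules.pushforwardComp a ι).inv.app ((Scheme.Modules.pullback t).obj O')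
  haveI hu := S12131.result j' ι t a hpb O'
  let e := asIso (((Scheme.Modules.pullbackPushforwardAdjunction ι).homEquiv
      ((Scheme.Modules.pushforward j').obj O') _).symm v) ≪≫
    (Scheme.Modules.pushforward a).mapIso (asIso (FEtCat.Lef.Completion.unitMap t))
  obtain ⟨θ, hθ⟩ := hcut.exists_iso_unit ((Scheme.Modules.pushforward j').obj O')
  refine ⟨θ ≪≫ (Scheme.Modules.pushforward ι).mapIso e ≪≫
    (Scheme.Modules.pushforwardComp a ι).app (Coh.structureModule P), ?_⟩
  have h1 : (Scheme.Modules.pullbackPushforwardAdjunction ι).unit.app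
      ((Scheme.Modules.pushforward j').obj O') ≫ (Scheme.Modules.pushforward ι).map e.hom =
      v ≫ (Scheme.Modules.pushforward ι).map
        ((Scheme.Modules.pushforward a).map (FEtCat.Lef.Completion.unitMap t)) := by
    refine (Adjunction.homEquiv_unit _ _ _ _).symm.trans ?_
    show (Scheme.Modules.pullbackPushforwardAdjunction ι).homEquiv _ _ (_ ≫ _) = _
    rw [Adjunction.homEquiv_naturality_right]
    exact congrArg (· ≫ _) (Equiv.apply_symm_apply _ _)
  simp only [Iso.trans_hom, Functor.mapIso_hom]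
  rw [reassoc_of% hθ, reassoc_of% h1]
  show _ = _
  simp only [v, β, ← homEquiv_unit_unitMap t, Functor.map_comp, Category.assoc]
  have n1 := (Scheme.Modules.pushforwardComp a ι).inv.naturality (FEtCat.Lef.Completion.unitMap t)
  have n2 := (Scheme.Modules.pushforwardCongr hpb.w).hom.naturality (FEtCat.Lef.Completion.unitMap t)
  have n3 := (Scheme.Modules.pushforwardComp t j').hom.naturality (FEtCat.Lef.Completion.unitMap t)
  simp only [Functor.comp_map] at n1 n2 n3
  rw [← reassoc_of% n1, ← reassoc_of% n2, ← reassoc_of% n3]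
  simp
  rfl

/-- The formal module of a system of finite schemes, with the identifications of its levels. -/
theorem exists_formal' [IsLocallyNoetherian X] {P Q : ℕ → Scheme.{u}} (a : ∀ n, P n ⟶ Q n)
    [∀ n, IsFinite (a n)] (ι : ∀ n, Q n ⟶ X) [∀ n, IsClosedImmersion (ι n)]
    (hcut : ∀ n, FormalFun.IsCut (ι n) (I ^ (n + 1))) (t : ∀ n, P n ⟶ P (n + 1))
    (hpb : ∀ n, IsPullback (t n) (a n) (a (n + 1) ≫ ι (n + 1)) (ι n)) :
    ∃ G : ℕᵒᵖ ⥤ X.Modules, Formal.IsCohFormal I G ∧
      ∃ τ : Formal.completion I (Coh.structureModule X) ⟶ G,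
      ∃ e : ∀ n, G.obj (op n) ≅ (Scheme.Modules.pushforward (a n ≫ ι n)).obj (Coh.structureModule (P n)),
        (∀ n, Formal.modPowπ I (n + 1) _ ≫ τ.app (op n) ≫ (e n).hom = ClSub.unitToPush (a n ≫ ι n)) ∧
        ∀ n, G.map (homOfLE (Nat.le_succ n)).op ≫ (e n).hom =
          (e (n + 1)).hom ≫ β (t n) (a (n + 1) ≫ ι (n + 1)) (hpb n).w := by
  let T : ℕ → X.Modules := fun n =>
    (Scheme.Modules.pushforward (a n ≫ ι n)).obj (Coh.structureModule (P n))
  let α : ∀ n, T (n + 1) ⟶ T n := fun n => β (t n) (a (n + 1) ≫ ι (n + 1)) (hpb n).w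
  choose ε hε using fun n => exists_iso_β (t n) (a (n + 1) ≫ ι (n + 1)) (a n) (ι n) (hpb n) (hcut n)
  have hcoh : ∀ n, Coh.IsCoh (T n) := fun n => by
    haveI : IsLocallyNoetherian (P n) := LocallyOfFiniteType.isLocallyNoetherian (a n ≫ ι n)
    have h := HomShQC.isCoh_structureModule (X := P n)
    haveI := h.1
    exact CycLib.isCoh_push (Coh.structureModule (P n)) (a n ≫ ι n) h
  have hkill : ∀ n, ∀ x ∈ I ^ (n + 1), Formal.smulMod A (T n) x = 0 := fun n x hx => by
    let c := (Scheme.Modules.pushforwardComp (a n) (ι n)).app (Coh.structureModule (P n))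
    refine (cancel_epi c.hom).1 ?_
    rw [comp_zero, ← FormalFun.smulMod_natural c.hom x]
    exact (congrArg (· ≫ c.hom) ((hcut n).push_smulMod hx _)).trans zero_comp
  have hG : Formal.IsCohFormal I (Functor.ofOpSequence α) := by
    refine ⟨hcoh, hkill, fun n => ?_⟩
    have hmap : (Functor.ofOpSequence α).map (homOfLE (Nat.le_succ n)).op = α n :=
      Functor.ofOpSequence_map_homOfLE_succ α n
    have hz : Formal.smulFamily (I ^ (n + 1)) (T (n + 1)) ≫ α n = 0 :=
      (congrArg (_ ≫ ·) (hε n).symm).trans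
        ((Category.assoc _ _ _).symm.trans
          ((congrArg (· ≫ (ε n).hom) (cokernel.condition _)).trans zero_comp))
    refine ⟨hmap.symm ▸ hz, ?_⟩
    have hd : ∀ (β' : T (n + 1) ⟶ T n) (hβ : β' = α n)
        (h : Formal.smulFamily (I ^ (n + 1)) (T (n + 1)) ≫ β' = 0),
        IsIso (cokernel.desc _ β' h) := by
      rintro _ rfl h
      have hd : cokernel.desc _ (α n) h = (ε n).hom :=
        (cancel_epi (cokernel.π _)).1 ((cokernel.π_desc _ _ _).trans (hε n).symm)
      exact (congrArg IsIso hd).mpr inferInstance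
    exact hd _ hmap _
  have hz : ∀ n, Formal.smulFamily (I ^ (n + 1)) (Coh.structureModule X) ≫
      ClSub.unitToPush (a n ≫ ι n) = 0 := fun n => by
    apply Sigma.hom_ext
    intro x
    rw [comp_zero, ← Category.assoc, Formal.smulFamily, Sigma.ι_desc]
    exact (FormalFun.smulMod_natural (ClSub.unitToPush (a n ≫ ι n)) x.1).trans
      ((congrArg (_ ≫ ·) (hkill n x.1 x.2)).trans comp_zero)
  let τ : Formal.completion I (Coh.structureModule X) ⟶ Functor.ofOpSequence α :=
    NatTrans.ofOpSequence (fun n => cokernel.desc _ (ClSub.unitToPush (a n ≫ ι n)) (hz n)) fun n => by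
      rw [Functor.ofOpSequence_map_homOfLE_succ]
      have hc : (Formal.completion I (Coh.structureModule X)).map (homOfLE (Nat.le_succ n)).op =
          Formal.modPowTrans I (n + 1) (Coh.structureModule X) :=
        Functor.ofOpSequence_map_homOfLE_succ _ n
      rw [hc]
      refine (cancel_epi (cokernel.π _)).1 ?_
      rw [cokernel.π_desc_assoc]
      refine Eq.trans ?_ (FEtCat.Lef.unitToPush_comp (t n) _ (hpb n).w).symm
      exact ((Category.assoc _ _ _).symm.trans
        (congrArg (· ≫ _) (Formal.modPowπ_trans I (n + 1) _))).trans (cokernel.π_desc _ _ _)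
  refine ⟨_, hG, τ, fun n => Iso.refl _, fun n => (congrArg (_ ≫ ·) (Category.comp_id _)).trans
    (cokernel.π_desc _ _ _), fun n => ?_⟩
  rw [Functor.ofOpSequence_map_homOfLE_succ]
  exact (Category.comp_id _).trans (Category.id_comp _).symm

/-- The formal module of a system of closed subschemes, with its compatible generators. -/
theorem exists_formal [IsLocallyNoetherian X] {P Q : ℕ → Scheme.{u}} (a : ∀ n, P n ⟶ Q n)
    [∀ n, IsFinite (a n)] (ι : ∀ n, Q n ⟶ X) [∀ n, IsClosedImmersion (ι n)]
    (hcut : ∀ n, FormalFun.IsCut (ι n) (I ^ (n + 1))) (t : ∀ n, P n ⟶ P (n + 1))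
    (hpb : ∀ n, IsPullback (t n) (a n) (a (n + 1) ≫ ι (n + 1)) (ι n)) :
    ∃ G : ℕᵒᵖ ⥤ X.Modules, Formal.IsCohFormal I G ∧
      ∃ τ : Formal.completion I (Coh.structureModule X) ⟶ G, ∀ n,
        ∃ e : G.obj (op n) ≅ (Scheme.Modules.pushforward (a n ≫ ι n)).obj (Coh.structureModule (P n)),
          Formal.modPowπ I (n + 1) _ ≫ τ.app (op n) ≫ e.hom = ClSub.unitToPush (a n ≫ ι n) := by
  obtain ⟨G, hG, τ, e, he, -⟩ := exists_formal' a ι hcut t hpb
  exact ⟨G, hG, τ, fun n => ⟨e n, he n⟩⟩


omit [X.Over (Spec (CommRingCat.of A))] in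
/-- The sections of a morphism of modules as a linear map. -/
def appₗ {M N : X.Modules} (φ : M ⟶ N) (U : X.Opens) : Γ(M, U) →ₗ[Γ(X, U)] Γ(N, U) where
  toFun := φ.app U
  map_add' := map_add (φ.app U).hom
  map_smul' r x := Scheme.Modules.Hom.app_smul φ r x

variable [IsNoetherianRing A]

theorem app_mem_smul_top {M N : X.Modules} (φ : M ⟶ N) {U : X.Opens} (J : Ideal Γ(X, U))
    {m : Γ(M, U)} (hm : m ∈ J • (⊤ : Submodule Γ(X, U) Γ(M, U))) :
    φ.app U m ∈ J • (⊤ : Submodule Γ(X, U) Γ(N, U)) := by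
  have h := Submodule.mem_map_of_mem (f := appₗ φ U) hm
  rw [Submodule.map_smul''] at h
  exact Submodule.smul_mono le_rfl le_top h

omit [IsNoetherianRing A] in
/-- A coherent module with proper support vanishes if it equals `I` times itself. -/
theorem subsingleton_stalk_of_eq_smul [IsAdicComplete I A] {C : X.Modules} (hC : Coh.IsCoh C) {T : Set X}
    (hT : ClSub.IsProperOver (X ↘ Spec (CommRingCat.of A)) T) (hCT : CohB1.support C ⊆ T)
    (h : ∀ U : X.Opens, IsAffineOpen U →
      (⊤ : Submodule Γ(X, U) Γ(C, U)) ≤ I.map (FormalFun.gA (A := A) U) • ⊤) (x : X) :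
    Subsingleton (C.presheaf.stalk x) := by
  haveI : C.IsQuasicoherent := hC.1
  haveI : SheafOfModules.IsFiniteType.{u} C := hC.2
  let str := X ↘ Spec (CommRingCat.of A)
  -- points of the support are off `V(I)`
  have key : ∀ y : X, I ≤ (str y).asIdeal → y ∉ CohB1.support C := by
    intro y hy hyC
    obtain ⟨U, hU, hyU, -⟩ := exists_isAffineOpen_mem_and_subset (Opens.mem_top y)
    haveI := QCoh.finite_sections_of_isFiniteType C hU
    obtain ⟨r, hr1, hr⟩ := Submodule.exists_sub_one_mem_and_smul_eq_zero_of_fg_of_le_smul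
      (I.map (FormalFun.gA (A := A) U)) (⊤ : Submodule Γ(X, U) Γ(C, U)) Module.Finite.fg_top (h U hU)
    have hann : r ∈ (ScSupp.annIdeal C).ideal ⟨U, hU⟩ :=
      Module.mem_annihilator.mpr fun m => hr m Submodule.mem_top
    rw [← ScSupp.support_annIdeal C] at hyC
    have hyz := (((ScSupp.annIdeal C).coe_support_inter ⟨U, hU⟩).le ⟨hyC, hyU⟩).1
    rw [Scheme.mem_zeroLocus_iff] at hyz
    have hnr := hyz r hann
    rw [X.mem_basicOpen r y hyU] at hnr
    have hI : I.map (FormalFun.gA (A := A) U) ≤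
        (IsLocalRing.maximalIdeal (X.presheaf.stalk y)).comap (X.presheaf.germ U y hyU).hom := by
      refine Ideal.map_le_iff_le_comap.2 fun a ha hu => ?_
      have hu' : y ∈ X.basicOpen (FormalFun.gA (A := A) U a) := (X.mem_basicOpen _ y hyU).2 hu
      change y ∈ X.basicOpen ((X.presheaf.map (homOfLE (le_top : U ≤ ⊤)).op)
        (str.appTop ((Scheme.ΓSpecIso (CommRingCat.of A)).inv a))) at hu'
      rw [Scheme.basicOpen_res, ← Scheme.preimage_basicOpen_top, basicOpen_eq_of_affine] at hu'
      exact hu'.2 (hy ha)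
    have h1 := hI hr1
    rw [Ideal.mem_comap, map_sub, map_one] at h1
    have h2 : (X.presheaf.germ U y hyU).hom r ∈ IsLocalRing.maximalIdeal (X.presheaf.stalk y) := hnr
    exact (IsLocalRing.maximalIdeal (X.presheaf.stalk y)).one_notMem
      (by simpa using sub_mem h2 h1)
  by_contra hx
  -- the image of the support is closed
  have hcl : IsClosed (CohB1.support C) := S0020.result X C hC.2
  haveI := EtShriekLib.isProper_redι str (EtShriekLib.ipo_mono str hT hcl hCT)
  have himg : IsClosed (str '' CohB1.support C) := by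
    have e : str '' CohB1.support C = Set.range (EtShriekLib.redι hcl ≫ str) := by
      conv_lhs => rw [← EtShriekLib.range_redι hcl]
      rw [← Set.range_comp]
      rfl
    rw [e]
    exact (EtShriekLib.redι hcl ≫ str).isClosedMap.isClosed_range
  obtain ⟨Z, hZ⟩ := (PrimeSpectrum.isClosed_iff_zeroLocus_ideal _).1 himg
  have hZtop : Z ≠ ⊤ := by
    rintro rfl
    have hmem : str x ∈ str '' CohB1.support C := ⟨x, hx, rfl⟩
    rw [hZ] at hmem
    exact (str x).isPrime.ne_top (top_le_iff.1 hmem)
  obtain ⟨m, hm, hle⟩ := Ideal.exists_le_maximal Z hZtop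
  obtain ⟨y, hy, hyp⟩ := hZ.ge (show (⟨m, hm.isPrime⟩ : PrimeSpectrum A) ∈ PrimeSpectrum.zeroLocus (Z : Set A) from hle)
  refine key y ?_ hy
  rw [hyp]
  exact (IsAdicComplete.le_jacobson_bot I).trans (sInf_le ⟨bot_le, hm⟩)

/-- Algebraization of a compatible system of closed subschemes, given the existence theorem. -/
theorem exists_algebraization [IsAdicComplete I A] [IsSeparated (X ↘ Spec (CommRingCat.of A))]
    [LocallyOfFiniteType (X ↘ Spec (CommRingCat.of A))] [QuasiCompact (X ↘ Spec (CommRingCat.of A))]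
    (hex : ∀ G : ℕᵒᵖ ⥤ X.Modules, Formal.IsCohFormal I G →
      ClSub.IsProperOver (X ↘ Spec (CommRingCat.of A)) (CohB1.support (G.obj (op 0))) →
      ∃ M : X.Modules, Coh.IsCoh M ∧
        ClSub.IsProperOver (X ↘ Spec (CommRingCat.of A)) (CohB1.support M) ∧
        Nonempty (Formal.completion I M ≅ G))
    {P Q : ℕ → Scheme.{u}} (a : ∀ n, P n ⟶ Q n) [∀ n, IsClosedImmersion (a n)]
    (ι : ∀ n, Q n ⟶ X) [∀ n, IsClosedImmersion (ι n)]
    (hcut : ∀ n, FormalFun.IsCut (ι n) (I ^ (n + 1))) (t : ∀ n, P n ⟶ P (n + 1))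
    (hpb : ∀ n, IsPullback (t n) (a n) (a (n + 1) ≫ ι (n + 1)) (ι n))
    [hp : IsProper ((a 0 ≫ ι 0) ≫ X ↘ Spec (CommRingCat.of A))] :
    ∃ (W : Scheme.{u}) (i : W ⟶ X) (w : ∀ n, P n ⟶ W), IsClosedImmersion i ∧
      IsProper (i ≫ X ↘ Spec (CommRingCat.of A)) ∧ (∀ n, w n = t n ≫ w (n + 1)) ∧
      ∀ n, IsPullback (w n) (a n) i (ι n) := by
  let str := X ↘ Spec (CommRingCat.of A)
  haveI : IsLocallyNoetherian X := LocallyOfFiniteType.isLocallyNoetherian str
  let j : ∀ n, P n ⟶ X := fun n => a n ≫ ι n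
  let O := Coh.structureModule X
  have hO : Coh.IsCoh O := HomShQC.isCoh_structureModule
  haveI : O.IsQuasicoherent := hO.1
  obtain ⟨G, hG, τ, he⟩ := exists_formal (I := I) a ι hcut t hpb
  choose e he using he
  have hG0 : CohB1.support (G.obj (op 0)) ⊆ Set.range (j 0) := fun x hx =>
    Set.image_subset_range _ _ <| ProperFin.support_push_subset (j 0) (Coh.structureModule (P 0))
      (show x ∈ CohB1.support ((Coh.push (j 0)).obj (Coh.structureModule (P 0))) from fun hs => hx
        (@Function.Surjective.subsingleton _ _ _ hs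
          (PullStalk.Exact.stalk_surjective (e 0).inv x)))
  obtain ⟨M, hM, hMp, ⟨φ⟩⟩ := hex G hG
    (EtShriekLib.ipo_of_immersion str (j 0) (S0020.result X _ (hG.1 0).2) hG0)
  haveI : M.IsQuasicoherent := hM.1
  haveI : SheafOfModules.IsFiniteType.{u} M := hM.2
  have hinter : CohB1.support O ∩ CohB1.support M = CohB1.support M := by
    refine Set.inter_eq_right.2 fun x hx h => hx ?_
    haveI : Subsingleton (X.presheaf.stalk x) := by
      haveI : Subsingleton ((Coh.structureModule X).presheaf.stalk x) := h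
      exact (InjMod.unitStalkEquiv x).toEquiv.subsingleton
    exact Module.subsingleton (X.presheaf.stalk x) _
  obtain ⟨s, hs, -⟩ := FormalFun.HomCompl.existsUnique_of_properSupport A I hO hM (hinter.symm ▸ hMp)
    (τ ≫ φ.inv)
  -- on affine opens the levels are the reductions of the section
  have hlev : ∀ n, s ≫ Formal.modPowπ I (n + 1) M ≫ φ.hom.app (op n) ≫ (e n).hom =
      ClSub.unitToPush (j n) := fun n => by
    refine (((Category.assoc _ _ _).symm.trans (congrArg (· ≫ _) (hs n).symm)).trans ?_).trans (he n)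
    simp only [NatTrans.comp_app, Category.assoc, Iso.inv_hom_id_app_assoc]
    rfl
  have hker : ∀ (n : ℕ) (U : X.affineOpens) (r : Γ(X, U.1)), r ∈ (j n).ker.ideal U ↔
      s.app U.1 r ∈ (I.map (FormalFun.gA (A := A) U.1)) ^ (n + 1) • (⊤ : Submodule Γ(X, U.1) Γ(M, U.1)) := by
    intro n U r
    rw [← FormalFun.HomCompl.π_app_eq_zero_iff I (n + 1) M U.2, Scheme.Hom.ker_apply, RingHom.mem_ker]
    have h1 : (j n).app U.1 r = (φ.hom.app (op n) ≫ (e n).hom).app U.1
        ((Formal.modPowπ I (n + 1) M).app U.1 (s.app U.1 r)) :=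
      (congr($(hlev n).app U.1 r)).symm
    rw [h1]
    refine ⟨fun h0 => ?_, fun h0 => by rw [h0, map_zero]⟩
    refine (ConcreteCategory.bijective_of_isIso ((φ.hom.app (op n) ≫ (e n).hom).app U.1)).1 ?_
    exact h0.trans (map_zero _).symm
  -- the section generates
  have hsurj : ∀ U : X.Opens, IsAffineOpen U → Function.Surjective (s.app U) := by
    let C := cokernel s
    have hC : Coh.IsCoh C := CohDev.isCoh_cokernel s hO.1 hM
    haveI : C.IsQuasicoherent := hC.1
    have hCT : CohB1.support C ⊆ CohB1.support M := fun x hx hs' => hx <| by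
      haveI : Subsingleton (M.presheaf.stalk x) := hs'
      exact Function.Surjective.subsingleton (PullStalk.Exact.stalk_surjective (cokernel.π s) x)
    have h0 := subsingleton_stalk_of_eq_smul (I := I) hC hMp hCT fun U hU c _ => by
      obtain ⟨m, rfl⟩ := QCoh.app_surjective_of_epi (cokernel.π s) hU c
      obtain ⟨r, hr⟩ := (j 0).app_surjective _ hU
        ((φ.hom.app (op 0) ≫ (e 0).hom).app U ((Formal.modPowπ I 1 M).app U m))
      have h1 : (Formal.modPowπ I 1 M).app U (m - s.app U r) = 0 := by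
        rw [map_sub, sub_eq_zero]
        refine (ConcreteCategory.bijective_of_isIso ((φ.hom.app (op 0) ≫ (e 0).hom).app U)).1 ?_
        exact hr.symm.trans (congr($(hlev 0).app U r)).symm
      rw [FormalFun.HomCompl.π_app_eq_zero_iff I 1 M hU, pow_one] at h1
      have h2 := app_mem_smul_top (cokernel.π s) _ h1
      rw [map_sub, show (cokernel.π s).app U (s.app U r) = 0 from congr($(cokernel.condition s).app U r),
        sub_zero] at h2
      exact h2
    have hπ : cokernel.π s = 0 := Omega.Stalks.hom_ext_stalk fun x => LinearMap.ext fun v => by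
      haveI := h0 x
      exact Subsingleton.elim _ _
    haveI : Epi s := Preadditive.epi_of_cancel_zero s fun g hg => by
      rw [← cokernel.π_desc s g hg, hπ, zero_comp]
    exact fun U hU => QCoh.app_surjective_of_epi s hU
  let 𝔞 := ScSupp.annIdeal M
  have hann : ∀ (U : X.affineOpens) (r : Γ(X, U.1)), r ∈ 𝔞.ideal U ↔ s.app U.1 r = 0 := by
    intro U r
    have e1 : s.app U.1 r = r • s.app U.1 (1 : Γ(X, U.1)) := by
      refine Eq.trans ?_ (Scheme.Modules.Hom.app_smul s r (1 : Γ(X, U.1)))
      exact congrArg (s.app U.1) (mul_one r).symm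
    refine ⟨fun hr => e1.trans (Module.mem_annihilator.mp hr _), fun h0 => Module.mem_annihilator.mpr fun m => ?_⟩
    obtain ⟨r', rfl⟩ := hsurj U.1 U.2 m
    refine (Scheme.Modules.Hom.app_smul s r r').symm.trans ?_
    refine (congrArg (s.app U.1) (mul_comm r r')).trans ?_
    exact (Scheme.Modules.Hom.app_smul s (show Γ(X, U.1) from r') r).trans
      ((congrArg ((show Γ(X, U.1) from r') • ·) h0).trans (smul_zero _))
  have hle : ∀ n, 𝔞.subschemeι.ker ≤ (j n).ker := fun n => by
    rw [Scheme.IdealSheafData.ker_subschemeι]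
    intro U r hr
    rw [hker n U r, (hann U r).1 hr]
    exact zero_mem _
  let w : ∀ n, P n ⟶ 𝔞.subscheme := fun n => IsClosedImmersion.lift 𝔞.subschemeι (j n) (hle n)
  have hw : ∀ n, w n ≫ 𝔞.subschemeι = j n := fun n => IsClosedImmersion.lift_fac _ _ (hle n)
  have hsup : ∀ n, (j n).ker ≤ 𝔞.subschemeι.ker ⊔ (ι n).ker := by
    intro n
    rw [Scheme.IdealSheafData.ker_subschemeι]
    intro U r hr
    have hJ : (I.map (FormalFun.gA (A := A) U.1)) ^ (n + 1) ≤ (ι n).ker.ideal U := by
      rw [← Ideal.map_pow]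
      refine Ideal.map_le_iff_le_comap.2 fun b hb => ?_
      rw [Ideal.mem_comap, Scheme.Hom.ker_apply, RingHom.mem_ker]
      refine (congr($((ι n).naturality (homOfLE (le_top : U.1 ≤ ⊤)).op)
        (Coh.toGlobal (X ↘ Spec (CommRingCat.of A)) b))).trans ?_
      show ((Q n).presheaf.map _) ((ι n).appTop (Coh.toGlobal (X ↘ Spec (CommRingCat.of A)) b)) = 0
      rw [(hcut n).zero b hb, map_zero]
    have h1 := (hker n U r).1 hr
    have h2 : (I.map (FormalFun.gA (A := A) U.1)) ^ (n + 1) • (⊤ : Submodule Γ(X, U.1) Γ(M, U.1)) ≤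
        (((I.map (FormalFun.gA (A := A) U.1)) ^ (n + 1)) •
          (⊤ : Submodule Γ(X, U.1) Γ(O, U.1))).map (appₗ s U.1) := by
      rw [Submodule.map_smul'']
      refine Submodule.smul_mono le_rfl fun m _ => ?_
      obtain ⟨r', hr'⟩ := hsurj U.1 U.2 m
      exact ⟨r', Submodule.mem_top, hr'⟩
    obtain ⟨r₀, hr', he'⟩ := h2 h1
    let r' : Γ(X, U.1) := r₀
    have hr'J : r' ∈ (I.map (FormalFun.gA (A := A) U.1)) ^ (n + 1) :=
      Submodule.smul_induction_on
        (p := fun z => (show Γ(X, U.1) from z) ∈ (I.map (FormalFun.gA (A := A) U.1)) ^ (n + 1)) hr'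
        (fun x hx y _ => Ideal.mul_mem_right (show Γ(X, U.1) from y) _ hx) fun x y hx hy => add_mem hx hy
    rw [Scheme.IdealSheafData.ideal_sup]
    refine Submodule.mem_sup.2 ⟨r - r', (hann U _).2 ?_, r', hJ hr'J, sub_add_cancel r r'⟩
    exact (map_sub (s.app U.1).hom r r').trans (sub_eq_zero.2 he'.symm)
  refine ⟨𝔞.subscheme, 𝔞.subschemeι, w, inferInstance, ?_, fun n => ?_, fun n => ?_⟩
  · exact ((S0787.result str _ hMp.1).2.1 hMp) _ 𝔞.subschemeι inferInstance
      ((Scheme.IdealSheafData.range_subschemeι 𝔞).trans (ScSupp.support_annIdeal M))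
  · rw [← cancel_mono 𝔞.subschemeι, Category.assoc, hw, hw]
    exact (hpb n).w.symm
  · refine ⟨⟨hw n⟩, ⟨PullbackCone.IsLimit.mk _ (fun c => IsClosedImmersion.lift (j n) (c.fst ≫ 𝔞.subschemeι) ?_)
      (fun c => ?_) (fun c => ?_) (fun c m h1 h2 => ?_)⟩⟩
    · refine (hsup n).trans (sup_le (Scheme.Hom.le_ker_comp _ _) ?_)
      rw [c.condition]
      exact Scheme.Hom.le_ker_comp _ _
    · rw [← cancel_mono 𝔞.subschemeι, Category.assoc, hw]
      exact IsClosedImmersion.lift_fac _ _ _
    · rw [← cancel_mono (ι n), Category.assoc]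
      exact (IsClosedImmersion.lift_fac _ _ _).trans c.condition
    · rw [← cancel_mono (j n), IsClosedImmersion.lift_fac, ← h1, Category.assoc, hw]


/-- The existence theorem with proper support, in the shape used here. -/
def Existence (A : Type u) [CommRing A] (I : Ideal A) (X : Scheme.{u})
    [X.Over (Spec (CommRingCat.of A))] : Prop :=
  ∀ G : ℕᵒᵖ ⥤ X.Modules, Formal.IsCohFormal I G →
    ClSub.IsProperOver (X ↘ Spec (CommRingCat.of A)) (CohB1.support (G.obj (op 0))) →
    ∃ M : X.Modules, Coh.IsCoh M ∧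
      ClSub.IsProperOver (X ↘ Spec (CommRingCat.of A)) (CohB1.support M) ∧
      Nonempty (Formal.completion I M ≅ G)

omit [X.Over (Spec (CommRingCat.of A))] [IsNoetherianRing A] in
/-- The thickenings of a scheme over `A` form cartesian squares over `X`. -/
theorem isPullback_thickTrans (f : X ⟶ Spec (CommRingCat.of A)) (I : Ideal A) (n : ℕ) :
    IsPullback (CohB1.thickTrans f I n) (𝟙 _) (CohB1.thickι f I (n + 1)) (CohB1.thickι f I n) := by
  haveI : IsClosedImmersion (CohB1.specQuot I (n + 1)) :=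
    IsClosedImmersion.spec_of_surjective _ Ideal.Quotient.mk_surjective
  haveI : IsClosedImmersion (CohB1.thickι f I (n + 1)) :=
    MorphismProperty.pullback_fst f (CohB1.specQuot I (n + 1)) inferInstance
  have e : CohB1.thickTrans f I n ≫ CohB1.thickι f I (n + 1) = CohB1.thickι f I n := by
    unfold CohB1.thickTrans CohB1.thickι
    simp
  refine ⟨⟨e.trans (Category.id_comp _).symm⟩, ⟨PullbackCone.IsLimit.mk _ (fun c => c.snd)
    (fun c => ?_) (fun c => Category.comp_id _) (fun c m h1 h2 => ?_)⟩⟩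
  · rw [← cancel_mono (CohB1.thickι f I (n + 1)), Category.assoc, e]
    exact c.condition.symm
  · rw [← h2, Category.comp_id]

omit [X.Over (Spec (CommRingCat.of A))] in
/-- Algebraization of formal closed subschemes, given the existence theorem. -/
theorem algebraize_formal_closed (I : Ideal A) [IsAdicComplete I A] (f : X ⟶ Spec (CommRingCat.of A))
    [IsSeparated f] [LocallyOfFiniteType f] [QuasiCompact f]
    (hex : letI : X.Over (Spec (CommRingCat.of A)) := ⟨f⟩; Existence A I X)
    (Z : ℕ → Scheme.{u}) (z : (n : ℕ) → (Z n ⟶ CohB1.thick f I n)) (t : (n : ℕ) → (Z n ⟶ Z (n + 1)))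
    (hz : ∀ n, IsClosedImmersion (z n))
    (ht : ∀ n, IsPullback (t n) (z n) (z (n + 1)) (CohB1.thickTrans f I n))
    (hp : IsProper (z 0 ≫ CohB1.thickToBase f I 0)) :
    ∃ (W : Scheme.{u}) (i : W ⟶ X) (w : (n : ℕ) → (Z n ⟶ W)), IsClosedImmersion i ∧
      IsProper (i ≫ f) ∧ (∀ n, w n = t n ≫ w (n + 1)) ∧
      ∀ n, IsPullback (w n) (z n) i (CohB1.thickι f I n) := by
  letI : X.Over (Spec (CommRingCat.of A)) := ⟨f⟩
  haveI : ∀ n, IsClosedImmersion (CohB1.specQuot I n) := fun n =>
    IsClosedImmersion.spec_of_surjective _ Ideal.Quotient.mk_surjective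
  haveI : ∀ n, IsClosedImmersion (CohB1.thickι f I n) := fun n =>
    MorphismProperty.pullback_fst f (CohB1.specQuot I n) inferInstance
  haveI := hz
  haveI : IsSeparated (X ↘ Spec (CommRingCat.of A)) := ‹IsSeparated f›
  haveI : LocallyOfFiniteType (X ↘ Spec (CommRingCat.of A)) := ‹LocallyOfFiniteType f›
  haveI : QuasiCompact (X ↘ Spec (CommRingCat.of A)) := ‹QuasiCompact f›
  haveI : IsProper ((z 0 ≫ CohB1.thickι f I 0) ≫ X ↘ Spec (CommRingCat.of A)) := by
    show IsProper ((z 0 ≫ pullback.fst f (CohB1.specQuot I 0)) ≫ f)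
    rw [Category.assoc, pullback.condition, ← Category.assoc]
    infer_instance
  exact exists_algebraization hex z (fun n => CohB1.thickι f I n)
    (fun n => FormalFun.isCut_of_isPullback (CohB1.thickι f I n) I n
      (IsPullback.of_hasPullback f (CohB1.specQuot I n)))
    t fun n => by simpa using (ht n).paste_vert (isPullback_thickTrans f I n)

end Groth.Agent.LiftLib.AlgebraizeSub
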