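import Groth.Agent.FormalFun.AmpleFibre
import Groth.Agent.S0051

/-!
# Ampleness from the special fibre of a proper scheme over a ring with `J` in its Jacobson radical
-/

set_option autoImplicit false
set_option linter.style.haveILetI false

universe u

open CategoryTheory Limits AlgebraicGeometry Opposite TopologicalSpace
open Groth.Agent

noncomputable section

namespace Groth.Agent.LiftLib.AmpleFormal

open Groth.Agent.FormalFun

variable {A : Type u} [CommRing A] [IsNoetherianRing A] {X : Scheme.{u}}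

theorem isAmple_of_special (J : Ideal A) (hJ : J ≤ Ideal.jacobson ⊥) (f : X ⟶ Spec (CommRingCat.of A))
    [IsProper f] {Z : Scheme.{u}} (ι : Z ⟶ X) (pZ : Z ⟶ Spec (CommRingCat.of (A ⧸ J ^ (0 + 1))))
    (hZ : IsPullback ι pZ f (CohB1.specQuot J 0))
    {L : X.Modules} (hL : PicF.IsInvertible L)
    (ha : CohB1.IsAmple ((Scheme.Modules.pullback ι).obj L)) : CohB1.IsAmple L := by
  letI : X.Over (Spec (CommRingCat.of A)) := ⟨f⟩
  haveI : IsProper (X ↘ Spec (CommRingCat.of A)) := ‹IsProper f›
  refine (S0051.result A X f L hL).mpr fun M hM => ?_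
  let W := Tower.ofScheme J X
  haveI := isLocallyNoetherian_of_proper A X
  haveI := compactSpace_of_proper A X
  haveI : ∀ k, IsLocallyNoetherian (W.X k) := fun k =>
    LocallyOfFiniteType.isLocallyNoetherian (Tower.ofSchemeι J X k)
  have hp : IsProper (W.p 0) :=
    MorphismProperty.of_isPullback (P := @IsProper) (Tower.isPullback_ofSchemeι J X 0) inferInstance
  let S : TowerMod W :=
    { F := fun k => (Scheme.Modules.pullback (Tower.ofSchemeι J X k)).obj M
      coh := fun k => ZClosLib.CohDescent.isCoh_pullback _ _ hM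
      ψ := fun k => (LimTop.compIso (W.i k) (Tower.ofSchemeι J X (k + 1)) (Tower.ofScheme_i_ι J X k)).app M }
  let L' : (k : ℕ) → (W.X k).Modules := fun k => (Scheme.Modules.pullback (Tower.ofSchemeι J X k)).obj L
  have hL' : ∀ k, PicF.IsInvertible (L' k) := fun k => PicCl.isInvertible_pullback _ hL
  have φ : ∀ k, Nonempty ((Scheme.Modules.pullback (W.i k)).obj (L' (k + 1)) ≅ L' k) := fun k =>
    ⟨(LimTop.compIso (W.i k) (Tower.ofSchemeι J X (k + 1)) (Tower.ofScheme_i_ι J X k)).app L⟩
  let g : W.X 0 ≅ Z := (Tower.isPullback_ofSchemeι J X 0).isoIsPullback _ _ hZ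
  have hg : g.hom ≫ ι = Tower.ofSchemeι J X 0 := IsPullback.isoIsPullback_hom_fst _ _ _ _
  haveI : CompactSpace (W.X 0) := (Tower.ofSchemeι J X 0).isClosedEmbedding.compactSpace
  have ha' : CohB1.IsAmple (L' 0) :=
    AmpleLib.isAmple_of_iso ((LimTop.compIso g.hom ι hg).app L)
      (AmpleLib.isAmple_pullback_of_isInducing g.hom g.hom.homeomorph.isInducing ha)
  obtain ⟨d₀, hd₀⟩ := S.exists_bound L' hp hL' φ ha'
  refine ⟨d₀, fun d hd q hq => ?_⟩
  haveI : IsNoetherian X := {}
  haveI := W.isNoetherian_X hp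
  let G : X.Modules := (twist L d).obj M
  have hG : Coh.IsCoh G := ProjTwist.isCoh_tensor (AmpleLib.isInvertible_tensorPow hL d) hM
  have hz : ∀ k, Subsingleton (Formal.HHmodPow J G q k) := fun k => by
    obtain ⟨θ, -⟩ := (Tower.isCut_ofSchemeι J X k).exists_iso_unit G
    obtain ⟨t⟩ := nonempty_pullback_tensorPow (Tower.ofSchemeι J X k) hL d
    let c := KFlat.PullTensor.pullTensorIso (Tower.ofSchemeι J X k) M (CohB1.tensorPow L d) ≪≫
      ProjTwist.tensCongr (Iso.refl _) t
    haveI : Coh.IsQCoh ((twist (L' k) d).obj (S.F k)) :=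
      (ProjTwist.isCoh_tensor (AmpleLib.isInvertible_tensorPow (hL' k) d) (S.coh k)).1
    exact subsingleton_HH_iso' ((Scheme.Modules.pushforward (Tower.ofSchemeι J X k)).mapIso c.symm ≪≫ θ.symm) q
      (subsingleton_HH_push (Tower.ofSchemeι J X k) ((twist (L' k) d).obj (S.F k)) q (hd₀ d hd k q hq).1)
  have hfin := finiteCoh_of_proper A X
  haveI := hfin G hG q
  obtain ⟨c, hc⟩ := kernels_adically_small J (p := q) hfin hG
  have h1 : (⊤ : Submodule A (Coh.HH X G q)) ≤ J • ⊤ := fun z _ => by
    have h := hc (c + 1) (Nat.le_add_right c 1) (show z ∈ (Formal.toHHmodPow J G q (c + 1)).ker from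
      (hz (c + 1)).elim _ _)
    rw [Nat.add_sub_cancel_left, pow_one] at h
    exact h
  have h2 := Submodule.eq_bot_of_le_smul_of_le_jacobson_bot J ⊤ Module.Finite.fg_top h1 hJ
  exact subsingleton_of_forall_eq 0 fun (z : Coh.HH X G q) => (Submodule.mem_bot A).mp (h2 ▸ (Submodule.mem_top : z ∈ (⊤ : Submodule A (Coh.HH X G q))))

end Groth.Agent.LiftLib.AmpleFormal
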