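import Groth.Agent.PicThick.Bridge

/-!
# Primitives for ideals generated freely over a closed subscheme

An ideal whose sections are uniquely `∑ z_i b_i` with `b_i` read modulo the ideal of a closed
subscheme `k : Z ⟶ X` has vanishing Čech classes when those of the structure sheaf of `Z` vanish.
-/

set_option autoImplicit false
set_option linter.style.haveILetI false
set_option backward.isDefEq.respectTransparency false
set_option backward.isDefEq.respectTransparency.types false

universe u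

open CategoryTheory CategoryTheory.Limits AlgebraicGeometry Opposite TopologicalSpace

noncomputable section

namespace Groth.Agent.LiftLib

open OmegaSh Groth.Agent.Omega.Stalks Groth.Agent.IdealSh.IdealMod Groth.Agent.QCoh

variable {X Z : Scheme.{u}}

/-- two functions agreeing on all affine opens below `W` agree -/
lemma sect_ext {W : X.Opens} {s t : Γ(X, W)}
    (h : ∀ (V : X.Opens) (hV : V ≤ W), IsAffineOpen V → rres hV s = rres hV t) : s = t :=
  X.sheaf.eq_of_locally_eq' (fun V : {V : X.affineOpens // V.1 ≤ W} => V.1.1) W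
    (fun V => homOfLE V.2) (fun x hx => by
      obtain ⟨_, ⟨V, hV, rfl⟩, hxV, hle⟩ := X.isBasis_affineOpens.exists_subset_of_mem_open hx W.2
      exact Opens.mem_iSup.2 ⟨⟨⟨V, hV⟩, hle⟩, hxV⟩) s t (fun V => h V.1.1 V.2 V.1.2)

variable (k : Z ⟶ X) [IsClosedImmersion k]

lemma app_rres' {U V : X.Opens} (h : V ≤ U) (a : Γ(X, U)) :
    k.app V (rres h a) = rres (k.preimage_mono h) (k.app U a) := by
  rw [← ConcreteCategory.comp_apply, k.naturality]; rfl

lemma sect_ext' {W : X.Opens} {s t : Γ(Z, k ⁻¹ᵁ W)}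
    (h : ∀ (V : X.Opens) (hV : V ≤ W), IsAffineOpen V →
      rres (k.preimage_mono hV) s = rres (k.preimage_mono hV) t) : s = t :=
  Z.sheaf.eq_of_locally_eq' (fun V : {V : X.affineOpens // V.1 ≤ W} => k ⁻¹ᵁ V.1.1) (k ⁻¹ᵁ W)
    (fun V => homOfLE (k.preimage_mono V.2)) (fun x hx => by
      obtain ⟨_, ⟨V, hV, rfl⟩, hxV, hle⟩ :=
        X.isBasis_affineOpens.exists_subset_of_mem_open (show k x ∈ (W : Set X) from hx) W.2
      exact Opens.mem_iSup.2 ⟨⟨⟨V, hV⟩, hle⟩, hxV⟩) s t (fun V => h V.1.1 V.2 V.1.2)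

variable {r : ℕ} (z : Fin r → Γ(X, ⊤))

/-- the combination of the `z_i` with coefficients `b` -/
def comb (V : X.Opens) (b : Fin r → Γ(X, V)) : Γ(X, V) := ∑ i, rres le_top (z i) * b i

lemma rres_comb {U V : X.Opens} (h : V ≤ U) (b : Fin r → Γ(X, U)) :
    rres h (comb z U b) = comb z V (fun i => rres h (b i)) := by
  simp [comb, map_sum, rres_rres]

lemma comb_sub (V : X.Opens) (b b' : Fin r → Γ(X, V)) :
    comb z V (b - b') = comb z V b - comb z V b' := by
  simp [comb, mul_sub]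

lemma exists_lifts {V : X.Opens} (hV : IsAffineOpen V) (c : Fin r → Γ(Z, k ⁻¹ᵁ V)) :
    ∃ b : Fin r → Γ(X, V), ∀ i, k.app V (b i) = c i :=
  ⟨fun i => (k.app_surjective V hV (c i)).choose, fun i => (k.app_surjective V hV (c i)).choose_spec⟩

/-- `c` are the coefficients of `s` -/
def Rel (W : X.Opens) (c : Fin r → Γ(Z, k ⁻¹ᵁ W)) (s : Γ(X, W)) : Prop :=
  ∀ (V : X.Opens) (hV : V ≤ W), IsAffineOpen V → ∀ b : Fin r → Γ(X, V),
    (∀ i, k.app V (b i) = rres (k.preimage_mono hV) (c i)) → rres hV s = comb z V b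

variable {k z}

lemma Rel.res {U W : X.Opens} (h : W ≤ U) {c : Fin r → Γ(Z, k ⁻¹ᵁ U)} {s : Γ(X, U)}
    (hr : Rel k z U c s) : Rel k z W (fun i => rres (k.preimage_mono h) (c i)) (rres h s) := by
  intro V hV hVa b hb
  rw [rres_rres]
  exact hr V (hV.trans h) hVa b fun i => by rw [hb i, rres_rres]

lemma Rel.add {W : X.Opens} {c c' : Fin r → Γ(Z, k ⁻¹ᵁ W)} {s s' : Γ(X, W)}
    (h : Rel k z W c s) (h' : Rel k z W c' s') : Rel k z W (c + c') (s + s') := by
  intro V hV hVa b hb
  obtain ⟨b₁, hb₁⟩ := exists_lifts k hVa (fun i => rres (k.preimage_mono hV) (c i))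
  rw [map_add, h V hV hVa b₁ hb₁, h' V hV hVa (b - b₁) fun i => by
    rw [Pi.sub_apply, map_sub, hb i, hb₁ i, Pi.add_apply, map_add, add_sub_cancel_left], comb_sub]
  abel

lemma rel_zero_iff (W : X.Opens) (s : Γ(X, W))
    (hz : ∀ (V : X.Opens), IsAffineOpen V → ∀ b : Fin r → Γ(X, V),
      (∀ i, k.app V (b i) = 0) → comb z V b = 0) :
    Rel k z W 0 s ↔ s = 0 := by
  constructor
  · intro h
    refine sect_ext fun V hV hVa => ?_
    rw [h V hV hVa 0 (fun i => by simp), map_zero]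
    simp [comb]
  · rintro rfl V hV hVa b hb
    rw [map_zero, hz V hVa b fun i => by simpa using hb i]

variable (k z) in
/-- the hypotheses on `k` and `z`: an ideal `I` is freely spanned by the `z_i` over `Z` -/
structure Spans (I : X.IdealSheafData) : Prop where
  exists_comb : ∀ (V : X.Opens), IsAffineOpen V → ∀ s : Γ(X, V), I.subschemeι.app V s = 0 →
    ∃ b : Fin r → Γ(X, V), comb z V b = s
  app_comb : ∀ (V : X.Opens), IsAffineOpen V → ∀ b : Fin r → Γ(X, V),
    I.subschemeι.app V (comb z V b) = 0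
  comb_eq_zero : ∀ (V : X.Opens), IsAffineOpen V → ∀ b : Fin r → Γ(X, V),
    comb z V b = 0 ↔ ∀ i, k.app V (b i) = 0

variable {I : X.IdealSheafData} (hI : Spans k z I)
include hI

theorem Rel.unique {W : X.Opens} {c c' : Fin r → Γ(Z, k ⁻¹ᵁ W)} {s : Γ(X, W)}
    (h : Rel k z W c s) (h' : Rel k z W c' s) : c = c' := by
  funext i
  refine sect_ext' k fun V hV hVa => ?_
  obtain ⟨b, hb⟩ := exists_lifts k hVa (fun i => rres (k.preimage_mono hV) (c i))
  obtain ⟨b', hb'⟩ := exists_lifts k hVa (fun i => rres (k.preimage_mono hV) (c' i))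
  have h0 := (hI.comb_eq_zero V hVa (b - b')).1
    (by rw [comb_sub, ← h V hV hVa b hb, ← h' V hV hVa b' hb', sub_self]) i
  rw [Pi.sub_apply, map_sub, hb, hb', sub_eq_zero] at h0
  exact h0

theorem rel_of_comb {V : X.Opens} (b : Fin r → Γ(X, V)) :
    Rel k z V (fun i => k.app V (b i)) (comb z V b) := by
  intro V' hV' hVa b' hb'
  rw [rres_comb, ← sub_eq_zero, ← comb_sub]
  exact (hI.comb_eq_zero V' hVa _).2 fun i => by
    rw [Pi.sub_apply, map_sub, hb', app_rres', sub_self]

theorem exists_rel (W : X.Opens) (s : Γ(X, W)) (hs : I.subschemeι.app W s = 0) :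
    ∃ c : Fin r → Γ(Z, k ⁻¹ᵁ W), Rel k z W c s := by
  classical
  let J := {V : X.affineOpens // V.1 ≤ W}
  have hex : ∀ V : J, ∃ b : Fin r → Γ(X, V.1.1), comb z V.1.1 b = rres V.2 s := fun V =>
    hI.exists_comb _ V.1.2 _ (by rw [app_rres', hs, map_zero])
  choose b hb using hex
  have hrel : ∀ V : J, Rel k z V.1.1 (fun i => k.app V.1.1 (b V i)) (rres V.2 s) := fun V =>
    hb V ▸ rel_of_comb hI (b V)
  let F : ∀ V : J, Fin r → Γ(Z, k ⁻¹ᵁ V.1.1) := fun V i => k.app V.1.1 (b V i)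
  have hcompat : ∀ i, TopCat.Presheaf.IsCompatible Z.presheaf
      (fun V : J => k ⁻¹ᵁ V.1.1) (fun V => F V i) := by
    intro i V V'
    have hA : V.1.1 ⊓ V'.1.1 ≤ V.1.1 := inf_le_left
    have hB : V.1.1 ⊓ V'.1.1 ≤ V'.1.1 := inf_le_right
    have h1 := (hrel V).res hA
    have h2 := (hrel V').res hB
    rw [rres_rres] at h1 h2
    have h := congrFun (Rel.unique hI h1 h2) i
    exact h
  have hglue := fun i => Z.sheaf.existsUnique_gluing' (fun V : J => k ⁻¹ᵁ V.1.1) (k ⁻¹ᵁ W)
    (fun V => homOfLE (k.preimage_mono V.2)) (fun x hx => by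
      obtain ⟨_, ⟨V, hV, rfl⟩, hxV, hle⟩ :=
        X.isBasis_affineOpens.exists_subset_of_mem_open (show k x ∈ (W : Set X) from hx) W.2
      exact Opens.mem_iSup.2 ⟨⟨⟨V, hV⟩, hle⟩, hxV⟩) _ (hcompat i)
  choose c hc _ using hglue
  refine ⟨c, fun V hV hVa b' hb' => ?_⟩
  have h := hrel ⟨⟨V, hVa⟩, hV⟩ V le_rfl hVa b' fun i => by
    rw [hb' i, rres_self]
    exact hc i ⟨⟨V, hVa⟩, hV⟩
  rwa [rres_self] at h

omit hI in
lemma app_idealSect_res' {U V : X.Opens} (h : V ≤ U) (s : Γ(ClSub.idealMod I, U)) :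
    idealSect I V (CohAff.res (X := X.toPresheafedSpace.carrier) (ClSub.idealMod I).presheaf h s) =
      rres h (idealSect I U s) :=
  idealSect_map I (homOfLE h) s

variable {κ : Type u} {U : κ → X.Opens}

omit hI in
lemma le_preimage_inter {n : ℕ} (x : Fin n → κ) :
    CohAff.inter (X := Z.toPresheafedSpace.carrier) (fun a => k ⁻¹ᵁ U a) x ≤
      k ⁻¹ᵁ CohAff.inter (X := X.toPresheafedSpace.carrier) U x := fun p hp => by
  show k p ∈ CohAff.inter (X := X.toPresheafedSpace.carrier) U x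
  rw [CohAff.mem_inter]
  exact (CohAff.mem_inter (X := Z.toPresheafedSpace.carrier) (U := fun a => k ⁻¹ᵁ U a) (p := p)).1 hp

omit hI in
lemma preimage_inter_le {n : ℕ} (x : Fin n → κ) :
    k ⁻¹ᵁ CohAff.inter (X := X.toPresheafedSpace.carrier) U x ≤
      CohAff.inter (X := Z.toPresheafedSpace.carrier) (fun a => k ⁻¹ᵁ U a) x :=
  CohAff.le_inter fun a => k.preimage_mono (CohAff.inter_le U x a)

theorem exists_primitive {n : ℕ}
    (hZ : ∀ c : CohAff.Cochain (X := Z.toPresheafedSpace.carrier) (Coh.toAb (Coh.structureModule Z)).obj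
        (fun a => k ⁻¹ᵁ U a) (n + 1),
      CohAff.cd (Coh.toAb (Coh.structureModule Z)).obj _ (n + 1) c = 0 →
        ∃ t, CohAff.cd (Coh.toAb (Coh.structureModule Z)).obj _ n t = c)
    (haff : ∀ y : Fin (n + 1) → κ,
      IsAffineOpen (X := X) (CohAff.inter (X := X.toPresheafedSpace.carrier) U y))
    (s : CohAff.Cochain (X := X.toPresheafedSpace.carrier) (ClSub.idealMod I).presheaf U (n + 1))
    (hs : CohAff.cd (ClSub.idealMod I).presheaf U (n + 1) s = 0) :
    ∃ t, CohAff.cd (ClSub.idealMod I).presheaf U n t = s := by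
  classical
  have hc0 : ∀ x, ∃ c, Rel k z _ c (idealSect I _ (s x)) := fun x => exists_rel hI _ _ (app_sect I _ _)
  choose c hc using hc0
  have rel0 : ∀ (W : X.Opens), Rel k z W 0 0 := fun W =>
    (rel_zero_iff W 0 fun V hV b hb => (hI.comb_eq_zero V hV b).2 hb).2 rfl
  have relsum : ∀ {W : X.Opens} {α : Type} (A : Finset α) (C : α → Fin r → Γ(Z, k ⁻¹ᵁ W))
      (S : α → Γ(X, W)), (∀ a, Rel k z W (C a) (S a)) → Rel k z W (∑ a ∈ A, C a) (∑ a ∈ A, S a) := by
    intro W α A C S h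
    induction A using Finset.induction_on with
    | empty => simpa using rel0 W
    | insert a A ha ih => rw [Finset.sum_insert ha, Finset.sum_insert ha]; exact (h a).add ih
  have relneg : ∀ {W : X.Opens} {C : Fin r → Γ(Z, k ⁻¹ᵁ W)} {S : Γ(X, W)},
      Rel k z W C S → Rel k z W (-C) (-S) := by
    intro W C S h V hV hVa b hb
    rw [map_neg, h V hV hVa (-b) fun i => by simp [hb i]]
    simp [comb]
  have relsign : ∀ (j : ℕ) {W : X.Opens} {C : Fin r → Γ(Z, k ⁻¹ᵁ W)} {S : Γ(X, W)},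
      Rel k z W C S → Rel k z W (((-1 : ℤ) ^ j) • C) (((-1 : ℤ) ^ j) • S) := by
    intro j W C S h
    rcases neg_one_pow_eq_or ℤ j with e | e <;> rw [e]
    · simpa using h
    · simpa using relneg h
  have relcd : ∀ {m : ℕ} (C : ∀ y : Fin (m + 1) → κ,
        Fin r → Γ(Z, k ⁻¹ᵁ CohAff.inter (X := X.toPresheafedSpace.carrier) U y))
      (S : CohAff.Cochain (X := X.toPresheafedSpace.carrier) (ClSub.idealMod I).presheaf U m),
      (∀ y, Rel k z _ (C y) (idealSect I _ (S y))) → ∀ x : Fin (m + 2) → κ,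
      Rel k z _ (∑ j : Fin (m + 2), ((-1 : ℤ) ^ (j : ℕ)) •
          fun i => rres (k.preimage_mono (CohAff.inter_comp_le U x j.succAbove)) (C (x ∘ j.succAbove) i))
        (idealSect I _ (CohAff.cd (ClSub.idealMod I).presheaf U m S x)) := by
    intro m C S h x
    rw [CohAff.cd_apply, map_sum]
    refine relsum _ _ _ fun j => ?_
    rw [map_zsmul, app_idealSect_res']
    exact relsign _ ((h _).res _)
  let c' : Fin r → CohAff.Cochain (X := Z.toPresheafedSpace.carrier)
      (Coh.toAb (Coh.structureModule Z)).obj (fun a => k ⁻¹ᵁ U a) (n + 1) :=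
    fun i x => rres (le_preimage_inter x) (c x i)
  have hc' : ∀ i, CohAff.cd (Coh.toAb (Coh.structureModule Z)).obj _ (n + 1) (c' i) = 0 := by
    intro i
    funext x
    have h := relcd c s hc x
    rw [hs, Pi.zero_apply, map_zero] at h
    have e := congrFun (Rel.unique hI h (rel0 _)) i
    rw [Finset.sum_apply] at e
    have e' := congrArg (rres (le_preimage_inter (k := k) (U := U) x)) e
    rw [map_sum, Pi.zero_apply, map_zero] at e'
    rw [CohAff.cd_apply, Pi.zero_apply]
    refine Eq.trans (Finset.sum_congr rfl fun j _ => ?_) e'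
    rw [Pi.smul_apply, map_zsmul, rres_rres]
    refine congrArg (((-1 : ℤ) ^ (j : ℕ)) • ·) ?_
    exact rres_rres _ _ _
  choose t ht using fun i => hZ (c' i) (hc' i)
  have hlift : ∀ y : Fin (n + 1) → κ, ∃ b : Fin r → Γ(X, CohAff.inter (X := X.toPresheafedSpace.carrier) U y),
      ∀ i, k.app _ (b i) = rres (preimage_inter_le (k := k) (U := U) y) (t i y) :=
    fun y => exists_lifts k (haff y) _
  choose b hb using hlift
  have hsec : ∀ y, ∃ a : Γ(ClSub.idealMod I, CohAff.inter (X := X.toPresheafedSpace.carrier) U y),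
      idealSect I _ a = comb z _ (b y) := fun y =>
    exists_sect I _ _ (hI.app_comb _ (haff y) _)
  choose T hT using hsec
  refine ⟨T, funext fun x => idealSect_injective I _ ?_⟩
  have h1 := relcd (fun y i => k.app _ (b y i)) T (fun y => hT y ▸ rel_of_comb hI (b y)) x
  refine sect_ext fun V hV hVa => ?_
  obtain ⟨b', hb'⟩ := exists_lifts k hVa (fun i => rres (k.preimage_mono hV) (c x i))
  rw [hc x V hV hVa b' hb', h1 V hV hVa b' fun i => ?_]
  rw [hb' i]
  refine congrArg (rres (k.preimage_mono hV)) ?_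
  rw [Finset.sum_apply]
  have e := congrArg (rres (preimage_inter_le (k := k) (U := U) x)) (congrFun (ht i) x)
  rw [CohAff.cd_apply, map_sum] at e
  refine Eq.trans ?_ (Eq.trans e.symm (Finset.sum_congr rfl fun j _ => ?_))
  · exact ((rres_self le_rfl _).symm.trans (rres_rres _ _ _).symm)
  · rw [Pi.smul_apply, map_zsmul]
    refine congrArg (((-1 : ℤ) ^ (j : ℕ)) • ·) ?_
    show rres _ (rres _ (t i (x ∘ j.succAbove))) = rres _ (k.app _ (b (x ∘ j.succAbove) i))
    rw [hb, rres_rres, rres_rres]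

end Groth.Agent.LiftLib

end
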