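import Groth.Agent.InfLift.LocalLift
import Groth.Agent.GrpScheme.FlatFib.Scheme
import Mathlib.AlgebraicGeometry.AffineSpace
import Mathlib.RingTheory.Localization.Ideal
import Mathlib.RingTheory.Finiteness.Ideal

/-!
Lifts of maps of affine schemes carrying given ideals into given ideals, from local lifts.
-/

set_option autoImplicit false
set_option linter.style.haveILetI false

universe u

open CategoryTheory CategoryTheory.Limits AlgebraicGeometry

namespace Groth.Agent.LiftLib.IdealLift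

/-- Global functions along a map of a spectrum. -/
theorem appTop_specMap {R S : CommRingCat.{u}} (φ : R ⟶ S) (a : R) :
    (Spec.map φ).appTop ((Scheme.ΓSpecIso R).inv a) = (Scheme.ΓSpecIso S).inv (φ a) := by
  rw [← ConcreteCategory.comp_apply, ← ConcreteCategory.comp_apply,
    Scheme.ΓSpecIso_inv_naturality]

/-- Global functions of an affine scheme along a point with values in a ring. -/
theorem appTop_point {X : Scheme.{u}} [IsAffine X] {S : CommRingCat.{u}} (φ : Γ(X, ⊤) ⟶ S)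
    (a : Γ(X, ⊤)) :
    (Spec.map φ ≫ X.isoSpec.inv).appTop a = (Scheme.ΓSpecIso S).inv (φ a) := by
  have h : X.isoSpec.inv.appTop = (Scheme.ΓSpecIso Γ(X, ⊤)).inv := by
    haveI : IsIso X.isoSpec.hom.appTop := by
      rw [Scheme.isoSpec_hom, Scheme.toSpecΓ_appTop]; infer_instance
    rw [← cancel_mono X.isoSpec.hom.appTop, ← Scheme.Hom.comp_appTop, Iso.hom_inv_id,
      Scheme.isoSpec_hom, Scheme.toSpecΓ_appTop, Iso.inv_hom_id]
    rfl
  rw [Scheme.Hom.comp_appTop, h, ConcreteCategory.comp_apply, appTop_specMap]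

theorem inf_map_le {A L : Type u} [CommRing A] [CommRing L] [Algebra A L] (M : Submonoid A)
    [IsLocalization M L] (I J : Ideal A) :
    I.map (algebraMap A L) ⊓ J.map (algebraMap A L) ≤ (I ⊓ J).map (algebraMap A L) := by
  rintro z ⟨hzI, hzJ⟩
  obtain ⟨⟨⟨a, ha⟩, ⟨s, hs⟩⟩, hzs⟩ := (IsLocalization.mem_map_algebraMap_iff M L).1 hzI
  obtain ⟨⟨⟨b, hb⟩, ⟨t, ht⟩⟩, hzt⟩ := (IsLocalization.mem_map_algebraMap_iff M L).1 hzJ
  have he : algebraMap A L (a * t) = algebraMap A L (b * s) := by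
    rw [map_mul, map_mul, ← hzs, ← hzt]; ring
  obtain ⟨⟨c, hc⟩, hce⟩ := (IsLocalization.eq_iff_exists M L).1 he
  refine (IsLocalization.mem_map_algebraMap_iff M L).2
    ⟨⟨⟨c * (a * t), Ideal.mul_mem_left _ _ (Ideal.mul_mem_right _ _ ha), ?_⟩,
      ⟨c * (s * t), mul_mem hc (mul_mem hs ht)⟩⟩, ?_⟩
  · show c * (a * t) ∈ J
    rw [hce]
    exact Ideal.mul_mem_left _ _ (Ideal.mul_mem_right _ _ hb)
  · simp only [map_mul] at hzs ⊢
    rw [← hzs]; ring

variable {X₁ X₂ Sl : Scheme.{u}} [IsAffine X₁] [IsAffine X₂] {g₁ : X₁ ⟶ Sl} {g₂ : X₂ ⟶ Sl}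
  [LocallyOfFinitePresentation g₂]

set_option maxHeartbeats 1600000 in
/-- Local lifts carrying ideals into ideals give a global one. -/
theorem exists_lift (I : Ideal Γ(X₁, ⊤)) (hI : I ^ 2 = ⊥) {r : ℕ}
    (J₁ : Fin r → Ideal Γ(X₁, ⊤)) (J₂ : Fin r → Ideal Γ(X₂, ⊤))
    (h₁fg : ∀ m, (J₁ m).FG) (h₂fg : ∀ m, (J₂ m).FG)
    (hIJ : ∀ m, I ⊓ J₁ m ≤ I * J₁ m)
    (φ₀ : Γ(X₂, ⊤) →+* Γ(X₁, ⊤) ⧸ I)
    (hw : Spec.map (CommRingCat.ofHom (Ideal.Quotient.mk I)) ≫ X₁.isoSpec.inv ≫ g₁ =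
      Spec.map (CommRingCat.ofHom φ₀) ≫ X₂.isoSpec.inv ≫ g₂)
    (hJ₀ : ∀ m, (J₂ m).map φ₀ ≤ (J₁ m).map (Ideal.Quotient.mk I))
    (hloc : ∀ P : PrimeSpectrum Γ(X₁, ⊤), ∃ g ∉ P.asIdeal,
      ∃ φ : Γ(X₂, ⊤) →+* Localization.Away g,
        Spec.map (CommRingCat.ofHom φ) ≫ X₂.isoSpec.inv ≫ g₂ =
          Spec.map (CommRingCat.ofHom (algebraMap Γ(X₁, ⊤) (Localization.Away g))) ≫
            X₁.isoSpec.inv ≫ g₁ ∧
        (∀ a a', φ₀ a = Ideal.Quotient.mk I a' →
          φ a - algebraMap _ _ a' ∈ I.map (algebraMap _ (Localization.Away g))) ∧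
        ∀ m, (J₂ m).map φ ≤ (J₁ m).map (algebraMap _ (Localization.Away g))) :
    ∃ φ : Γ(X₂, ⊤) →+* Γ(X₁, ⊤),
      Spec.map (CommRingCat.ofHom φ) ≫ X₂.isoSpec.inv ≫ g₂ = X₁.isoSpec.inv ≫ g₁ ∧
      (Ideal.Quotient.mk I).comp φ = φ₀ ∧ ∀ m, (J₂ m).map φ ≤ J₁ m := by
  classical
  choose k s hs using fun m => Submodule.fg_iff_exists_fin_generating_family.1 (h₁fg m)
  choose l t ht using fun m => Submodule.fg_iff_exists_fin_generating_family.1 (h₂fg m)
  let τ := ULift.{u} (Σ m, Fin (l m))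
  let N := Σ m, Fin (l m) × Fin (k m)
  -- coefficients modulo `I`
  have hu : ∀ a : τ, ∃ u₀ : Fin (k a.down.1) → Γ(X₁, ⊤),
      φ₀ (t _ a.down.2) = Ideal.Quotient.mk I (∑ b, u₀ b * s a.down.1 b) := by
    intro a
    have h := hJ₀ a.down.1 (Ideal.mem_map_of_mem _
      (show t _ a.down.2 ∈ J₂ a.down.1 from ht a.down.1 ▸ Submodule.subset_span ⟨_, rfl⟩))
    obtain ⟨y, hy, hye⟩ := (Ideal.mem_map_iff_of_surjective _ Ideal.Quotient.mk_surjective).1 h
    rw [← hs a.down.1] at hy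
    obtain ⟨c, rfl⟩ := (Ideal.mem_span_range_iff_exists_fun).1 hy
    exact ⟨c, hye.symm⟩
  choose u₀ hu₀ using hu
  let B := MvPolynomial N Γ(X₁, ⊤)
  let y : Spec (CommRingCat.of B) ⟶ X₁ :=
    Spec.map (CommRingCat.ofHom MvPolynomial.C) ≫ X₁.isoSpec.inv
  let c : τ → B := fun a =>
    ∑ b, MvPolynomial.X (⟨a.down.1, a.down.2, b⟩ : N) * MvPolynomial.C (s a.down.1 b)
  let α := AffineSpace.homOfVector (y ≫ g₁)
    (fun a => (Scheme.ΓSpecIso (CommRingCat.of B)).inv (c a))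
  let β := AffineSpace.homOfVector g₂ fun a : τ => t a.down.1 a.down.2
  haveI : LocallyOfFinitePresentation β := by
    haveI : LocallyOfFinitePresentation (β ≫ (𝔸(τ; Sl) ↘ Sl)) := by
      rw [AffineSpace.homOfVector_over]; infer_instance
    exact GrpScheme.FlatFib.locallyOfFinitePresentation_of_comp β (𝔸(τ; Sl) ↘ Sl)
  haveI : LocallyOfFinitePresentation y := by
    haveI : LocallyOfFinitePresentation (Spec.map (CommRingCat.ofHom
        (MvPolynomial.C : Γ(X₁, ⊤) →+* B))) := by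
      rw [HasRingHomProperty.Spec_iff (P := @LocallyOfFinitePresentation)]
      exact RingHom.finitePresentation_algebraMap.2
        (inferInstance : Algebra.FinitePresentation Γ(X₁, ⊤) B)
    exact MorphismProperty.comp_mem @LocallyOfFinitePresentation _ _ ‹_› inferInstance
  let F := pullback.fst α β ≫ y
  haveI : LocallyOfFinitePresentation F :=
    MorphismProperty.comp_mem @LocallyOfFinitePresentation _ _
      (MorphismProperty.pullback_fst α β ‹_›) ‹_›
  -- points of `pullback α β`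
  have key : ∀ {D : Type u} [CommRing D] (Φ : B →+* D) (φ : Γ(X₂, ⊤) →+* D),
      Spec.map (CommRingCat.ofHom Φ) ≫ α =
        (Spec.map (CommRingCat.ofHom φ) ≫ X₂.isoSpec.inv) ≫ β ↔
      (Spec.map (CommRingCat.ofHom (Φ.comp MvPolynomial.C)) ≫ X₁.isoSpec.inv ≫ g₁ =
        Spec.map (CommRingCat.ofHom φ) ≫ X₂.isoSpec.inv ≫ g₂ ∧
      ∀ a : τ, Φ (c a) = φ (t a.down.1 a.down.2)) := by
    intro D _ Φ φ
    have h1 : ∀ a : τ, (Spec.map (CommRingCat.ofHom Φ) ≫ α).appTop (AffineSpace.coord Sl a) =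
        (Scheme.ΓSpecIso (CommRingCat.of D)).inv (Φ (c a)) := fun a => by
      rw [Scheme.Hom.comp_appTop, ConcreteCategory.comp_apply,
        AffineSpace.homOfVector_appTop_coord]
      exact appTop_specMap (CommRingCat.ofHom Φ) (c a)
    have h2 : ∀ a : τ, ((Spec.map (CommRingCat.ofHom φ) ≫ X₂.isoSpec.inv) ≫ β).appTop
          (AffineSpace.coord Sl a) =
        (Scheme.ΓSpecIso (CommRingCat.of D)).inv (φ (t a.down.1 a.down.2)) := fun a => by
      rw [Scheme.Hom.comp_appTop _ β, ConcreteCategory.comp_apply,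
        AffineSpace.homOfVector_appTop_coord]
      exact appTop_point (CommRingCat.ofHom φ) _
    have h3 : (Spec.map (CommRingCat.ofHom Φ) ≫ α) ≫ (𝔸(τ; Sl) ↘ Sl) =
        Spec.map (CommRingCat.ofHom (Φ.comp MvPolynomial.C)) ≫ X₁.isoSpec.inv ≫ g₁ := by
      rw [Category.assoc, AffineSpace.homOfVector_over, CommRingCat.ofHom_comp,
        Spec.map_comp_assoc, Category.assoc]
    have h4 : ((Spec.map (CommRingCat.ofHom φ) ≫ X₂.isoSpec.inv) ≫ β) ≫ (𝔸(τ; Sl) ↘ Sl) =
        Spec.map (CommRingCat.ofHom φ) ≫ X₂.isoSpec.inv ≫ g₂ := by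
      rw [Category.assoc, AffineSpace.homOfVector_over, Category.assoc]
    constructor
    · intro h
      refine ⟨by rw [← h3, ← h4, h], fun a => ?_⟩
      have h5 := (h1 a).symm.trans ((congrArg (fun m => Scheme.Hom.appTop m
        (AffineSpace.coord Sl a)) h).trans (h2 a))
      exact (ConcreteCategory.bijective_of_isIso _).1 h5
    · rintro ⟨ha, hb⟩
      refine AffineSpace.hom_ext (by rw [h3, h4, ha]) fun a => ?_
      rw [h1, h2, hb]
  have hΦc : ∀ {D : Type u} [CommRing D] (χ : Γ(X₁, ⊤) →+* D) (v : N → D) (a : τ),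
      MvPolynomial.eval₂Hom χ v (c a) = ∑ b, v ⟨a.down.1, a.down.2, b⟩ * χ (s a.down.1 b) := by
    intro D _ χ v a
    simp only [c, map_sum, map_mul, MvPolynomial.eval₂Hom_X', MvPolynomial.eval₂Hom_C]
  let Φ₀ := MvPolynomial.eval₂Hom (Ideal.Quotient.mk I)
    (fun ν : N => Ideal.Quotient.mk I (u₀ (ULift.up ⟨ν.1, ν.2.1⟩) ν.2.2))
  have h₀ := (key Φ₀ φ₀).2 ⟨by
    rw [show Φ₀.comp MvPolynomial.C = Ideal.Quotient.mk I from MvPolynomial.eval₂Hom_comp_C _ _]
    exact hw, fun a => by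
    rw [hΦc, hu₀ a, map_sum]
    exact Finset.sum_congr rfl fun b _ => (map_mul _ _ _).symm⟩
  let a₀ := pullback.lift _ _ h₀
  have hwF : Spec.map (CommRingCat.ofHom (Ideal.Quotient.mk I)) ≫ X₁.isoSpec.inv = a₀ ≫ F := by
    rw [pullback.lift_fst_assoc, ← Spec.map_comp_assoc, ← CommRingCat.ofHom_comp,
      show Φ₀.comp MvPolynomial.C = Ideal.Quotient.mk I from MvPolynomial.eval₂Hom_comp_C _ _]
  obtain ⟨L, hL₀, hLF⟩ := InfLift.LocalLift.exists_lift_of_local F (b := X₁.isoSpec.inv) hI hwF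
    (fun P => by
      obtain ⟨g, hg, φ, hφw, hφ₀, hφJ⟩ := hloc P
      refine ⟨g, hg, ?_⟩
      let alg := algebraMap Γ(X₁, ⊤) (Localization.Away g)
      have hv : ∀ a : τ, ∃ v : Fin (k a.down.1) → Localization.Away g,
          φ (t _ a.down.2) = ∑ b, v b * alg (s a.down.1 b) ∧
            ∀ b, v b - alg (u₀ a b) ∈ I.map alg := by
        intro a
        let z := φ (t _ a.down.2) - alg (∑ b, u₀ a b * s a.down.1 b)
        have hzI : z ∈ I.map alg := hφ₀ _ _ (hu₀ a)
        have hspan : (J₁ a.down.1).map alg = Ideal.span (Set.range fun b => alg (s a.down.1 b)) := by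
          rw [← hs a.down.1, ← Ideal.span, Ideal.map_span, ← Set.range_comp]
          rfl
        have hzJ : z ∈ (J₁ a.down.1).map alg := by
          refine sub_mem (hφJ _ (Ideal.mem_map_of_mem _ ?_)) (Ideal.mem_map_of_mem _ ?_)
          · rw [← ht a.down.1]; exact Submodule.subset_span ⟨_, rfl⟩
          · rw [← hs a.down.1]
            exact sum_mem fun b _ => Submodule.smul_mem _ _ (Submodule.subset_span ⟨b, rfl⟩)
        have hz : z ∈ I.map alg * (J₁ a.down.1).map alg := by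
          rw [← Ideal.map_mul]
          exact Ideal.map_mono (hIJ _) (inf_map_le (Submonoid.powers g) _ _ ⟨hzI, hzJ⟩)
        rw [hspan, ← smul_eq_mul, Ideal.span, Submodule.mem_ideal_smul_span_iff_exists_sum] at hz
        obtain ⟨w, hwI, hwz⟩ := hz
        refine ⟨fun b => alg (u₀ a b) + w b, ?_, fun b => by
          simpa using hwI b⟩
        rw [Finsupp.sum_fintype _ _ (by simp)] at hwz
        simp only [smul_eq_mul, z, map_sum, map_mul] at hwz
        simp only [add_mul, Finset.sum_add_distrib, hwz, add_sub_cancel]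
      choose v hv hvI using hv
      let Φ := MvPolynomial.eval₂Hom alg (fun ν : N => v (ULift.up ⟨ν.1, ν.2.1⟩) ν.2.2)
      have hm := (key Φ φ).2 ⟨by
        rw [show Φ.comp MvPolynomial.C = alg from MvPolynomial.eval₂Hom_comp_C _ _]
        exact hφw.symm, fun a => by rw [hΦc, hv a]⟩
      refine ⟨pullback.lift _ _ hm, ?_, ?_⟩
      · rw [pullback.lift_fst_assoc, ← Spec.map_comp_assoc, ← CommRingCat.ofHom_comp,
          show Φ.comp MvPolynomial.C = alg from MvPolynomial.eval₂Hom_comp_C _ _]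
      · refine pullback.hom_ext ?_ ?_
        · simp only [Category.assoc, pullback.lift_fst, a₀, ← Spec.map_comp, ← CommRingCat.ofHom_comp]
          congr 2
          refine MvPolynomial.ringHom_ext (fun x => ?_) (fun ν => ?_)
          · simp only [RingHom.comp_apply, Φ, Φ₀, MvPolynomial.eval₂Hom_C,
              Ideal.quotientMap_mk]
            rfl
          · simp only [RingHom.comp_apply, Φ, Φ₀, MvPolynomial.eval₂Hom_X',
              Ideal.quotientMap_mk]
            exact Ideal.Quotient.eq.2 (hvI _ _)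
        · simp only [Category.assoc, pullback.lift_snd, a₀, ← Spec.map_comp_assoc,
            ← CommRingCat.ofHom_comp]
          congr 3
          refine RingHom.ext fun x => ?_
          obtain ⟨x', hx'⟩ := Ideal.Quotient.mk_surjective (φ₀ x)
          rw [RingHom.comp_apply, RingHom.comp_apply, ← hx', Ideal.quotientMap_mk]
          exact Ideal.Quotient.eq.2 (hφ₀ _ _ hx'.symm))
  obtain ⟨Φ, hΦ⟩ := Spec.map_surjective (L ≫ pullback.fst α β)
  obtain ⟨φ, hφ⟩ := Spec.map_surjective (L ≫ pullback.snd α β ≫ X₂.isoSpec.hom)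
  have hsnd : L ≫ pullback.snd α β = Spec.map φ ≫ X₂.isoSpec.inv := by
    rw [hφ, Category.assoc, Category.assoc, Iso.hom_inv_id, Category.comp_id]
  have hcond : Spec.map (CommRingCat.ofHom Φ.hom) ≫ α =
      (Spec.map (CommRingCat.ofHom φ.hom) ≫ X₂.isoSpec.inv) ≫ β := by
    rw [CommRingCat.ofHom_hom, CommRingCat.ofHom_hom, hΦ, ← hsnd, Category.assoc, Category.assoc,
      pullback.condition]
  have hΦC : Φ.hom.comp MvPolynomial.C = RingHom.id _ := by
    have h : Spec.map (CommRingCat.ofHom MvPolynomial.C ≫ Φ) ≫ X₁.isoSpec.inv =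
        𝟙 _ ≫ X₁.isoSpec.inv := by
      rw [Category.id_comp, Spec.map_comp_assoc, hΦ, Category.assoc]; exact hLF
    rw [cancel_mono, ← Spec.map_id] at h
    exact congrArg CommRingCat.Hom.hom (Spec.map_injective h)
  obtain ⟨hover, hrel⟩ := (key Φ.hom φ.hom).1 hcond
  refine ⟨φ.hom, ?_, ?_, fun m => ?_⟩
  · rw [← hover, hΦC, CommRingCat.ofHom_id, Spec.map_id, Category.id_comp]
  · have h : Spec.map (φ ≫ CommRingCat.ofHom (Ideal.Quotient.mk I)) ≫ X₂.isoSpec.inv =
        Spec.map (CommRingCat.ofHom φ₀) ≫ X₂.isoSpec.inv := by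
      rw [Spec.map_comp_assoc, ← hsnd, reassoc_of% hL₀, pullback.lift_snd]
    rw [cancel_mono] at h
    exact congrArg CommRingCat.Hom.hom (Spec.map_injective h)
  · rw [← ht m, ← Ideal.span, Ideal.map_span, Ideal.span_le]
    rintro _ ⟨_, ⟨a, rfl⟩, rfl⟩
    rw [← hrel (ULift.up ⟨m, a⟩)]
    simp only [c, map_sum, map_mul, ← RingHom.comp_apply, hΦC, RingHom.id_apply]
    refine sum_mem fun b _ => Ideal.mul_mem_left _ _ ?_
    rw [← hs m]
    exact Submodule.subset_span ⟨b, rfl⟩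

end Groth.Agent.LiftLib.IdealLift
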