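import Groth.Agent.UnitsThick.PicIso
import Groth.Agent.UnitsThick.LES
import Mathlib.Dynamics.Newton
import Mathlib.FieldTheory.IsAlgClosed.Basic
import Mathlib.RingTheory.Artinian.Module

/-! # Unique divisibility of the kernel of restriction of Picard groups to a nilpotent closed subscheme -/

set_option autoImplicit false
set_option linter.style.haveILetI false
set_option backward.isDefEq.respectTransparency false
set_option backward.isDefEq.respectTransparency.types false

universe u

open CategoryTheory CategoryTheory.Limits AlgebraicGeometry Opposite TopologicalSpace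

noncomputable section

namespace Groth.Agent.LiftLib.KerDiv

open Groth.Agent.UnitsThick Groth.Agent.PicUnits Groth.Agent.CohTop.SubStalk Groth.Agent.CohTop.Vanishing
  Groth.Agent.CohTop.Basic

section Algebra

open Polynomial in
theorem existsUnique_root {S : Type*} [CommRing S] {q : ℕ} (hq : 1 ≤ q) (hqu : IsUnit (q : S)) {u x : S}
    (hu : IsUnit u) (h : IsNilpotent (x ^ q - u)) : ∃! r, IsNilpotent (x - r) ∧ r ^ q = u := by
  have hx : IsUnit (x ^ q) := by
    have := h.isUnit_add_left_of_commute hu (Commute.all _ _)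
    rwa [add_sub_cancel] at this
  have hx' : IsUnit x := (isUnit_pow_iff (Nat.one_le_iff_ne_zero.mp hq)).mp hx
  have key := Polynomial.existsUnique_nilpotent_sub_and_aeval_eq_zero (R := S) (S := S)
    (P := X ^ q - C u) (x := x) (by simpa using h) (by
      simpa [derivative_X_pow] using hqu.mul (hx'.pow (q - 1)))
  simpa [sub_eq_zero] using key

theorem root_unique {S : Type*} [CommRing S] {q : ℕ} (hq : 1 ≤ q) (hqu : IsUnit (q : S)) {y : S}
    (h : IsNilpotent (y - 1)) (h1 : y ^ q = 1) : y = 1 := by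
  obtain ⟨r, -, hr⟩ := existsUnique_root hq hqu (u := (1 : S)) (x := 1) isUnit_one (by simp)
  have h2 : IsNilpotent ((1 : S) - y) := by
    have := h.neg
    rwa [neg_sub] at this
  exact (hr y ⟨h2, h1⟩).trans (hr 1 ⟨by simp, one_pow q⟩).symm

/-- Units of a finite algebra over an algebraically closed field have roots of order prime to the
characteristic. -/
theorem exists_root_of_finite {k A : Type u} [Field k] [IsAlgClosed k] [CommRing A] [Algebra k A]
    [Module.Finite k A] {q : ℕ} (hq : 1 ≤ q) (hqk : (q : k) ≠ 0) {u : A} (hu : IsUnit u) :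
    ∃ r, r ^ q = u := by
  haveI : IsArtinianRing A := IsArtinianRing.of_finite k A
  let B := A ⧸ nilradical A
  let mk : A →+* B := Ideal.Quotient.mk (nilradical A)
  haveI : IsReduced B := (Ideal.isRadical_iff_quotient_reduced (nilradical A)).mp
    (Ideal.radical_isRadical (⊥ : Ideal A))
  haveI : IsArtinianRing B := Function.Surjective.isArtinianRing (f := mk) Ideal.Quotient.mk_surjective
  let e := IsArtinianRing.equivPi B
  have hcomp : ∀ I : MaximalSpectrum B, ∀ t : B ⧸ I.asIdeal, ∃ r, r ^ q = t := fun I t => by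
    letI := Ideal.Quotient.field I.asIdeal
    haveI : Algebra.IsIntegral k (B ⧸ I.asIdeal) := inferInstance
    obtain ⟨c, rfl⟩ :=
      (IsAlgClosed.algebraMap_bijective_of_isIntegral (k := k) (K := B ⧸ I.asIdeal)).2 t
    obtain ⟨z, hz⟩ := IsAlgClosed.exists_pow_nat_eq c hq
    exact ⟨algebraMap k _ z, by rw [← map_pow, hz]⟩
  choose r hr using fun I => hcomp I (e (mk u) I)
  obtain ⟨x, hx⟩ := Ideal.Quotient.mk_surjective (e.symm r)
  have h : IsNilpotent (x ^ q - u) := by
    rw [← mem_nilradical, ← Ideal.Quotient.eq]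
    apply e.injective
    rw [map_pow, map_pow, hx, AlgEquiv.apply_symm_apply]
    funext I
    exact hr I
  have hqu : IsUnit (q : A) := by
    rw [← map_natCast (algebraMap k A)]
    exact (Ne.isUnit hqk).map _
  obtain ⟨z, hz, -⟩ := existsUnique_root hq hqu hu h
  exact ⟨z, hz.2⟩

end Algebra

section Sheaf

variable {Y Z : Scheme.{u}} (i : Z ⟶ Y) (q : ℕ)

lemma val_nsmul {T : Scheme.{u}} {U : T.Opens} (n : ℕ) (s : (UnitsSh.unitsAb T).obj.obj (op U)) :
    val (n • s) = val s ^ n := by
  induction n with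
  | zero => rw [zero_nsmul, pow_zero]; exact val_zero
  | succ n ih =>
    rw [succ_nsmul, pow_succ, ← ih]
    exact congrArg Units.val (UnitsSh.unitOfSect_add _ _)

lemma nsmul_app {T : TopCat.{u}} {F G : CohTop.Ab T} (φ : F ⟶ G) (n : ℕ) {U : Opens T}
    (s : F.obj.obj (op U)) : ((n • φ).hom.app (op U)).hom s = n • (φ.hom.app (op U)).hom s := by
  induction n with
  | zero => rw [zero_nsmul, zero_nsmul]; rfl
  | succ n ih =>
    rw [succ_nsmul, succ_nsmul, ← ih]
    rfl

lemma H_nsmul {T : TopCat.{u}} {F : CohTop.Ab T} (m : ℕ) (n : ℕ) (c : Sheaf.H F m) :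
    Sheaf.H.map (n • 𝟙 F) m c = n • c := by
  induction n with
  | zero =>
    rw [zero_nsmul, zero_nsmul, Sheaf.H.map_apply, Abelian.Ext.mk₀_zero]
    exact Abelian.Ext.comp_zero (Y := F) c _ 0 _ (add_zero m)
  | succ n ih =>
    rw [succ_nsmul, succ_nsmul, ← ih, Sheaf.H.map_apply, Sheaf.H.map_apply, Abelian.Ext.mk₀_add,
      Abelian.Ext.comp_add]
    congr 1
    exact Sheaf.H.map_id_apply c

variable (hsurj : ∀ W : Y.Opens, IsAffineOpen W → Function.Surjective (i.app W).hom)
  (hnil : ∀ W : Y.Opens, IsAffineOpen W → ∀ a : Γ(Y, W), i.app W a = 0 → IsNilpotent a)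
  (hq : 1 ≤ q) (hqu : IsUnit (q : Γ(Y, ⊤)))

include hqu in
lemma isUnit_q (W : Y.Opens) : IsUnit (q : Γ(Y, W)) := by
  have := hqu.map (Y.presheaf.map (homOfLE (le_top : W ≤ ⊤)).op).hom
  rwa [map_natCast] at this

include hnil hq hqu in
lemma injective_K_nsmul (U : Y.Opens) (s : (K i).obj.obj (op U)) (h : q • s = 0) : s = 0 := by
  let t := ((kernel.ι (UnitsSh.comap i)).hom.app (op U)).hom s
  have h1 : q • t = 0 := by
    change q • ((kernel.ι (UnitsSh.comap i)).hom.app (op U)).hom s = 0
    rw [← map_nsmul, h, map_zero]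
  have h2 : val t ^ q = 1 := by rw [← val_nsmul, h1]; exact val_zero
  have h3 : i.app U (val t - 1) = 0 := (comap_eq_zero_iff i t).1 (kernel_ι_app_zero _ _ s)
  apply kernel_ι_injective (φ := UnitsSh.comap i)
  rw [map_zero]
  apply val_injective
  refine (?_ : val t = 1).trans val_zero.symm
  refine TopCat.Presheaf.section_ext Y.sheaf U (val t) 1 fun x hx => ?_
  obtain ⟨W, hW, hxW, hWU⟩ := exists_affine (X := Y) hx
  let rs' := (Y.presheaf.map (homOfLE hWU).op).hom
  suffices rs' (val t) = 1 by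
    have h5 := congrArg (Y.presheaf.germ W x hxW) this
    erw [TopCat.Presheaf.germ_res_apply'] at h5
    rw [map_one] at h5
    exact h5.trans (map_one (Y.presheaf.germ U x hx).hom).symm
  refine root_unique hq (isUnit_q q hqu W) (hnil W hW _ ?_) ?_
  · have h4 : rs' (val t) - 1 = rs' (val t - 1) := by rw [map_sub, map_one]
    rw [h4]
    change i.app W (Y.presheaf.map (homOfLE hWU).op (val t - 1)) = 0
    rw [show i.app W (Y.presheaf.map (homOfLE hWU).op (val t - 1)) = _ from
      congr($(i.naturality (homOfLE hWU).op) (val t - 1))]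
    change Z.presheaf.map _ (i.app U (val t - 1)) = 0
    rw [h3, map_zero]
  · rw [← map_pow, h2, map_one]

include hnil hq hqu in
theorem isIso_nsmul_K : IsIso (q • 𝟙 (K i)) := by
  haveI : Mono (q • 𝟙 (K i)) := by
    haveI : ∀ U, Mono ((q • 𝟙 (K i)).hom.app U) := fun U =>
      ConcreteCategory.mono_of_injective _ ((injective_iff_map_eq_zero _).2 fun s hs => by
        refine injective_K_nsmul i q hnil hq hqu U.unop s ?_
        have := nsmul_app (𝟙 (K i)) q (U := U.unop) s
        exact (this.symm.trans hs))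
    haveI : Mono (q • 𝟙 (K i)).hom := NatTrans.mono_of_mono_app _
    exact Sheaf.Hom.mono_of_presheaf_mono _ _ _
  haveI : Epi (q • 𝟙 (K i)) := by
    refine epi_of_locally _ fun U t x hx => ?_
    obtain ⟨W, hW, hxW, hWU⟩ := exists_affine (X := Y) hx
    let t' := rs (K i) hWU t
    let t₀ := ((kernel.ι (UnitsSh.comap i)).hom.app (op W)).hom t'
    have hker : i.app W (val t₀ - 1) = 0 := (comap_eq_zero_iff i t₀).1 (kernel_ι_app_zero _ _ t')
    have hn : IsNilpotent ((1 : Γ(Y, W)) ^ q - val t₀) := by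
      have := (hnil W hW _ hker).neg
      rwa [neg_sub, ← one_pow q] at this
    obtain ⟨r, ⟨hr1, hr2⟩, -⟩ := existsUnique_root hq (isUnit_q q hqu W)
      (UnitsSh.unitOfSect t₀).isUnit hn
    have hru : IsUnit r := by
      refine (isUnit_pow_iff (Nat.one_le_iff_ne_zero.mp hq)).mp ?_
      rw [hr2]; exact (UnitsSh.unitOfSect t₀).isUnit
    have hir : i.app W (r - 1) = 0 := by
      have h1 : IsNilpotent (i.app W r - 1) := by
        have := (hr1.map (i.app W).hom).neg
        rwa [← map_neg, neg_sub, map_sub, map_one] at this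
      have h2 : i.app W r ^ q = 1 := by
        rw [← map_pow, hr2]
        rw [map_sub, map_one, sub_eq_zero] at hker
        exact hker
      have hquZ : IsUnit (q : Γ(Z, i ⁻¹ᵁ W)) := by
        have := (isUnit_q q hqu W).map (i.app W).hom
        rwa [map_natCast] at this
      rw [map_sub, map_one, sub_eq_zero]
      exact root_unique hq hquZ h1 h2
    obtain ⟨a, ha⟩ := exists_kernel_section (UnitsSh.comap i) W (UnitsSh.sectOfUnit hru.unit) (by
      rw [comap_eq_zero_iff]
      exact hir)
    refine ⟨W, hWU, hxW, a, ?_⟩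
    apply kernel_ι_injective (φ := UnitsSh.comap i) (U := W)
    rw [nsmul_app]
    change ((kernel.ι (UnitsSh.comap i)).hom.app (op W)).hom (q • a) = t₀
    rw [map_nsmul, ha]
    apply val_injective
    rw [val_nsmul]
    exact hr2
  exact isIso_of_mono_of_epi _

include hnil hq hqu in
theorem bijective_nsmul_H (m : ℕ) : Function.Bijective fun c : Sheaf.H (K i) m => q • c := by
  haveI := isIso_nsmul_K i q hnil hq hqu
  have e : (fun c : Sheaf.H (K i) m => q • c) = fun c => Sheaf.H.map (q • 𝟙 (K i)) m c :=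
    funext fun c => (H_nsmul m q c).symm
  rw [e]
  refine ⟨fun a b h => ?_, fun b => ⟨Sheaf.H.map (inv (q • 𝟙 (K i))) m b, ?_⟩⟩
  · have := congrArg (Sheaf.H.map (inv (q • 𝟙 (K i))) m) h
    simpa only [← Sheaf.H.map_comp_apply, IsIso.hom_inv_id, Sheaf.H.map_id_apply] using this
  · simp only [← Sheaf.H.map_comp_apply, IsIso.inv_hom_id, Sheaf.H.map_id_apply]

include hsurj hnil hq hqu in
/-- The kernel of the restriction of Picard groups is uniquely `q`-divisible. -/
theorem ker_divisible [IsClosedImmersion i] [PicGrp.Law Y] [PicGrp.Law Z] (h : PicGrp.PullMul i)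
    (hdiv : ∀ u : Γ(Z, ⊤), IsUnit u → ∃ r, r ^ q = u) :
    (∀ x, PicGrp.pullHom i h x = 1 → ∃ d, PicGrp.pullHom i h d = 1 ∧ d ^ q = x) ∧
      ∀ x, PicGrp.pullHom i h x = 1 → x ^ q = 1 → x = 1 := by
  haveI := epi_comap i hsurj hnil
  have hS : (ShortComplex.mk (kernel.ι (UnitsSh.comap i)) (UnitsSh.comap i) (kernel.condition _)).ShortExact :=
    ShortComplex.ShortExact.mk' (ShortComplex.exact_kernel _) inferInstance inferInstance
  have hlift : ∀ x, PicGrp.pullHom i h x = 1 →
      ∃ k, (psiX Y (Sheaf.H.map (kernel.ι (UnitsSh.comap i)) 1 k)).toMul = x := by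
    intro x hx
    obtain ⟨c, hc⟩ := (psiX_bijective Y).2 (Additive.ofMul x)
    have h0 : Sheaf.H.map (UnitsSh.comap i) 1 c = 0 := by
      refine (psi_bijective i).1 ?_
      apply Additive.toMul.injective
      rw [map_zero, psi_comap i h c, hc]
      exact hx
    obtain ⟨k, hk⟩ := LES.exact₂ hS 1 c h0
    exact ⟨k, by rw [show Sheaf.H.map (kernel.ι (UnitsSh.comap i)) 1 k = c from hk, hc]; rfl⟩
  have hbij := bijective_nsmul_H i q hnil hq hqu 1
  constructor
  · intro x hx
    obtain ⟨k, hk⟩ := hlift x hx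
    obtain ⟨l, hl⟩ := hbij.2 k
    refine ⟨(psiX Y (Sheaf.H.map (kernel.ι (UnitsSh.comap i)) 1 l)).toMul, ?_, ?_⟩
    · rw [← psi_comap i h, LES.map_g_map_f (S := ShortComplex.mk _ _ (kernel.condition (UnitsSh.comap i)))
        1 l, map_zero]
      rfl
    · rw [← toMul_nsmul, ← map_nsmul, ← map_nsmul, show q • l = k from hl]
      exact hk
  · intro x hx hxq
    obtain ⟨k, rfl⟩ := hlift x hx
    rw [← toMul_nsmul, ← map_nsmul, ← map_nsmul] at hxq
    have h1 : Sheaf.H.map (kernel.ι (UnitsSh.comap i)) 1 (q • k) = 0 := by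
      refine (psiX_bijective Y).1 ?_
      apply Additive.toMul.injective
      rw [map_zero]
      exact hxq
    obtain ⟨w, hw⟩ := LES.exact₁ hS 0 (q • k) h1
    let e := Sheaf.H.equiv₀ (P i) isTerminalTop
    let s : (UnitsSh.unitsAb Z).obj.obj (op (i ⁻¹ᵁ (⊤ : Y.Opens))) := e w
    obtain ⟨r, hr⟩ := hdiv (val s) (UnitsSh.unitOfSect s).isUnit
    have hru : IsUnit r := by
      refine (isUnit_pow_iff (Nat.one_le_iff_ne_zero.mp hq)).mp ?_
      rw [hr]; exact (UnitsSh.unitOfSect s).isUnit
    let v' : (UnitsSh.unitsAb Z).obj.obj (op (i ⁻¹ᵁ (⊤ : Y.Opens))) := UnitsSh.sectOfUnit hru.unit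
    have hv' : q • v' = s := by
      apply val_injective
      rw [val_nsmul]
      exact hr
    have hwv : q • e.symm v' = w := by
      rw [← map_nsmul]
      apply e.injective
      rw [AddEquiv.apply_symm_apply]
      exact hv'
    have h2 : LES.δ hS 0 (e.symm v') = k := by
      refine hbij.1 ?_
      change q • LES.δ hS 0 (e.symm v') = q • k
      rw [← map_nsmul, hwv, hw]
    rw [← h2, show Sheaf.H.map (kernel.ι (UnitsSh.comap i)) 1 (LES.δ hS 0 (e.symm v')) = 0 from
      LES.map_f_δ hS 0 _, map_zero]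
    rfl

end Sheaf

end Groth.Agent.LiftLib.KerDiv
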