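import Groth.Agent.LiftLib.KerDivisible
import Groth.Agent.VarBC.H0
import Mathlib.FieldTheory.PurelyInseparable.Basic

/-! # Torsion in the kernel of restriction of Picard groups to a geometrically connected closed fibre -/

set_option autoImplicit false
set_option linter.style.haveILetI false
set_option backward.isDefEq.respectTransparency false
set_option backward.isDefEq.respectTransparency.types false

universe u

open CategoryTheory CategoryTheory.Limits AlgebraicGeometry Opposite TopologicalSpace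

noncomputable section

namespace Groth.Agent.LiftLib.KerDiv

open Groth.Agent.UnitsThick Groth.Agent.PicUnits Groth.Agent.CohTop.SubStalk Groth.Agent.CohTop.Vanishing
  Groth.Agent.CohTop.Basic

open scoped TensorProduct in
/-- In a finite algebra which is connected after extension to an algebraic closure, every unit is a
constant times a power, for exponents prime to the characteristic. -/
theorem exists_pow_mul_const {k A K : Type u} [Field k] [CommRing A] [Nontrivial A] [Algebra k A]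
    [Module.Finite k A] [Field K] [Algebra k K] [IsAlgClosed K]
    (hid : ∀ e : K ⊗[k] A, IsIdempotentElem e → e = 0 ∨ e = 1) {q : ℕ} (hq : 1 ≤ q)
    (hqk : (q : k) ≠ 0) {u : A} (hu : IsUnit u) :
    ∃ (r : A) (c : k), c ≠ 0 ∧ u = r ^ q * algebraMap k A c := by
  have hidA : ∀ e : A, IsIdempotentElem e → e = 0 ∨ e = 1 := fun e he => by
    have hinj : Function.Injective (Algebra.TensorProduct.includeRight : A →ₐ[k] K ⊗[k] A) :=
      Algebra.TensorProduct.includeRight_injective (algebraMap k K).injective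
    refine (hid _ (he.map (Algebra.TensorProduct.includeRight : A →ₐ[k] K ⊗[k] A))).imp (fun h => ?_)
      (fun h => ?_)
    · exact hinj (h.trans (map_zero _).symm)
    · exact hinj (h.trans (map_one _).symm)
  haveI hprime : (nilradical A).IsPrime :=
    VarBC.H0.isPrime_nilradical_of_unit_or_nilpotent
      (VarBC.H0.isUnit_or_isNilpotent (L := k) hidA)
  haveI : IsArtinianRing A := IsArtinianRing.of_finite k A
  haveI : (nilradical A).IsMaximal := IsArtinianRing.isMaximal_of_isPrime (nilradical A)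
  letI := Ideal.Quotient.field (nilradical A)
  let mk := Ideal.Quotient.mkₐ k (nilradical A)
  haveI : Module.Finite k (A ⧸ nilradical A) :=
    Module.Finite.of_surjective mk.toLinearMap Ideal.Quotient.mk_surjective
  haveI : Algebra.IsAlgebraic k (A ⧸ nilradical A) := Algebra.IsAlgebraic.of_finite k _
  haveI hss : Subsingleton ((A ⧸ nilradical A) →ₐ[k] K) := ⟨fun σ τ => AlgHom.ext fun b => by
    obtain ⟨a, rfl⟩ := Ideal.Quotient.mk_surjective b
    let ev : ((A ⧸ nilradical A) →ₐ[k] K) → ((K ⊗[k] A) →ₐ[K] K) := fun ρ =>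
      Algebra.TensorProduct.lift (AlgHom.id K K) (ρ.comp mk) fun _ _ => Commute.all _ _
    let t : K ⊗[k] A := 1 ⊗ₜ[k] a - σ (mk a) ⊗ₜ[k] 1
    have hev : ∀ ρ, ev ρ t = ρ (mk a) - σ (mk a) := fun ρ => by
      simp [ev, t]
    rcases VarBC.H0.isUnit_or_isNilpotent (L := K) hid t with ht | ht
    · have := ht.map (ev σ)
      rw [hev, sub_self] at this
      exact (not_isUnit_zero this).elim
    · have := (ht.map (ev τ)).eq_zero
      rw [hev, sub_eq_zero] at this
      exact this.symm⟩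
  haveI : Unique ((A ⧸ nilradical A) →ₐ[k] K) := uniqueOfSubsingleton IsAlgClosed.lift
  haveI : IsPurelyInseparable k (A ⧸ nilradical A) := isPurelyInseparable_of_finSepDegree_eq_one
    (by rw [Field.finSepDegree_eq_of_isAlgClosed k _ K, Nat.card_unique])
  obtain ⟨e, he⟩ : ∃ e, ExpChar k e := ExpChar.exists k
  obtain ⟨m, c, hc⟩ := IsPurelyInseparable.pow_mem k e (mk u)
  have hcop : Nat.Coprime q (e ^ m) := by
    cases he with
    | zero => rw [one_pow]; exact Nat.coprime_one_right q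
    | prime hp =>
      refine Nat.Coprime.pow_right _ (Nat.Coprime.symm ?_)
      rw [hp.coprime_iff_not_dvd]
      intro hdvd
      exact hqk ((CharP.cast_eq_zero_iff k e q).2 hdvd)
  have hc0 : c ≠ 0 := by
    rintro rfl
    rw [map_zero] at hc
    exact ((hu.map mk).pow _).ne_zero hc.symm
  have hqA : IsUnit (q : A) := by
    rw [← map_natCast (algebraMap k A)]
    exact (Ne.isUnit hqk).map _
  obtain ⟨U, rfl⟩ := hu
  let Cu : Aˣ := Units.map (algebraMap k A).toMonoidHom (Units.mk0 c hc0)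
  have hn : IsNilpotent ((1 : A) ^ q - ((U ^ (e ^ m) * Cu⁻¹ : Aˣ) : A)) := by
    rw [← mem_nilradical, ← Ideal.Quotient.eq, one_pow, map_one, Units.val_mul, map_mul,
      Units.val_pow_eq_pow_val, map_pow, show Ideal.Quotient.mk (nilradical A) (U : A) ^ e ^ m =
        Ideal.Quotient.mk (nilradical A) (Cu : A) from hc.symm,
      ← map_mul, Units.mul_inv, map_one]
  obtain ⟨s, ⟨-, hs⟩, -⟩ := existsUnique_root hq hqA (Units.isUnit _) hn
  have hsu : IsUnit s := by
    refine (isUnit_pow_iff (Nat.one_le_iff_ne_zero.mp hq)).mp ?_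
    rw [hs]; exact Units.isUnit _
  obtain ⟨S, rfl⟩ := hsu
  have hS : S ^ q = U ^ (e ^ m) * Cu⁻¹ := Units.ext (by rw [Units.val_pow_eq_pow_val]; exact hs)
  obtain ⟨a, b, hab⟩ : ∃ a b : ℤ, a * q + b * (e ^ m : ℕ) = 1 :=
    Int.isCoprime_iff_gcd_eq_one.2 (by rw [Int.gcd_natCast_natCast]; exact hcop)
  refine ⟨((U ^ a * S ^ b : Aˣ) : A), ((Units.mk0 c hc0 ^ b : kˣ) : k), Units.ne_zero _, ?_⟩
  have key : U = (U ^ a * S ^ b) ^ q * Cu ^ b := by
    have h1 : U ^ (e ^ m) = S ^ q * Cu := by rw [hS, inv_mul_cancel_right]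
    calc U = U ^ (a * q + b * (e ^ m : ℕ)) := by rw [hab, zpow_one]
      _ = (U ^ a) ^ q * (U ^ (e ^ m)) ^ b := by
        rw [zpow_add, zpow_mul, zpow_natCast, mul_comm b, zpow_mul, zpow_natCast]
      _ = (U ^ a) ^ q * ((S ^ b) ^ q * Cu ^ b) := by
        rw [h1, mul_zpow, ← zpow_natCast S, ← zpow_natCast (S ^ b), ← zpow_mul, ← zpow_mul, mul_comm (b)]
      _ = _ := by rw [mul_pow, mul_assoc]
  have h2 := congrArg Units.val key
  rw [Units.val_mul, Units.val_pow_eq_pow_val] at h2
  refine h2.trans (congrArg (fun z => ((U ^ a * S ^ b : Aˣ) : A) ^ q * z) ?_)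
  show ((Units.map (algebraMap k A).toMonoidHom (Units.mk0 c hc0)) ^ b : Aˣ).val = _
  rw [← map_zpow]
  rfl

variable {Y Z : Scheme.{u}} (i : Z ⟶ Y) (q : ℕ)
  (hsurj : ∀ W : Y.Opens, IsAffineOpen W → Function.Surjective (i.app W).hom)
  (hnil : ∀ W : Y.Opens, IsAffineOpen W → ∀ a : Γ(Y, W), i.app W a = 0 → IsNilpotent a)
  (hq : 1 ≤ q) (hqu : IsUnit (q : Γ(Y, ⊤)))

include hsurj hnil hq hqu in
/-- The kernel of the restriction of Picard groups has no `q`-torsion when units of the subscheme are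
powers times restrictions of units. -/
theorem ker_torsion [IsClosedImmersion i] [PicGrp.Law Y] [PicGrp.Law Z] (h : PicGrp.PullMul i)
    (hdiv : ∀ u : Γ(Z, ⊤), IsUnit u → ∃ (r : Γ(Z, ⊤)) (w : Γ(Y, ⊤)), IsUnit w ∧ u = r ^ q * i.appTop w)
    (x : PicLoc.PicSet Y) (hx : PicGrp.pullHom i h x = 1) (hxq : x ^ q = 1) : x = 1 := by
  haveI := epi_comap i hsurj hnil
  have hS : (ShortComplex.mk (kernel.ι (UnitsSh.comap i)) (UnitsSh.comap i) (kernel.condition _)).ShortExact :=
    ShortComplex.ShortExact.mk' (ShortComplex.exact_kernel _) inferInstance inferInstance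
  have hbij := bijective_nsmul_H i q hnil hq hqu 1
  obtain ⟨c₀, hc₀⟩ := (psiX_bijective Y).2 (Additive.ofMul x)
  have h0 : Sheaf.H.map (UnitsSh.comap i) 1 c₀ = 0 := by
    refine (psi_bijective i).1 ?_
    apply Additive.toMul.injective
    rw [map_zero, psi_comap i h c₀, hc₀]
    exact hx
  obtain ⟨k, hk⟩ := LES.exact₂ hS 1 c₀ h0
  have hxk : (psiX Y (Sheaf.H.map (kernel.ι (UnitsSh.comap i)) 1 k)).toMul = x := by
    rw [show Sheaf.H.map (kernel.ι (UnitsSh.comap i)) 1 k = c₀ from hk, hc₀]; rfl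
  subst hxk
  rw [← toMul_nsmul, ← map_nsmul, ← map_nsmul] at hxq
  have h1 : Sheaf.H.map (kernel.ι (UnitsSh.comap i)) 1 (q • k) = 0 := by
    refine (psiX_bijective Y).1 ?_
    apply Additive.toMul.injective
    rw [map_zero]
    exact hxq
  obtain ⟨w, hw⟩ := LES.exact₁ hS 0 (q • k) h1
  let e := Sheaf.H.equiv₀ (P i) isTerminalTop
  let e₂ := Sheaf.H.equiv₀ (UnitsSh.unitsAb Y) isTerminalTop
  let s : (UnitsSh.unitsAb Z).obj.obj (op (i ⁻¹ᵁ (⊤ : Y.Opens))) := e w
  obtain ⟨r, v, hv, hr⟩ := hdiv (val s) (UnitsSh.unitOfSect s).isUnit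
  have hru : IsUnit r := by
    refine (isUnit_pow_iff (Nat.one_le_iff_ne_zero.mp hq)).mp (isUnit_of_mul_isUnit_left (y := i.appTop v) ?_)
    rw [← hr]; exact (UnitsSh.unitOfSect s).isUnit
  let r' : (UnitsSh.unitsAb Z).obj.obj (op (i ⁻¹ᵁ (⊤ : Y.Opens))) := UnitsSh.sectOfUnit hru.unit
  let v' : (UnitsSh.unitsAb Y).obj.obj (op (⊤ : Y.Opens)) := UnitsSh.sectOfUnit hv.unit
  let g₀ : (P i).obj.obj (op (⊤ : Y.Opens)) := ((UnitsSh.comap i).hom.app (op (⊤ : Y.Opens))).hom v'
  let g₁ : (UnitsSh.unitsAb Z).obj.obj (op (i ⁻¹ᵁ (⊤ : Y.Opens))) := g₀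
  have hs : s = q • r' + g₁ := by
    apply val_injective
    refine Eq.trans hr (Eq.symm ?_)
    refine (congrArg Units.val (UnitsSh.unitOfSect_add _ _)).trans ?_
    show val (q • r') * val g₁ = _
    rw [val_nsmul]
    rfl
  have hwv : w = q • e.symm r' + Sheaf.H.map (UnitsSh.comap i) 0 (e₂.symm v') := by
    apply e.injective
    rw [map_add, map_nsmul, AddEquiv.apply_symm_apply]
    refine Eq.trans hs (congrArg (q • r' + ·) ?_)
    refine Eq.symm (Eq.trans (Sheaf.H.equiv₀_naturality (hT := isTerminalTop) (UnitsSh.comap i) (e₂.symm v')).symm ?_)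
    exact congrArg ((UnitsSh.comap i).hom.app (op (⊤ : Y.Opens))).hom (e₂.apply_symm_apply v')
  have h2 : LES.δ hS 0 (e.symm r') = k := by
    refine hbij.1 ?_
    change q • LES.δ hS 0 (e.symm r') = q • k
    rw [← hw, hwv, map_add, map_nsmul, show LES.δ hS 0 (Sheaf.H.map (UnitsSh.comap i) 0 (e₂.symm v')) = 0
      from LES.δ_map_g hS 0 _, add_zero]
  rw [← h2, show Sheaf.H.map (kernel.ι (UnitsSh.comap i)) 1 (LES.δ hS 0 (e.symm r')) = 0 from
    LES.map_f_δ hS 0 _, map_zero]
  rfl

end Groth.Agent.LiftLib.KerDiv
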