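import Groth.Agent.LiftLib.PBase
import Groth.Agent.CAlg48.FlatFS
import Mathlib.RingTheory.RingHom.Etale
import Mathlib.RingTheory.Smooth.Basic

/-!
Algebra over a square-zero thickening by `p`: comparison of ideals, and lifts of coordinates.
-/

set_option autoImplicit false
set_option linter.style.haveILetI false

universe u

namespace Groth.Agent.LiftLib.PFlat

variable {p : ℕ}

/-- An ideal with quotient flat over `ℤ/p²` meets `(p)` in `p` times itself. -/
theorem exists_mem_eq_mul [Fact p.Prime] {A : Type u} [CommRing A] (J : Ideal A)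
    (hp : (p : A) * (p : A) = 0)
    (φ : ULift.{u} (ZMod (p ^ 2)) →+* A ⧸ J) (hφ : φ.Flat) (a : A) (ha : (p : A) * a ∈ J) :
    ∃ i ∈ J, (p : A) * a = (p : A) * i := by
  obtain ⟨b, hb⟩ := PBase.exists_eq_mul_of_flat p φ hφ (Ideal.Quotient.mk J a) (by
    rw [← map_natCast (Ideal.Quotient.mk J), ← map_mul, Ideal.Quotient.eq_zero_iff_mem]
    exact ha)
  obtain ⟨b, rfl⟩ := Ideal.Quotient.mk_surjective b
  rw [← map_natCast (Ideal.Quotient.mk J), ← map_mul, Ideal.Quotient.eq] at hb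
  exact ⟨_, hb, by linear_combination b * hp⟩

/-- An ideal contained in another with the same reduction is equal to it, when the big one meets
`(p)` in `p` times itself. -/
theorem eq_of_le_of_map_eq {A B : Type u} [CommRing A] [CommRing B] (π : A →+* B)
    (hπs : Function.Surjective π) (hπ : RingHom.ker π = Ideal.span {(p : A)})
    (hp : (p : A) * (p : A) = 0) {J' J : Ideal A} (hle : J' ≤ J) (hmap : J.map π ≤ J'.map π)
    (hJ : ∀ a, (p : A) * a ∈ J → ∃ i ∈ J, (p : A) * a = (p : A) * i) : J' = J := by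
  have key : ∀ x ∈ J, ∃ y ∈ J', ∃ a, x = y + (p : A) * a := fun x hx => by
    obtain ⟨y, hy, hye⟩ := (Ideal.mem_map_iff_of_surjective _ hπs).1
      (hmap (Ideal.mem_map_of_mem _ hx))
    have h : x - y ∈ RingHom.ker π := by rw [RingHom.mem_ker, map_sub, hye, sub_self]
    rw [hπ, Ideal.mem_span_singleton'] at h
    obtain ⟨a, ha⟩ := h
    exact ⟨y, hy, a, by linear_combination -ha⟩
  refine le_antisymm hle fun x hx => ?_
  obtain ⟨y, hy, a, rfl⟩ := key x hx
  obtain ⟨i, hi, hie⟩ := hJ a (by simpa using sub_mem hx (hle hy))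
  obtain ⟨y', hy', a', rfl⟩ := key i hi
  rw [hie, mul_add, ← mul_assoc, hp, zero_mul, add_zero]
  exact add_mem hy (Ideal.mul_mem_left _ _ hy')

/-- A map of lifts which is the identity modulo `p` is bijective. -/
theorem bijective_of_reduction {A₁ A₂ B : Type u} [CommRing A₁] [CommRing A₂] [CommRing B]
    (π₁ : A₁ →+* B) (π₂ : A₂ →+* B) (hπ₁ : RingHom.ker π₁ = Ideal.span {(p : A₁)})
    (hπ₂ : RingHom.ker π₂ = Ideal.span {(p : A₂)}) (hs₂ : Function.Surjective π₂)
    (hp₁ : (p : A₁) * (p : A₁) = 0) (hp₂ : (p : A₂) * (p : A₂) = 0)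
    (htor : ∀ a : A₁, (p : A₁) * a = 0 → ∃ b, a = (p : A₁) * b)
    (φ : A₂ →+* A₁) (hφ : π₁.comp φ = π₂) : Function.Bijective φ := by
  have hker : ∀ a, π₁ (φ a) = π₂ a := RingHom.congr_fun hφ
  have key : ∀ a, π₂ a = 0 → ∃ b, a = (p : A₂) * b := fun a ha => by
    rw [← RingHom.mem_ker, hπ₂, Ideal.mem_span_singleton'] at ha
    obtain ⟨b, hb⟩ := ha
    exact ⟨b, by rw [← hb, mul_comm]⟩
  have key₁ : ∀ a, π₁ a = 0 → ∃ b, a = (p : A₁) * b := fun a ha => by
    rw [← RingHom.mem_ker, hπ₁, Ideal.mem_span_singleton'] at ha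
    obtain ⟨b, hb⟩ := ha
    exact ⟨b, by rw [← hb, mul_comm]⟩
  have hpz : π₁ (p : A₁) = 0 := by
    rw [← RingHom.mem_ker, hπ₁]; exact Ideal.mem_span_singleton_self _
  refine ⟨(injective_iff_map_eq_zero φ).2 fun a ha => ?_, fun a₁ => ?_⟩
  · obtain ⟨b, rfl⟩ := key a (by rw [← hker, ha, map_zero])
    rw [map_mul, map_natCast] at ha
    obtain ⟨c, hc⟩ := htor _ ha
    obtain ⟨d, rfl⟩ := key b (by rw [← hker, hc, map_mul, hpz, zero_mul])
    rw [← mul_assoc, hp₂, zero_mul]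
  · obtain ⟨a, ha⟩ := hs₂ (π₁ a₁)
    obtain ⟨c, hc⟩ := key₁ (a₁ - φ a) (by rw [map_sub, hker, ha, sub_self])
    obtain ⟨b, hb⟩ := hs₂ (π₁ c)
    obtain ⟨d, hd⟩ := key₁ (c - φ b) (by rw [map_sub, hker, hb, sub_self])
    refine ⟨a + (p : A₂) * b, ?_⟩
    rw [map_add, map_mul, map_natCast]
    linear_combination -hc - (p : A₁) * hd - d * hp₁

/-- A lift of a map of algebras with coordinates to flat lifts, carrying ideals which are
coordinate hyperplanes modulo `p` into given ideals. -/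
theorem exists_local_hom_of_map {R L L₂ B B₂ : Type u} [CommRing R] [CommRing L] [CommRing L₂]
    [CommRing B] [CommRing B₂] (ρ : R →+* L) (ρ₂ : R →+* L₂) (π : L →+* B) (π₂ : L₂ →+* B₂)
    (χ : B₂ →+* B)
    (hπs : Function.Surjective π) (hπ₂s : Function.Surjective π₂)
    (hπ : RingHom.ker π = Ideal.span {(p : L)}) (hπ₂ : RingHom.ker π₂ = Ideal.span {(p : L₂)})
    (hcomp : π.comp ρ = χ.comp (π₂.comp ρ₂)) (hp : (p : R) * (p : R) = 0)
    (htor₂ : ∀ a : L₂, (p : L₂) * a = 0 → ∃ b, a = (p : L₂) * b)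
    {n : ℕ} (ψ : MvPolynomial (Fin n) R →+* B₂) (hψC : ψ.comp MvPolynomial.C = π₂.comp ρ₂)
    (hψp : Ideal.span {(p : MvPolynomial (Fin n) R)} ≤ RingHom.ker ψ)
    (hψe : (Ideal.Quotient.lift (Ideal.span {(p : MvPolynomial (Fin n) R)}) ψ fun a ha =>
      RingHom.mem_ker.1 (hψp ha)).Etale)
    {r : ℕ} (J : Fin r → Ideal L) (J₂ : Fin r → Ideal L₂)
    (hJ₂ : ∀ m a, (p : L₂) * a ∈ J₂ m → ∃ i ∈ J₂ m, (p : L₂) * a = (p : L₂) * i)
    (T : Fin r → Prop) (e : {m // T m} → Fin n) (he : Function.Injective e)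
    (hthr : ∀ i, χ (ψ (MvPolynomial.X (e i))) ∈ (J i.1).map π ∧
      (J₂ i.1).map π₂ = Ideal.span {ψ (MvPolynomial.X (e i))})
    (hoff : ∀ m, ¬ T m → (J m).map π = ⊤) :
    ∃ φ : L₂ →+* L, φ.comp ρ₂ = ρ ∧ π.comp φ = χ.comp π₂ ∧ ∀ m, (J₂ m).map φ ≤ J m := by
  classical
  have hpz : π (p : L) = 0 := by
    rw [← RingHom.mem_ker, hπ]; exact Ideal.mem_span_singleton_self _
  have hpL : (p : L) * (p : L) = 0 := by
    rw [← map_natCast ρ, ← map_mul, hp, map_zero]
  have hpL₂ : (p : L₂) * (p : L₂) = 0 := by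
    rw [← map_natCast ρ₂, ← map_mul, hp, map_zero]
  choose s0 hs0 using fun k => hπs (χ (ψ (MvPolynomial.X k)))
  choose t0 ht0 using fun k => hπ₂s (ψ (MvPolynomial.X k))
  choose s1 hs1 hs1' using fun i => (Ideal.mem_map_iff_of_surjective _ hπs).1 (hthr i).1
  choose t1 ht1 ht1' using fun i => (Ideal.mem_map_iff_of_surjective _ hπ₂s).1
    ((hthr i).2.symm ▸ Ideal.mem_span_singleton_self (ψ (MvPolynomial.X (e i))))
  let s := Function.extend e s1 s0
  let t := Function.extend e t1 t0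
  have hs : ∀ k, π (s k) = χ (ψ (MvPolynomial.X k)) := fun k => by
    by_cases h : ∃ i, e i = k
    · obtain ⟨i, rfl⟩ := h
      simp only [s, he.extend_apply, hs1']
    · simp only [s, Function.extend_apply' _ _ _ h, hs0]
  have ht : ∀ k, π₂ (t k) = ψ (MvPolynomial.X k) := fun k => by
    by_cases h : ∃ i, e i = k
    · obtain ⟨i, rfl⟩ := h
      simp only [t, he.extend_apply, ht1']
    · simp only [t, Function.extend_apply' _ _ _ h, ht0]
  let ev := MvPolynomial.eval₂Hom ρ s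
  let ev₂ := MvPolynomial.eval₂Hom ρ₂ t
  have hev : π.comp ev = χ.comp ψ := MvPolynomial.ringHom_ext
    (fun a => by
      rw [RingHom.comp_apply, show ev (MvPolynomial.C a) = ρ a from MvPolynomial.eval₂Hom_C _ _ _]
      exact (RingHom.congr_fun hcomp a).trans (congrArg χ (RingHom.congr_fun hψC a).symm))
    (fun k => by
      rw [RingHom.comp_apply, show ev (MvPolynomial.X k) = s k from MvPolynomial.eval₂Hom_X' _ _ _]
      exact hs k)
  have hev₂ : π₂.comp ev₂ = ψ := MvPolynomial.ringHom_ext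
    (fun a => by
      rw [RingHom.comp_apply, show ev₂ (MvPolynomial.C a) = ρ₂ a from MvPolynomial.eval₂Hom_C _ _ _]
      exact ((RingHom.congr_fun hψC a)).symm)
    (fun k => by
      rw [RingHom.comp_apply, show ev₂ (MvPolynomial.X k) = t k from MvPolynomial.eval₂Hom_X' _ _ _]
      exact ht k)
  let P := MvPolynomial (Fin n) R
  letI : Algebra P L := ev.toAlgebra
  letI : Algebra P L₂ := ev₂.toAlgebra
  letI : Algebra P B₂ := ψ.toAlgebra
  letI : Algebra P B := (χ.comp ψ).toAlgebra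
  have hmap : (Ideal.span {(p : P)}).map (algebraMap P L₂) = Ideal.span {(p : L₂)} := by
    rw [Ideal.map_span, Set.image_singleton, map_natCast]
  let ε : L₂ ⧸ Ideal.span {(p : L₂)} ≃+* B₂ :=
    (Ideal.quotEquivOfEq hπ₂.symm).trans (RingHom.quotientKerEquivOfSurjective hπ₂s)
  have hε : ∀ a, ε (Ideal.Quotient.mk _ a) = π₂ a := fun _ => rfl
  haveI : Module.Flat P L₂ := by
    refine PBase.flat_of_reduction p ?_ htor₂ ?_
    · rw [← map_natCast (MvPolynomial.C : R →+* P), ← map_mul, hp, map_zero]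
    · have h := RingHom.Flat.comp (RingHom.Etale.iff_flat_and_formallyUnramified.1 hψe).1
        (RingHom.Flat.of_bijective (f := ε.symm.toRingHom) ε.symm.bijective)
      convert h using 1
      refine Ideal.Quotient.ringHom_ext (RingHom.ext fun a => ?_)
      refine ε.injective ?_
      refine Eq.trans ?_ (ε.apply_symm_apply _).symm
      exact (RingHom.congr_fun hev₂ a)
  haveI : Algebra.FormallySmooth P L₂ := by
    have hI : IsNilpotent (Ideal.span {(p : P)}) := ⟨2, by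
      rw [Ideal.span_singleton_pow, pow_two, ← map_natCast (MvPolynomial.C : R →+* P), ← map_mul,
        hp, map_zero, Ideal.span_singleton_zero]; rfl⟩
    haveI : Algebra.FormallySmooth (P ⧸ Ideal.span {(p : P)})
        (L₂ ⧸ (Ideal.span {(p : P)}).map (algebraMap P L₂)) := by
      let ε' := (Ideal.quotEquivOfEq hmap).trans ε
      have hq : algebraMap (P ⧸ Ideal.span {(p : P)})
          (L₂ ⧸ (Ideal.span {(p : P)}).map (algebraMap P L₂)) = ε'.symm.toRingHom.comp
            (Ideal.Quotient.lift _ ψ fun a ha => RingHom.mem_ker.1 (hψp ha)) := by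
        refine Ideal.Quotient.ringHom_ext (RingHom.ext fun a => ?_)
        refine ε'.injective ?_
        refine Eq.trans ?_ (ε'.apply_symm_apply _).symm
        exact RingHom.congr_fun hev₂ a
      have he' : (algebraMap (P ⧸ Ideal.span {(p : P)})
          (L₂ ⧸ (Ideal.span {(p : P)}).map (algebraMap P L₂))).Etale := by
        rw [hq]; exact RingHom.Etale.respectsIso.1 _ ε'.symm hψe
      have := RingHom.etale_algebraMap.1 he'
      infer_instance
    exact CAlg48.FlatFS.formallySmooth (Ideal.span {(p : P)}) hI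
  let q : L →ₐ[P] B := { π with commutes' := RingHom.congr_fun hev }
  let α : L₂ →ₐ[P] B :=
    { χ.comp π₂ with commutes' := fun a => congrArg χ (RingHom.congr_fun hev₂ a) }
  have hnil : IsNilpotent (RingHom.ker (q : L →+* B)) := ⟨2, by
    rw [show (q : L →+* B) = π from rfl, hπ, Ideal.span_singleton_pow, pow_two, hpL,
      Ideal.span_singleton_zero]; rfl⟩
  let γ := Algebra.FormallySmooth.liftOfSurjective α q hπs hnil
  have hγ : ∀ a, π (γ a) = χ (π₂ a) := Algebra.FormallySmooth.liftOfSurjective_apply α q hπs hnil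
  refine ⟨γ.toRingHom, RingHom.ext fun a => ?_, RingHom.ext hγ, fun m => ?_⟩
  · have h := γ.commutes (MvPolynomial.C a)
    rw [RingHom.algebraMap_toAlgebra, RingHom.algebraMap_toAlgebra] at h
    have h' : γ (ev₂ (MvPolynomial.C a)) = ev (MvPolynomial.C a) := h
    rw [show ev₂ (MvPolynomial.C a) = ρ₂ a from MvPolynomial.eval₂Hom_C _ _ _,
      show ev (MvPolynomial.C a) = ρ a from MvPolynomial.eval₂Hom_C _ _ _] at h'
    exact h'
  · by_cases hm : T m
    · have hle : Ideal.span {t (e ⟨m, hm⟩)} ≤ J₂ m := by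
        rw [Ideal.span_singleton_le_iff_mem]
        simp only [t, he.extend_apply]
        exact ht1 ⟨m, hm⟩
      rw [← eq_of_le_of_map_eq π₂ hπ₂s hπ₂ hpL₂ hle (by
        rw [(hthr ⟨m, hm⟩).2, Ideal.map_span, Set.image_singleton, ht]) (hJ₂ m),
        Ideal.map_span, Set.image_singleton, Ideal.span_singleton_le_iff_mem]
      have h := γ.commutes (MvPolynomial.X (e ⟨m, hm⟩))
      rw [RingHom.algebraMap_toAlgebra, RingHom.algebraMap_toAlgebra] at h
      have h' : γ (ev₂ (MvPolynomial.X (e ⟨m, hm⟩))) = ev (MvPolynomial.X (e ⟨m, hm⟩)) := h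
      rw [show ev₂ (MvPolynomial.X (e ⟨m, hm⟩)) = t1 ⟨m, hm⟩ from
          (MvPolynomial.eval₂Hom_X' _ _ _).trans (he.extend_apply _ _ _),
        show ev (MvPolynomial.X (e ⟨m, hm⟩)) = s1 ⟨m, hm⟩ from
          (MvPolynomial.eval₂Hom_X' _ _ _).trans (he.extend_apply _ _ _)] at h'
      simp only [t, he.extend_apply]
      exact h'.symm ▸ hs1 ⟨m, hm⟩
    · rw [eq_of_le_of_map_eq π hπs hπ hpL (le_top (a := J m))
        (by rw [Ideal.map_top, hoff m hm]) fun a _ => ⟨a, trivial, rfl⟩]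
      exact le_top

/-- Lifts of étale coordinates: two lifts of an algebra with coordinates are mapped to each other
compatibly with ideals which are coordinate hyperplanes modulo `p`. -/
theorem exists_local_hom {R L L₂ B : Type u} [CommRing R] [CommRing L] [CommRing L₂] [CommRing B]
    (ρ : R →+* L) (ρ₂ : R →+* L₂) (π : L →+* B) (π₂ : L₂ →+* B)
    (hπs : Function.Surjective π) (hπ₂s : Function.Surjective π₂)
    (hπ : RingHom.ker π = Ideal.span {(p : L)}) (hπ₂ : RingHom.ker π₂ = Ideal.span {(p : L₂)})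
    (hcomp : π.comp ρ = π₂.comp ρ₂) (hp : (p : R) * (p : R) = 0)
    (htor₂ : ∀ a : L₂, (p : L₂) * a = 0 → ∃ b, a = (p : L₂) * b)
    {n : ℕ} (ψ : MvPolynomial (Fin n) R →+* B) (hψC : ψ.comp MvPolynomial.C = π.comp ρ)
    (hψp : Ideal.span {(p : MvPolynomial (Fin n) R)} ≤ RingHom.ker ψ)
    (hψe : (Ideal.Quotient.lift (Ideal.span {(p : MvPolynomial (Fin n) R)}) ψ fun a ha =>
      RingHom.mem_ker.1 (hψp ha)).Etale)
    {r : ℕ} (J : Fin r → Ideal L) (J₂ : Fin r → Ideal L₂)
    (_hJ : ∀ m a, (p : L) * a ∈ J m → ∃ i ∈ J m, (p : L) * a = (p : L) * i)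
    (hJ₂ : ∀ m a, (p : L₂) * a ∈ J₂ m → ∃ i ∈ J₂ m, (p : L₂) * a = (p : L₂) * i)
    (T : Fin r → Prop) (e : {m // T m} → Fin n) (he : Function.Injective e)
    (hthr : ∀ i, (J i.1).map π = Ideal.span {ψ (MvPolynomial.X (e i))} ∧
      (J₂ i.1).map π₂ = Ideal.span {ψ (MvPolynomial.X (e i))})
    (hoff : ∀ m, ¬ T m → (J m).map π = ⊤) :
    ∃ φ : L₂ →+* L, φ.comp ρ₂ = ρ ∧ π.comp φ = π₂ ∧ ∀ m, (J₂ m).map φ ≤ J m :=
  exists_local_hom_of_map ρ ρ₂ π π₂ (RingHom.id B) hπs hπ₂s hπ hπ₂ hcomp hp htor₂ ψ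
    (hψC.trans hcomp) hψp hψe J J₂ hJ₂ T e he
    (fun i => ⟨(hthr i).1.symm ▸ Ideal.mem_span_singleton_self _, (hthr i).2⟩) hoff

end Groth.Agent.LiftLib.PFlat
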