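import Groth.Agent.LiftLib.NCDLocal
import Groth.Agent.LiftLib.PFlat
import Groth.Agent.IdealSh.RelFlat
import Groth.Agent.Adic.LevelsSmooth
import Groth.Agent.AffThick.Nil
import Groth.Agent.ArtFunLib.FlatSeq

/-!
Generalities on flat lifts along a square-zero thickening by `p`.
-/

set_option autoImplicit false
set_option linter.style.haveILetI false

universe u

open CategoryTheory CategoryTheory.Limits AlgebraicGeometry

namespace Groth.Agent.LiftLib.LiftBase

variable {p : ℕ} [Fact p.Prime] {Sl S : Scheme.{u}}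
  {gS : Sl ⟶ Spec (CommRingCat.of (ULift.{u} (ZMod (p ^ 2))))} {iS : S ⟶ Sl}
  {fS : S ⟶ Spec (CommRingCat.of (ULift.{u} (ZMod p)))}
  (hS : IsPullback iS fS gS (Spec.map (CommRingCat.ofHom (PBase.red.{u} p))))
  {X Xl : Scheme.{u}} {f : X ⟶ S} {g : Xl ⟶ Sl} {j : X ⟶ Xl} (hX : IsPullback j f g iS)

include hS in
theorem surjective_base : Surjective iS := by
  have hS0 : IsPullback (Spec.map (CommRingCat.ofHom (PBase.red.{u} p)))
      (𝟙 (Spec (CommRingCat.of (ULift.{u} (ZMod p)))))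
      (𝟙 (Spec (CommRingCat.of (ULift.{u} (ZMod (p ^ 2))))))
      (Spec.map (CommRingCat.ofHom (PBase.red.{u} p))) :=
    IsPullback.of_vert_isIso ⟨by rw [Category.id_comp, Category.comp_id]⟩
  exact NCDLocal.surjective_lift hS0 hS

include hS in
theorem isLocallyNoetherian_base [IsLocallyNoetherian S] : IsLocallyNoetherian Sl := by
  haveI := PBase.isClosedImmersion_of_base hS
  refine ⟨fun U => ?_⟩
  have hk : RingHom.ker (iS.app U.1).hom = Ideal.span {(p : Γ(Sl, U.1))} := by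
    rw [← Scheme.Hom.ker_apply, PBase.ker_base_ideal hS U]
  haveI : IsNoetherianRing Γ(S, iS ⁻¹ᵁ U.1) :=
    IsLocallyNoetherian.component_noetherian (X := S) ⟨_, U.2.preimage iS⟩
  haveI : IsNoetherianRing (Γ(Sl, U.1) ⧸ Ideal.span {(p : Γ(Sl, U.1))}) :=
    isNoetherianRing_of_ringEquiv Γ(S, iS ⁻¹ᵁ U.1)
      ((Ideal.quotEquivOfEq hk.symm).trans
        (RingHom.quotientKerEquivOfSurjective (iS.app_surjective _ U.2))).symm
  refine ArtFunLib.FlatSeq.isNoetherianRing_of_nilpotent (Ideal.span {(p : Γ(Sl, U.1))}) ⟨2, ?_⟩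
    ⟨{(p : Γ(Sl, U.1))}, by simp⟩
  rw [Ideal.span_singleton_pow, pow_two, PBase.section_sq_eq_zero gS, Ideal.span_singleton_zero]
  rfl

include hS hX in
theorem smooth_lift [IsLocallyNoetherian S] [Flat g] [Smooth f] : Smooth g := by
  haveI := PBase.isClosedImmersion_of_base hS
  haveI := surjective_base hS
  haveI := isLocallyNoetherian_base hS
  exact Adic.LevelsSmooth.smooth hX

include hS hX in
theorem isAffine_lift [IsAffine X] : IsAffine Xl := by
  haveI := PBase.isClosedImmersion_of_base hS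
  haveI : IsClosedImmersion j := MorphismProperty.of_isPullback hX.flip inferInstance
  haveI := NCDLocal.surjective_lift hS hX
  refine AffThick.isAffine_of_sq j fun V a ha b hb => ?_
  rw [PBase.ker_lift_ideal hS hX V, Ideal.mem_span_singleton'] at ha hb
  obtain ⟨a, rfl⟩ := ha
  obtain ⟨b, rfl⟩ := hb
  linear_combination (a * b) * PBase.section_sq_eq_zero (p := p) (g ≫ gS) V.1

include hS hX in
theorem appLE_props (V : Xl.affineOpens) {O : X.Opens} (hO : O = j ⁻¹ᵁ V.1) (hle : O ≤ j ⁻¹ᵁ V.1) :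
    Function.Surjective (j.appLE V.1 O hle).hom ∧
      RingHom.ker (j.appLE V.1 O hle).hom = Ideal.span {(p : Γ(Xl, V.1))} := by
  haveI := PBase.isClosedImmersion_of_base hS
  haveI : IsClosedImmersion j := MorphismProperty.of_isPullback hX.flip inferInstance
  subst hO
  rw [← Scheme.Hom.app_eq_appLE]
  exact ⟨j.app_surjective _ V.2, by rw [← Scheme.Hom.ker_apply, PBase.ker_lift_ideal hS hX V]⟩

include hS hX in
theorem isNoetherianRing_lift [IsLocallyNoetherian X] (V : Xl.affineOpens) :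
    IsNoetherianRing Γ(Xl, V.1) := by
  haveI := PBase.isClosedImmersion_of_base hS
  haveI : IsClosedImmersion j := MorphismProperty.of_isPullback hX.flip inferInstance
  obtain ⟨hs, hk⟩ := appLE_props hS hX V rfl le_rfl
  haveI : IsNoetherianRing Γ(X, j ⁻¹ᵁ V.1) :=
    IsLocallyNoetherian.component_noetherian (X := X) ⟨_, V.2.preimage j⟩
  haveI : IsNoetherianRing (Γ(Xl, V.1) ⧸ Ideal.span {(p : Γ(Xl, V.1))}) :=
    isNoetherianRing_of_ringEquiv Γ(X, j ⁻¹ᵁ V.1)
      ((Ideal.quotEquivOfEq hk.symm).trans (RingHom.quotientKerEquivOfSurjective hs)).symm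
  refine ArtFunLib.FlatSeq.isNoetherianRing_of_nilpotent (Ideal.span {(p : Γ(Xl, V.1))}) ⟨2, ?_⟩
    ⟨{(p : Γ(Xl, V.1))}, by simp⟩
  rw [Ideal.span_singleton_pow, pow_two, PBase.section_sq_eq_zero (g ≫ gS),
    Ideal.span_singleton_zero]
  rfl

omit [Fact p.Prime] in
theorem appTop_res {Y Z : Scheme.{u}} (h : Y ⟶ Z) {V : Z.Opens} {O : Y.Opens}
    (hle : O ≤ h ⁻¹ᵁ V) (a : Γ(Z, ⊤)) :
    h.appLE V O hle (Z.presheaf.map (homOfLE (le_top : V ≤ ⊤)).op a) =
      Y.presheaf.map (homOfLE (le_top : O ≤ ⊤)).op (h.appTop a) := by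
  rw [← ConcreteCategory.comp_apply, ← ConcreteCategory.comp_apply, Scheme.Hom.map_appLE,
    Scheme.Hom.appTop, Scheme.Hom.app_eq_appLE]
  exact (ConcreteCategory.congr_hom (Scheme.Hom.appLE_map h (le_refl (h ⁻¹ᵁ ⊤)) (homOfLE le_top).op) a).symm

/-- The spectrum of the restriction to an affine open. -/
theorem specMap_res_isoSpec [IsAffine Xl] (V : Xl.affineOpens) :
    Spec.map (Xl.presheaf.map (homOfLE (le_top : V.1 ≤ ⊤)).op) ≫ Xl.isoSpec.inv = V.2.fromSpec := by
  rw [← IsAffineOpen.fromSpec_top]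
  exact (isAffineOpen_top Xl).map_fromSpec V.2 _

include gS in
/-- A closed subscheme flat over the thickened base meets `(p)` in `p` times itself. -/
theorem exists_mem_eq_mul [Flat gS] (g : Xl ⟶ Sl) (I : Xl.IdealSheafData)
    [Flat (I.subschemeι ≫ g)] (V : Xl.affineOpens) (a : Γ(Xl, V.1))
    (ha : (p : Γ(Xl, V.1)) * a ∈ I.ideal V) :
    ∃ i ∈ I.ideal V, (p : Γ(Xl, V.1)) * a = (p : Γ(Xl, V.1)) * i := by
  haveI : Flat (I.subschemeι ≫ g ≫ gS) := by
    rw [← Category.assoc]; infer_instance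
  have h := IdealSh.RelFlat.flat_quot_of_flat_subscheme (g ≫ gS) I ⟨⊤, isAffineOpen_top _⟩ V le_top
  exact PFlat.exists_mem_eq_mul _ (PBase.section_sq_eq_zero (g ≫ gS) V.1) _
    (RingHom.Flat.comp (RingHom.Flat.of_bijective (ConcreteCategory.bijective_of_isIso
      (Scheme.ΓSpecIso (CommRingCat.of (ULift.{u} (ZMod (p ^ 2))))).inv)) h) a ha

end Groth.Agent.LiftLib.LiftBase
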