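import Groth.Agent.LiftLib.PBase
import Groth.Agent.LiftLib.NCDChart
import Groth.Agent.Thick.Topo
import Groth.Agent.IdealSh.Regular
import Mathlib.RingTheory.RingHom.Flat

/-!
Local data of a relative normal crossing divisor on the reduction of a flat lift.
-/

set_option autoImplicit false
set_option linter.style.haveILetI false

universe u

open CategoryTheory CategoryTheory.Limits AlgebraicGeometry TensorProduct

namespace Groth.Agent.LiftLib.NCDLocal

/-- Coordinates of a flat map from a polynomial ring: nonzerodivisors with flat quotient. -/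
theorem coord_of_flat {R A : Type u} [CommRing R] [CommRing A] {n : ℕ}
    (φ : MvPolynomial (Fin n) R →+* A) (hφ : φ.Flat) (k : Fin n) :
    φ (MvPolynomial.X k) ∈ nonZeroDivisors A ∧
      ((Ideal.Quotient.mk (Ideal.span {φ (MvPolynomial.X k)})).comp
        (φ.comp MvPolynomial.C)).Flat := by
  letI := φ.toAlgebra
  haveI : Module.Flat (MvPolynomial (Fin n) R) A := hφ
  constructor
  · rw [mem_nonZeroDivisors_iff_left]
    intro a ha
    have hinj : Function.Injective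
        (LinearMap.lsmul (MvPolynomial (Fin n) R) (MvPolynomial (Fin n) R) (MvPolynomial.X k)) :=
      fun a b hab => by
        refine MvPolynomial.ext _ _ fun m => ?_
        have h : MvPolynomial.X k * a = MvPolynomial.X k * b := hab
        have h' := congrArg (MvPolynomial.coeff (Finsupp.single k 1 + m)) h
        rwa [MvPolynomial.coeff_X_mul, MvPolynomial.coeff_X_mul] at h'
    have h2 := Module.Flat.rTensor_preserves_injective_linearMap (M := A) _ hinj
    have : (TensorProduct.lid (MvPolynomial (Fin n) R) A).symm a = 0 := by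
      apply h2
      rw [map_zero, TensorProduct.lid_symm_apply, LinearMap.rTensor_tmul, LinearMap.lsmul_apply,
        smul_eq_mul, mul_one]
      rw [show MvPolynomial.X k = MvPolynomial.X k • (1 : MvPolynomial (Fin n) R) from
        (mul_one _).symm, TensorProduct.smul_tmul, Algebra.smul_def, RingHom.algebraMap_toAlgebra, ha,
        TensorProduct.tmul_zero]
    simpa using this
  · let J : Ideal (MvPolynomial (Fin n) R) := Ideal.span {MvPolynomial.X k}
    have hJ : Ideal.span {φ (MvPolynomial.X k)} = J.map φ := by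
      rw [Ideal.map_span, Set.image_singleton]
    haveI : Module.Flat R (MvPolynomial (Fin n) R ⧸ J) := by
      let ε : MvPolynomial (Fin n) R →ₐ[R] MvPolynomial (Fin n) R :=
        MvPolynomial.aeval fun i => if i = k then 0 else MvPolynomial.X i
      have hε : ∀ a, Ideal.Quotient.mk J (ε a) = Ideal.Quotient.mk J a := by
        intro a
        have : (Ideal.Quotient.mkₐ R J).comp ε = Ideal.Quotient.mkₐ R J :=
          MvPolynomial.algHom_ext fun i => by
            show Ideal.Quotient.mk J (ε (MvPolynomial.X i)) = _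
            simp only [ε, MvPolynomial.aeval_X]
            split
            next h =>
              subst h
              rw [map_zero]
              exact (Ideal.Quotient.eq_zero_iff_mem.2 (Ideal.mem_span_singleton_self _)).symm
            next h => rfl
        exact AlgHom.congr_fun this a
      have hJε : ∀ a ∈ J, ε a = 0 := by
        intro a ha
        obtain ⟨c, rfl⟩ := Ideal.mem_span_singleton'.1 ha
        simp [ε]
      refine Module.Flat.of_retract (R := R) (M := MvPolynomial (Fin n) R)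
        ((Ideal.Quotient.liftₐ J ε hJε).toLinearMap) ((Ideal.Quotient.mkₐ R J).toLinearMap) ?_
      refine LinearMap.ext fun y => ?_
      obtain ⟨a, rfl⟩ := Ideal.Quotient.mk_surjective y
      exact hε a
    have h1 : ((Ideal.Quotient.mk J).comp MvPolynomial.C).Flat := by
      show (algebraMap R (MvPolynomial (Fin n) R ⧸ J)).Flat
      exact RingHom.flat_algebraMap_iff.2 inferInstance
    have h2 : (Ideal.quotientMap (J.map φ) φ Ideal.le_comap_map).Flat := by
      have h3 : Module.Flat (MvPolynomial (Fin n) R ⧸ J) ((MvPolynomial (Fin n) R ⧸ J)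
          ⊗[MvPolynomial (Fin n) R] A) := inferInstance
      let e := (Algebra.TensorProduct.quotIdealMapEquivQuotTensor A J).toLinearEquiv
      haveI : Module.Flat (MvPolynomial (Fin n) R ⧸ J) (A ⧸ J.map (algebraMap _ A)) :=
        Module.Flat.of_linearEquiv e
      exact RingHom.flat_algebraMap_iff.2 this
    rw [hJ]
    have e : (Ideal.Quotient.mk (J.map φ)).comp (φ.comp MvPolynomial.C) =
        (Ideal.quotientMap (J.map φ) φ Ideal.le_comap_map).comp
          ((Ideal.Quotient.mk J).comp MvPolynomial.C) := RingHom.ext fun _ => rfl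
    rw [e]
    exact RingHom.Flat.comp h1 h2

variable {p : ℕ} [Fact p.Prime]
  {Sl S : Scheme.{u}} {gS : Sl ⟶ Spec (CommRingCat.of (ULift.{u} (ZMod (p ^ 2))))}
  {iS : S ⟶ Sl} {fS : S ⟶ Spec (CommRingCat.of (ULift.{u} (ZMod p)))}
  {X Xl : Scheme.{u}} {f : X ⟶ S} {g : Xl ⟶ Sl} {j : X ⟶ Xl}

theorem surjective_lift
    (hS : IsPullback iS fS gS (Spec.map (CommRingCat.ofHom (PBase.red.{u} p))))
    (hX : IsPullback j f g iS) : Surjective j := by
  have := PBase.isClosedImmersion_of_base hS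
  haveI : IsClosedImmersion j := MorphismProperty.of_isPullback hX.flip inferInstance
  refine ⟨fun y => ?_⟩
  obtain ⟨V, hV, hyV, -⟩ := exists_isAffineOpen_mem_and_subset (X := Xl) (x := y) (U := ⊤) trivial
  have hy : y ∈ j.ker.support := by
    rw [Scheme.IdealSheafData.mem_support_iff_of_mem (U := ⟨V, hV⟩) hyV,
      PBase.ker_lift_ideal hS hX ⟨V, hV⟩, Scheme.zeroLocus_span, Scheme.zeroLocus_singleton,
      Set.mem_compl_iff]
    intro h
    have hn : IsNilpotent (p : Γ(Xl, V)) := ⟨2, by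
      rw [pow_two]; exact PBase.section_sq_eq_zero (g ≫ gS) V⟩
    rw [(Scheme.basicOpen_eq_bot_iff_forall_evaluation_eq_zero _ _).2 fun z => ?_] at h
    · exact h
    · exact (hn.map _).eq_zero
  rw [← SetLike.mem_coe, Scheme.Hom.support_ker, IsClosed.closure_eq (Scheme.Hom.isClosedEmbedding j).isClosed_range] at hy
  exact hy

/-- Local data at a point of the lift. -/
theorem exists_data
    (hS : IsPullback iS fS gS (Spec.map (CommRingCat.ofHom (PBase.red.{u} p))))
    (hX : IsPullback j f g iS) [Smooth f] {r : ℕ} (D : Fin r → X.IdealSheafData)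
    (hD : LogNCD.IsNCD D f) (Dl : Fin r → Xl.IdealSheafData)
    (hDl : ∀ m, (Dl m).comap j = D m) (y : Xl) (W : Xl.Opens) (hy : y ∈ W)
    (Ul : Sl.affineOpens) (hyU : g y ∈ Ul.1) :
    ∃ (Vl : Xl.affineOpens) (hle : Vl.1 ≤ g ⁻¹ᵁ Ul.1)
      (hle' : j ⁻¹ᵁ Vl.1 ≤ f ⁻¹ᵁ (iS ⁻¹ᵁ Ul.1)),
      y ∈ Vl.1 ∧ Vl.1 ≤ W ∧ Function.Surjective (iS.app Ul.1).hom ∧
      RingHom.ker (iS.app Ul.1).hom = Ideal.span {(p : Γ(Sl, Ul.1))} ∧
      Function.Surjective (j.app Vl.1).hom ∧
      RingHom.ker (j.app Vl.1).hom = Ideal.span {(p : Γ(Xl, Vl.1))} ∧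
      (f.appLE (iS ⁻¹ᵁ Ul.1) (j ⁻¹ᵁ Vl.1) hle').hom.comp (iS.app Ul.1).hom =
        (j.app Vl.1).hom.comp (g.appLE Ul.1 Vl.1 hle).hom ∧
      ∀ m, ∃ t : Γ(X, j ⁻¹ᵁ Vl.1), t ∈ nonZeroDivisors Γ(X, j ⁻¹ᵁ Vl.1) ∧
        ((Ideal.Quotient.mk (Ideal.span {t})).comp
          (f.appLE (iS ⁻¹ᵁ Ul.1) (j ⁻¹ᵁ Vl.1) hle').hom).Flat ∧
        ((Dl m).ideal Vl).map (j.app Vl.1).hom = Ideal.span {t} := by
  classical
  have := PBase.isClosedImmersion_of_base hS
  haveI : IsClosedImmersion j := MorphismProperty.of_isPullback hX.flip inferInstance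
  haveI : Surjective j := surjective_lift hS hX
  obtain ⟨x, rfl⟩ := j.surjective y
  have hgx : f x ∈ iS ⁻¹ᵁ Ul.1 := by
    show iS (f x) ∈ Ul.1
    have e : iS (f x) = g (j x) := by
      rw [← Scheme.Hom.comp_apply, ← Scheme.Hom.comp_apply, hX.w]
    rw [e]; exact hyU
  obtain ⟨Vl₀, hVl₀, hxV₀, hV₀W⟩ := exists_isAffineOpen_mem_and_subset (U := W ⊓ g ⁻¹ᵁ Ul.1)
    (x := j x) ⟨hy, hyU⟩
  obtain ⟨V, hle, n, ψ, e, hxV, hVW, hψC, hψe, -, hthr, hoff⟩ :=
    NCDChart.exists_chart f D hD x (j ⁻¹ᵁ Vl₀) hxV₀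
      ⟨iS ⁻¹ᵁ Ul.1, Ul.2.preimage iS⟩ hgx
  let T : Xl.Opens := ⟨j '' (V.1 : Set X), (Thick.Topo.isHomeomorph j).isOpenMap _ V.1.isOpen⟩
  obtain ⟨b, hb, hxb⟩ := hVl₀.exists_basicOpen_le (V := T) ⟨j x, ⟨x, hxV, rfl⟩⟩ hxV₀
  let Vl : Xl.affineOpens := ⟨Xl.basicOpen b, hVl₀.basicOpen b⟩
  have hle₂ : Vl.1 ≤ g ⁻¹ᵁ Ul.1 :=
    fun z hz => (hV₀W (Xl.basicOpen_le b hz)).2
  have hpre : j ⁻¹ᵁ Vl.1 ≤ V.1 := by
    intro z hz
    obtain ⟨z', hz', hzz⟩ := hb hz
    exact (Thick.Topo.isHomeomorph j).injective hzz ▸ hz'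
  have hle' : j ⁻¹ᵁ Vl.1 ≤ f ⁻¹ᵁ (iS ⁻¹ᵁ Ul.1) := hpre.trans hle
  let ρ : Γ(X, V.1) →+* Γ(X, j ⁻¹ᵁ Vl.1) := (X.presheaf.map (homOfLE hpre).op).hom
  have hρ : ρ.Flat := by
    have h := (𝟙 X : X ⟶ X).flat_appLE V.2 (Vl.2.preimage j) (hpre : _ ≤ (𝟙 X : X ⟶ X) ⁻¹ᵁ V.1)
    simp only [Scheme.Hom.appLE, Scheme.Hom.id_app, Category.id_comp] at h
    exact h
  have hφ : (ρ.comp ψ).Flat := RingHom.Flat.comp ((RingHom.Etale.iff_flat_and_formallyUnramified.1 hψe).1) hρ
  refine ⟨Vl, hle₂, hle', hxb, fun z hz => (hV₀W (Xl.basicOpen_le b hz)).1,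
    iS.app_surjective _ Ul.2, ?_, j.app_surjective _ Vl.2, ?_, ?_, fun m => ?_⟩
  · rw [← Scheme.Hom.ker_apply, PBase.ker_base_ideal hS Ul]
  · rw [← Scheme.Hom.ker_apply, PBase.ker_lift_ideal hS hX Vl]
  · rw [← CommRingCat.hom_comp, ← CommRingCat.hom_comp, Scheme.Hom.app_eq_appLE,
      Scheme.Hom.app_eq_appLE, Scheme.Hom.appLE_comp_appLE, Scheme.Hom.appLE_comp_appLE]
    simp only [hX.w]
  · have hDm : ((Dl m).ideal Vl).map (j.app Vl.1).hom =
        ((D m).ideal V).map ρ := by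
      rw [← IdealSh.Comap.ideal_comap_app (Dl m) j Vl (Vl.2.preimage j), hDl m]
      exact ((D m).map_ideal (U := ⟨j ⁻¹ᵁ Vl.1, Vl.2.preimage j⟩) (V := V) hpre).symm
    rw [hDm]
    by_cases hm : x ∈ (D m).support
    · refine ⟨ρ (ψ (MvPolynomial.X (e ⟨m, hm⟩))), (coord_of_flat _ hφ _).1, ?_, ?_⟩
      · have h := (coord_of_flat _ hφ (e ⟨m, hm⟩)).2
        rw [show (ρ.comp ψ).comp MvPolynomial.C = ρ.comp (ψ.comp MvPolynomial.C) from RingHom.comp_assoc _ _ _, hψC] at h
        simp only [ρ, ← CommRingCat.hom_comp, Scheme.Hom.appLE_map] at h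
        exact h
      · rw [hthr ⟨m, hm⟩, Ideal.map_span, Set.image_singleton]
    · refine ⟨1, one_mem _, ?_, ?_⟩
      · haveI : Subsingleton (Γ(X, j ⁻¹ᵁ Vl.1) ⧸ Ideal.span {(1 : Γ(X, j ⁻¹ᵁ Vl.1))}) :=
          Ideal.Quotient.subsingleton_iff.2 Ideal.span_singleton_one
        algebraize [((Ideal.Quotient.mk (Ideal.span {(1 : Γ(X, j ⁻¹ᵁ Vl.1))})).comp
          (f.appLE (iS ⁻¹ᵁ Ul.1) (j ⁻¹ᵁ Vl.1) hle').hom)]
        exact RingHom.flat_algebraMap_iff.2 inferInstance
      · rw [hoff m hm, Ideal.map_top, Ideal.span_singleton_one]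

end Groth.Agent.LiftLib.NCDLocal
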