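import Mathlib.AlgebraicGeometry.Morphisms.Flat
import Mathlib.RingTheory.Flat.EquationalCriterion
import Mathlib.RingTheory.TensorProduct.Quotient
import Mathlib.RingTheory.RingHom.Flat
import Mathlib.Data.ZMod.Basic
import Mathlib.AlgebraicGeometry.IdealSheaf.Functorial
import Mathlib.AlgebraicGeometry.Morphisms.ClosedImmersion
import Groth.Agent.IdealSh.Comap
import Groth.Agent.LocFlat.Basic

/-!
Square-zero thickenings defined by a prime `p`, and flat lifts of schemes along them.
-/

set_option autoImplicit false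
set_option linter.style.haveILetI false

universe u

open CategoryTheory CategoryTheory.Limits AlgebraicGeometry TensorProduct

namespace Groth.Agent.LiftLib.PBase

section Algebra

/-- In a module flat over `ℤ/p²` the kernel of `p` is the image of `p`. -/
theorem exists_eq_mul_of_flat (p : ℕ) [Fact p.Prime] {A : Type u} [CommRing A]
    (φ : ULift.{u} (ZMod (p ^ 2)) →+* A) (hφ : φ.Flat) (a : A) (ha : (p : A) * a = 0) :
    ∃ b, a = (p : A) * b := by
  letI := φ.toAlgebra
  haveI : Module.Flat (ULift.{u} (ZMod (p ^ 2))) A := hφ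
  have hrel : ∑ i : Fin 1, ((fun _ => (p : ULift.{u} (ZMod (p ^ 2)))) i) • ((fun _ => a) i) = 0 := by
    rw [Fin.sum_univ_one, Algebra.smul_def, map_natCast]
    exact ha
  obtain ⟨k, c, y, hy, hc⟩ :=
    (Module.Flat.iff_forall_isTrivialRelation (R := ULift.{u} (ZMod (p ^ 2))) (M := A)).1
      inferInstance hrel
  have hann : ∀ j, ∃ d : ULift.{u} (ZMod (p ^ 2)), c 0 j = (p : ULift.{u} (ZMod (p ^ 2))) * d := by
    intro j
    have h0 : (p : ULift.{u} (ZMod (p ^ 2))) * c 0 j = 0 := by
      have := hc j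
      rwa [Fin.sum_univ_one] at this
    have h1 : (p : ZMod (p ^ 2)) * (c 0 j).down = 0 := by
      have := congrArg (ULift.ringEquiv : ULift.{u} (ZMod (p ^ 2)) ≃+* ZMod (p ^ 2)) h0
      rw [map_mul, map_natCast, map_zero] at this
      exact this
    obtain ⟨n, hn⟩ : ∃ n : ℕ, (n : ZMod (p ^ 2)) = (c 0 j).down :=
      haveI : NeZero (p ^ 2) := ⟨pow_ne_zero _ (Fact.out : p.Prime).ne_zero⟩
      ZMod.natCast_zmod_surjective _
    rw [← hn, ← Nat.cast_mul, ZMod.natCast_eq_zero_iff, pow_two] at h1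
    obtain ⟨d, rfl⟩ := Nat.dvd_of_mul_dvd_mul_left (Fact.out : p.Prime).pos h1
    refine ⟨(d : ULift.{u} (ZMod (p ^ 2))), ?_⟩
    apply (ULift.ringEquiv : ULift.{u} (ZMod (p ^ 2)) ≃+* ZMod (p ^ 2)).injective
    rw [map_mul, map_natCast, map_natCast, ← Nat.cast_mul]
    exact hn.symm
  choose d hd using hann
  refine ⟨∑ j, d j • y j, ?_⟩
  rw [Finset.mul_sum, show a = ∑ j, c 0 j • y j from hy 0]
  refine Finset.sum_congr rfl fun j _ => ?_
  rw [hd j, Algebra.smul_def, Algebra.smul_def, map_mul, map_natCast, mul_assoc]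

theorem natCast_sq_eq_zero (p : ℕ) {A : Type u} [CommRing A] (φ : ULift.{u} (ZMod (p ^ 2)) →+* A) :
    (p : A) * (p : A) = 0 := by
  have h : ((p ^ 2 : ℕ) : ULift.{u} (ZMod (p ^ 2))) = 0 := by
    apply (ULift.ringEquiv : ULift.{u} (ZMod (p ^ 2)) ≃+* ZMod (p ^ 2)).injective
    rw [map_natCast, map_zero, ZMod.natCast_self]
  have := congrArg φ h
  rw [map_natCast, map_zero] at this
  rw [← Nat.cast_mul, ← pow_two, this]

/-- Flatness over a square-zero thickening by `p` from the reduction and the torsion condition. -/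
theorem flat_of_reduction (p : ℕ) {R M : Type u} [CommRing R] [CommRing M] [Algebra R M]
    (hp : (p : R) * (p : R) = 0) (htor : ∀ m : M, (p : M) * m = 0 → ∃ b, m = (p : M) * b)
    (hflat : ((Ideal.quotientMap (Ideal.span {(p : M)}) (algebraMap R M)
      (by rw [Ideal.span_le, Set.singleton_subset_iff, SetLike.mem_coe, Ideal.mem_comap, map_natCast]
          exact Ideal.mem_span_singleton_self _) :
        R ⧸ Ideal.span {(p : R)} →+* M ⧸ Ideal.span {(p : M)})).Flat) :
    Module.Flat R M := by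
  have hI : IsNilpotent (Ideal.span {(p : R)}) := ⟨2, by
    rw [Ideal.span_singleton_pow, pow_two, hp, Ideal.span_singleton_zero]; rfl⟩
  refine LocFlat.flat_criterion_nilpotent M (Ideal.span {(p : R)}) hI ?_ ?_
  · set pI : Ideal.span {(p : R)} := ⟨(p : R), Ideal.mem_span_singleton_self _⟩ with hpI
    have hsurj : ∀ x : (Ideal.span {(p : R)} : Ideal R) ⊗[R] M, ∃ m : M, pI ⊗ₜ[R] m = x := by
      intro x
      induction x using TensorProduct.induction_on with
      | zero => exact ⟨0, TensorProduct.tmul_zero _ _⟩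
      | tmul i m =>
        obtain ⟨i, hi⟩ := i
        obtain ⟨r, rfl⟩ := Ideal.mem_span_singleton'.1 hi
        refine ⟨r • m, ?_⟩
        rw [TensorProduct.tmul_smul, TensorProduct.smul_tmul']
        rfl
      | add x y hx hy =>
        obtain ⟨a, ha⟩ := hx
        obtain ⟨b, hb⟩ := hy
        exact ⟨a + b, by rw [TensorProduct.tmul_add, ha, hb]⟩
    rw [injective_iff_map_eq_zero]
    intro x hx
    obtain ⟨m, rfl⟩ := hsurj x
    have h0 : (p : M) * m = 0 := by
      have := congrArg (TensorProduct.lid R M) hx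
      rw [LinearMap.rTensor_tmul, TensorProduct.lid_tmul, map_zero] at this
      rw [← this, hpI]
      show _ = (p : R) • m
      rw [Algebra.smul_def, map_natCast]
    obtain ⟨b, rfl⟩ := htor m h0
    rw [← map_natCast (algebraMap R M), ← Algebra.smul_def, TensorProduct.tmul_smul,
      TensorProduct.smul_tmul', show (p : R) • pI = 0 from Subtype.ext hp, TensorProduct.zero_tmul]
  · have hmap : (Ideal.span {(p : R)}).map (algebraMap R M) = Ideal.span {(p : M)} := by
      rw [Ideal.map_span, Set.image_singleton, map_natCast]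
    let e := (Algebra.TensorProduct.quotIdealMapEquivQuotTensor M (Ideal.span {(p : R)})).toLinearEquiv
    haveI : Module.Flat (R ⧸ Ideal.span {(p : R)})
        (M ⧸ (Ideal.span {(p : R)}).map (algebraMap R M)) := by
      rw [← RingHom.flat_algebraMap_iff]
      let hb := (Ideal.quotEquivOfEq hmap.symm)
      have heq : algebraMap (R ⧸ Ideal.span {(p : R)})
          (M ⧸ (Ideal.span {(p : R)}).map (algebraMap R M)) = hb.toRingHom.comp
            (Ideal.quotientMap (Ideal.span {(p : M)}) (algebraMap R M)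
              (by rw [Ideal.span_le, Set.singleton_subset_iff, SetLike.mem_coe, Ideal.mem_comap,
                    map_natCast]
                  exact Ideal.mem_span_singleton_self _)) :=
        Ideal.Quotient.ringHom_ext (RingHom.ext fun r => by
          show Ideal.Quotient.mk _ (algebraMap R M r) = hb (Ideal.Quotient.mk _ (algebraMap R M r))
          exact (Ideal.quotEquivOfEq_mk _ _).symm)
      rw [heq]
      exact RingHom.Flat.comp hflat (RingHom.Flat.of_bijective hb.bijective)
    exact Module.Flat.of_linearEquiv e.symm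

/-- An element whose reduction mod `p` is a non-zero-divisor is one, `p` having flat annihilator. -/
theorem mul_eq_zero_imp (p : ℕ) {M A : Type u} [CommRing M] [CommRing A] (π : M →+* A)
    (hπ : RingHom.ker π = Ideal.span {(p : M)}) (hp : (p : M) * (p : M) = 0)
    (htor : ∀ m : M, (p : M) * m = 0 → ∃ b, m = (p : M) * b) {s : M}
    (hs : π s ∈ nonZeroDivisors A) : s ∈ nonZeroDivisors M := by
  have key : ∀ b, s * b = 0 → ∃ c, b = (p : M) * c := fun b hb => by
    have : π b ∈ Ideal.span ({0} : Set A) := by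
      rw [Ideal.span_singleton_zero, Ideal.mem_bot]
      refine (mem_nonZeroDivisors_iff_left.1 hs) _ ?_
      rw [← map_mul, hb, map_zero]
    rw [Ideal.span_singleton_zero, Ideal.mem_bot, ← RingHom.mem_ker, hπ,
      Ideal.mem_span_singleton'] at this
    obtain ⟨c, hc⟩ := this
    exact ⟨c, by rw [← hc, mul_comm]⟩
  rw [mem_nonZeroDivisors_iff_left]
  intro b hb
  obtain ⟨c, rfl⟩ := key b hb
  obtain ⟨d, hd⟩ := htor (s * c) (by rw [← mul_assoc, mul_comm (p : M) s, mul_assoc, hb])
  have : π c = 0 := (mem_nonZeroDivisors_iff_left.1 hs) _ (by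
    rw [← map_mul, ← RingHom.mem_ker, hπ, hd]
    exact Ideal.mul_mem_right _ _ (Ideal.mem_span_singleton_self _))
  rw [← RingHom.mem_ker, hπ, Ideal.mem_span_singleton'] at this
  obtain ⟨e, he⟩ := this
  rw [← he, ← mul_assoc, mul_comm (p : M) e, mul_assoc, hp, mul_zero]

end Algebra

section Scheme

/-- The kernel of the first projection of a cartesian square over a closed immersion. -/
theorem ker_eq_comap {P X Z Y : Scheme.{u}} {a : P ⟶ X} {b : P ⟶ Z} {f : X ⟶ Y} {i : Z ⟶ Y}
    [IsClosedImmersion i] (h : IsPullback a b f i) : a.ker = i.ker.comap f := by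
  rw [← Scheme.IdealSheafData.ker_fst_of_isClosedImmersion i f, ← h.isoPullback_hom_fst,
    Scheme.Hom.ker_comp_of_isIso]

variable {p : ℕ} [Fact p.Prime]

/-- The reduction map `ℤ/p² → ℤ/p`. -/
noncomputable def red (p : ℕ) : ULift.{u} (ZMod (p ^ 2)) →+* ULift.{u} (ZMod p) :=
  (ZMod.castHom (dvd_pow_self p two_ne_zero) (ULift.{u} (ZMod p))).comp
    (ULift.ringEquiv : ULift.{u} (ZMod (p ^ 2)) ≃+* ZMod (p ^ 2)).toRingHom

theorem red_surjective : Function.Surjective (red.{u} p) := fun y => by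
  haveI : NeZero p := ⟨(Fact.out : p.Prime).ne_zero⟩
  obtain ⟨n, hn⟩ := ZMod.natCast_zmod_surjective y.down
  refine ⟨(n : ULift.{u} (ZMod (p ^ 2))), ?_⟩
  apply (ULift.ringEquiv : ULift.{u} (ZMod p) ≃+* ZMod p).injective
  rw [map_natCast, map_natCast]
  exact hn

theorem ker_red : RingHom.ker (red.{u} p) = Ideal.span {(p : ULift.{u} (ZMod (p ^ 2)))} := by
  refine le_antisymm (fun a ha => ?_) ?_
  · haveI : NeZero (p ^ 2) := ⟨pow_ne_zero _ (Fact.out : p.Prime).ne_zero⟩
    obtain ⟨n, hn⟩ := ZMod.natCast_zmod_surjective a.down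
    have hn' : a = (n : ULift.{u} (ZMod (p ^ 2))) := by
      apply (ULift.ringEquiv : ULift.{u} (ZMod (p ^ 2)) ≃+* ZMod (p ^ 2)).injective
      rw [map_natCast]
      exact hn.symm
    rw [RingHom.mem_ker, hn', map_natCast] at ha
    have h2 := congrArg (ULift.ringEquiv : ULift.{u} (ZMod p) ≃+* ZMod p) ha
    rw [map_natCast, map_zero, ZMod.natCast_eq_zero_iff] at h2
    obtain ⟨d, rfl⟩ := h2
    rw [hn', Nat.cast_mul]
    exact Ideal.mul_mem_right _ _ (Ideal.mem_span_singleton_self _)
  · rw [Ideal.span_le, Set.singleton_subset_iff, SetLike.mem_coe, RingHom.mem_ker, map_natCast]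
    apply (ULift.ringEquiv : ULift.{u} (ZMod p) ≃+* ZMod p).injective
    rw [map_natCast, map_zero, ZMod.natCast_self]

instance isClosedImmersion_red : IsClosedImmersion (Spec.map (CommRingCat.ofHom (red.{u} p))) :=
  IsClosedImmersion.spec_of_surjective _ red_surjective

variable {Sl S : Scheme.{u}} {gS : Sl ⟶ Spec (CommRingCat.of (ULift.{u} (ZMod (p ^ 2))))}
  {iS : S ⟶ Sl} {fS : S ⟶ Spec (CommRingCat.of (ULift.{u} (ZMod p)))}

theorem isClosedImmersion_of_base (hS : IsPullback iS fS gS (Spec.map (CommRingCat.ofHom (red.{u} p)))) :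
    IsClosedImmersion iS :=
  MorphismProperty.of_isPullback hS.flip inferInstance

theorem ker_base_ideal (hS : IsPullback iS fS gS (Spec.map (CommRingCat.ofHom (red.{u} p))))
    (U : Sl.affineOpens) : iS.ker.ideal U = Ideal.span {(p : Γ(Sl, U.1))} := by
  rw [ker_eq_comap hS]
  have hi : (Spec.map (CommRingCat.ofHom (red.{u} p))).ker.ideal
      ⟨⊤, isAffineOpen_top (Spec (CommRingCat.of (ULift.{u} (ZMod (p ^ 2)))))⟩ =
      Ideal.span {(p : Γ(Spec (CommRingCat.of (ULift.{u} (ZMod (p ^ 2)))), ⊤))} := by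
    rw [Scheme.Hom.ker_apply]
    show RingHom.ker (Spec.map (CommRingCat.ofHom (red.{u} p))).appTop.hom = _
    let e := (Scheme.ΓSpecIso (CommRingCat.of (ULift.{u} (ZMod (p ^ 2))))).commRingCatIsoToRingEquiv
    have hnat := Scheme.ΓSpecIso_naturality (CommRingCat.ofHom (red.{u} p))
    ext a
    rw [RingHom.mem_ker]
    have ha : e a ∈ RingHom.ker (red.{u} p) ↔
        (Spec.map (CommRingCat.ofHom (red.{u} p))).appTop.hom a = 0 := by
      rw [RingHom.mem_ker, ← map_eq_zero_iff (Scheme.ΓSpecIso (CommRingCat.of (ULift.{u} (ZMod p)))).commRingCatIsoToRingEquiv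
        (RingEquiv.injective _)]
      have := ConcreteCategory.congr_hom hnat a
      exact Iff.of_eq (congrArg (· = 0) this.symm)
    rw [← ha, ker_red, Ideal.mem_span_singleton, Ideal.mem_span_singleton,
      ← map_natCast e, map_dvd_iff]
  rw [IdealSh.Comap.ideal_comap _ gS ⟨⊤, isAffineOpen_top _⟩ U le_top, hi, Ideal.map_span,
    Set.image_singleton, map_natCast]

theorem ker_lift_ideal (hS : IsPullback iS fS gS (Spec.map (CommRingCat.ofHom (red.{u} p))))
    {X Xl : Scheme.{u}} {f : X ⟶ S} {g : Xl ⟶ Sl} {j : X ⟶ Xl} (hX : IsPullback j f g iS)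
    (V : Xl.affineOpens) : j.ker.ideal V = Ideal.span {(p : Γ(Xl, V.1))} := by
  have := isClosedImmersion_of_base hS
  have hj : IsPullback j (f ≫ fS) (g ≫ gS) (Spec.map (CommRingCat.ofHom (red.{u} p))) :=
    hX.paste_vert hS
  exact ker_base_ideal hj V

/-- Sections of a scheme flat over `ℤ/p²`. -/
theorem exists_eq_mul_section {X : Scheme.{u}}
    (g : X ⟶ Spec (CommRingCat.of (ULift.{u} (ZMod (p ^ 2))))) [Flat g] (V : X.affineOpens)
    (a : Γ(X, V.1)) (ha : (p : Γ(X, V.1)) * a = 0) : ∃ b, a = (p : Γ(X, V.1)) * b :=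
  exists_eq_mul_of_flat p
    ((g.appLE ⊤ V.1 le_top).hom.comp
      (Scheme.ΓSpecIso (CommRingCat.of (ULift.{u} (ZMod (p ^ 2))))).inv.hom)
    (RingHom.Flat.comp (RingHom.Flat.of_bijective (ConcreteCategory.bijective_of_isIso _))
      (g.flat_appLE (isAffineOpen_top _) V.2 _)) a ha

omit [Fact p.Prime] in
theorem section_sq_eq_zero {X : Scheme.{u}}
    (g : X ⟶ Spec (CommRingCat.of (ULift.{u} (ZMod (p ^ 2))))) (V : X.Opens) :
    (p : Γ(X, V)) * (p : Γ(X, V)) = 0 :=
  natCast_sq_eq_zero p
    ((g.appLE ⊤ V le_top).hom.comp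
      (Scheme.ΓSpecIso (CommRingCat.of (ULift.{u} (ZMod (p ^ 2))))).inv.hom)

end Scheme

end Groth.Agent.LiftLib.PBase
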