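import Groth.Prelude.Def_Frob
import Groth.Agent.Thick.Unram
import Mathlib.RingTheory.RingHom.Etale
import Mathlib.Algebra.Category.Ring.Constructions

/-!
Étale coordinates on the Frobenius twist.
-/

set_option autoImplicit false
set_option linter.style.haveILetI false

universe u

open CategoryTheory CategoryTheory.Limits AlgebraicGeometry

namespace Groth.Agent.LiftLib.TwistChart

/-- Coefficientwise application of a ring map to a polynomial ring is a base change. -/
theorem isPushout_mvMap (d : ℕ) {A A' : CommRingCat.{u}} (α : A ⟶ A') :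
    IsPushout (CommRingCat.ofHom (MvPolynomial.C : A →+* MvPolynomial (Fin d) A)) α
      (CommRingCat.ofHom (MvPolynomial.map α.hom))
      (CommRingCat.ofHom (MvPolynomial.C : A' →+* MvPolynomial (Fin d) A')) := by
  refine IsPushout.of_isColimit' ⟨by ext; simp⟩ ?_
  refine PushoutCocone.IsColimit.mk _ (fun s => CommRingCat.ofHom
    (MvPolynomial.eval₂Hom s.inr.hom fun i => s.inl (MvPolynomial.X i : MvPolynomial (Fin d) A)))
    (fun s => ?_) (fun s => ?_) (fun s m h1 h2 => ?_)
  · apply CommRingCat.hom_ext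
    apply MvPolynomial.ringHom_ext
    · intro a
      have hc := ConcreteCategory.congr_hom s.condition a
      simp at hc ⊢
      exact hc.symm
    · intro i; simp
  · ext x; simp
  · apply CommRingCat.hom_ext
    apply MvPolynomial.ringHom_ext
    · intro a
      have e := ConcreteCategory.congr_hom h2 a
      simp at e ⊢
      exact e
    · intro i
      have e := ConcreteCategory.congr_hom h1 (MvPolynomial.X i : MvPolynomial (Fin d) A)
      simp at e ⊢
      exact e

variable {X S : Scheme.{u}} (p : ℕ) [Fact p.Prime] [FrobSch.IsCharP S p]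

theorem isAffineHom_frob : IsAffineHom (FrobSch.frob S p) := ⟨fun _ hU => hU⟩

variable (f : X ⟶ S)

/-- Étale coordinates of the twist over a chart. -/
theorem exists_twist_chart (V : X.affineOpens) (O : S.affineOpens) (hle : V.1 ≤ f ⁻¹ᵁ O.1) {n : ℕ}
    (ψ : MvPolynomial (Fin n) Γ(S, O.1) →+* Γ(X, V.1))
    (hψC : ψ.comp MvPolynomial.C = (f.appLE O.1 V.1 hle).hom) (hψe : ψ.Etale) :
    ∃ (_ : IsAffineOpen (pullback.fst f (FrobSch.frob S p) ⁻¹ᵁ V.1))
      (hle' : pullback.fst f (FrobSch.frob S p) ⁻¹ᵁ V.1 ≤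
        pullback.snd f (FrobSch.frob S p) ⁻¹ᵁ O.1)
      (ψ' : MvPolynomial (Fin n) Γ(S, O.1) →+*
        Γ(FrobSch.frobTwist f p, pullback.fst f (FrobSch.frob S p) ⁻¹ᵁ V.1)),
      ψ'.comp MvPolynomial.C =
          ((pullback.snd f (FrobSch.frob S p)).appLE O.1 _ hle').hom ∧
        ψ'.Etale ∧
        ∀ k, ψ' (MvPolynomial.X k) =
          (pullback.fst f (FrobSch.frob S p)).app V.1 (ψ (MvPolynomial.X k)) := by
  haveI := isAffineHom_frob (S := S) p
  haveI : IsAffineHom (pullback.fst f (FrobSch.frob S p)) :=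
    MorphismProperty.pullback_fst f (FrobSch.frob S p) ‹_›
  obtain ⟨h', hpo⟩ := Thick.Unram.isPushout_appLE
    (IsPullback.of_hasPullback f (FrobSch.frob S p)) O.2 V.2 hle
  refine ⟨V.2.preimage _, h', ?_⟩
  let gh : CommRingCat.of (MvPolynomial (Fin n) Γ(S, O.1)) ⟶ Γ(X, V.1) := CommRingCat.ofHom ψ
  have hgC : CommRingCat.ofHom (MvPolynomial.C : Γ(S, O.1) →+* MvPolynomial (Fin n) Γ(S, O.1)) ≫ gh =
      f.appLE O.1 V.1 hle := CommRingCat.hom_ext hψC
  have hA := isPushout_mvMap n ((FrobSch.frob S p).app O.1)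
  let g' := hA.desc (gh ≫ (pullback.fst f (FrobSch.frob S p)).app V.1)
    ((pullback.snd f (FrobSch.frob S p)).appLE _ _ h') (by
      rw [← Category.assoc, hgC]
      exact hpo.w)
  have h1 : CommRingCat.ofHom (MvPolynomial.map (σ := Fin n) ((FrobSch.frob S p).app O.1).hom) ≫ g' =
      gh ≫ (pullback.fst f (FrobSch.frob S p)).app V.1 := hA.inl_desc _ _ _
  have h2 : CommRingCat.ofHom (MvPolynomial.C : Γ(S, O.1) →+* MvPolynomial (Fin n) Γ(S, O.1)) ≫ g' =
      (pullback.snd f (FrobSch.frob S p)).appLE _ _ h' := hA.inr_desc _ _ _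
  have hB : IsPushout gh
      (CommRingCat.ofHom (MvPolynomial.map (σ := Fin n) ((FrobSch.frob S p).app O.1).hom))
      ((pullback.fst f (FrobSch.frob S p)).app V.1) g' := by
    refine IsPushout.of_left (h₁₁ := CommRingCat.ofHom
        (MvPolynomial.C : Γ(S, O.1) →+* MvPolynomial (Fin n) Γ(S, O.1)))
      (h₂₁ := CommRingCat.ofHom (MvPolynomial.C : Γ(S, O.1) →+* MvPolynomial (Fin n) Γ(S, O.1)))
      ?_ h1.symm hA
    rw [hgC]
    exact h2.symm ▸ hpo
  refine ⟨g'.hom, congrArg CommRingCat.Hom.hom h2,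
    ((RingHom.isStableUnderCobaseChange_toMorphismProperty_iff (P := RingHom.Etale)).2
      RingHom.Etale.isStableUnderBaseChange).1 hB.flip hψe, fun k => ?_⟩
  have e := ConcreteCategory.congr_hom h1
    (MvPolynomial.X k : MvPolynomial (Fin n) Γ(S, O.1))
  refine Eq.trans ?_ e
  exact congrArg g'.hom (MvPolynomial.map_X ((FrobSch.frob S p).app O.1).hom k).symm

end Groth.Agent.LiftLib.TwistChart
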